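/-
Monomial elements fixing two roots of the root system of type F4.
-/
import Cfsg.Agent.Lib.Chev.F42Invol.Cells
import Cfsg.Agent.Lib.KnownB.ChevRootsData

set_option autoImplicit false
set_option maxRecDepth 100000
set_option maxHeartbeats 1000000

namespace CfsgLib.Chev.F4Inv

open Cfsg.Lie Matrix CfsgLib.Chev CfsgLib.Chev.F42Invol

variable {K : Type*} [Field K]

local notation "g₄" => stdF4.good

lemma acts_one : Acts g₄ (1 : GL chevF4.Idx K) id := by
  simpa using acts_tor (F := K) g₄ 1

lemma isLong_refl : ∀ i < 4, ∀ q < 48, chevF4.isLong (auxF4.refl i q) = chevF4.isLong q := by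
  decide +kernel

lemma isLong_neg : ∀ q < 48, chevF4.isLong (auxF4.neg q) = chevF4.isLong q := by decide +kernel

/-- monomial elements preserve lengths -/
lemma isLong_acts {n : GL chevF4.Idx K} (hn : n ∈ chevF4.monomialSubgroup K) {τ : ℕ → ℕ} (hτ : Acts g₄ n τ)
    {q : ℕ} (hq : q < chevF4.nroots) : chevF4.isLong (τ q) = chevF4.isLong q :=
  CfsgLib.KnownB.ChevField.acts_preserves g₄ (Q := fun r => chevF4.isLong r = chevF4.isLong q)
    (fun i hi r hr e => (isLong_refl i hi r hr).trans e) hn hτ hq rfl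

/-- the inverse map on roots -/
lemma exists_inverse {n : GL chevF4.Idx K} (hn : n ∈ chevF4.monomialSubgroup K) {τ : ℕ → ℕ}
    (hτ : Acts g₄ n τ) : ∃ ρ, Acts g₄ n⁻¹ ρ ∧ ∀ q < chevF4.nroots, ρ (τ q) = q ∧ τ (ρ q) = q := by
  obtain ⟨ρ, hρ⟩ := exists_acts g₄ (inv_mem hn)
  refine ⟨ρ, hρ, fun q hq => ⟨?_, ?_⟩⟩
  · have := hρ.mul hτ
    rw [inv_mul_cancel] at this
    exact this.unique acts_one hq
  · have := hτ.mul hρ
    rw [mul_inv_cancel] at this
    exact this.unique acts_one hq

/-- roots that keep every fundamental root outside `J` positive when fixed -/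
noncomputable def stabB (J Fx : List ℕ) : Bool :=
  (List.range 4).all fun i => J.contains i || Fx.any fun r => decide (r < 48) && (List.range 48).any fun q =>
    (List.range 4).all (fun j => decide (auxF4.a q j = auxF4.a r j - auxF4.a (chevF4.simple i) j)) &&
    (List.range 48).all fun d => !posB chevF4 auxF4 d || chevF4.isLong d != chevF4.isLong (chevF4.simple i) ||
      (List.range 48).all fun q' => chevF4.isLong q' != chevF4.isLong q ||
        !(List.range 4).all fun j => decide (auxF4.a q' j = auxF4.a r j + auxF4.a d j)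

/-- the reflections in `J` fix `Fx` and permute the other positive roots in the complement of `S` -/
noncomputable def reflB (J Fx S : List ℕ) : Bool :=
  J.all fun i => decide (i < 4) && Fx.all (fun r => auxF4.refl i r == r) &&
    (List.range 48).all fun q => !posB chevF4 auxF4 q || S.contains q ||
      (posB chevF4 auxF4 (auxF4.refl i q) && !S.contains (auxF4.refl i q))

/-- descent for monomial elements fixing the roots in `Fx` -/
theorem stab_descent {J Fx S : List ℕ} (hS : stabB J Fx = true) (hR : reflB J Fx S = true)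
    {P : Subgroup (GL chevF4.Idx K)} (hP : ∀ i ∈ J, nS K g₄ i ∈ P) {n : GL chevF4.Idx K}
    (hn : n ∈ chevF4.monomialSubgroup K) {τ : ℕ → ℕ} (hτ : Acts g₄ n τ) (hfix : ∀ r ∈ Fx, τ r = r) :
    (∀ q, chevF4.IsPosRoot q → q ∉ S → chevF4.IsPosRoot (τ q)) ∧
      ∃ z ∈ P, ∃ d, n = z * tor chevF4 auxF4 d := by
  classical
  suffices H : ∀ N, ∀ (n : GL chevF4.Idx K) (τ : ℕ → ℕ), n ∈ chevF4.monomialSubgroup K → Acts g₄ n τ →
      (∀ r ∈ Fx, τ r = r) → chevF4.posRoots.toFinset.card - posToPos chevF4 τ = N →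
      (∀ q, chevF4.IsPosRoot q → q ∉ S → chevF4.IsPosRoot (τ q)) ∧
        ∃ z ∈ P, ∃ d, n = z * tor chevF4 auxF4 d from H _ n τ hn hτ hfix rfl
  intro N
  induction N using Nat.strong_induction_on with
  | _ N ih =>
    intro n τ hn hτ hfix hN
    by_cases hall : ∀ i < chevF4.rank, chevF4.IsPosRoot (τ (chevF4.simple i))
    · have hd := CfsgLib.KnownB.ChevField.diag_of_simple_pos stdF4 hn hτ hall
      rw [diagonalSubgroup_eq g₄] at hd
      obtain ⟨d, rfl⟩ := hd
      exact ⟨fun q hq _ => by rwa [hτ.unique (acts_tor g₄ d) hq.1], 1, one_mem _, d, (one_mul _).symm⟩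
    push Not at hall
    obtain ⟨i, hi, hni⟩ := hall
    have hp := stdF4.good.simple_lt i hi
    have hlp := hτ.map.1 _ hp
    have hiJ : i ∈ J := by
      simp only [stabB, List.all_eq_true, List.mem_range, Bool.or_eq_true, List.contains_iff_mem,
        List.any_eq_true, Bool.and_eq_true, decide_eq_true_eq, bne_iff_ne, Bool.not_eq_true'] at hS
      rcases hS i hi with h | ⟨r, hr, hr48, q, hq, hq1, hq2⟩
      · exact h
      exfalso
      set d := auxF4.neg (τ (chevF4.simple i)) with hd
      have hdl : d < 48 := stdF4.good.neg_lt _ hlp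
      have hdp : chevF4.IsPosRoot d := (pos_or_pos_neg g₄ hlp).resolve_left hni
      have hlin := hτ.map.lin (i := 1) (k := -1) hr48 hp hq fun j hj => by
        rw [hq1 j hj]; ring
      rcases hq2 d hdl with (h | h) | h
      · rw [(posB_iff g₄ hdl).2 hdp] at h
        exact Bool.noConfusion h
      · exact h (by rw [hd, isLong_neg _ hlp, isLong_acts hn hτ hp])
      · rcases h (τ q) (hτ.map.1 q hq) with h | h
        · exact h (isLong_acts hn hτ hq)
        · have : (List.range 4).all (fun j => decide (auxF4.a (τ q) j = auxF4.a r j + auxF4.a d j)) = true := by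
            simp only [List.all_eq_true, List.mem_range, decide_eq_true_eq]
            intro j hj
            rw [hlin j hj, hfix r hr, hd, stdF4.good.a_neg _ hlp]
            ring
          rw [this] at h
          exact Bool.noConfusion h
    have hRi := List.all_eq_true.1 hR i hiJ
    simp only [Bool.and_eq_true, List.all_eq_true, List.mem_range, beq_iff_eq, Bool.or_eq_true,
      Bool.not_eq_true', decide_eq_true_eq] at hRi
    obtain ⟨⟨-, hfx⟩, hperm⟩ := hRi
    have hσ : Acts g₄ (n * nS K g₄ i) (τ ∘ auxF4.refl i) := hτ.mul (acts_nS g₄ hi)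
    have hlt := posToPos_refl g₄ hσ.map hi (show chevF4.IsPosRoot ((τ ∘ auxF4.refl i) (chevF4.simple i)) by
      rw [Function.comp_apply, refl_simple g₄ hi, hτ.map.map_neg g₄ hp]
      exact (pos_or_pos_neg g₄ hlp).resolve_left hni)
    have hcongr : posToPos chevF4 ((τ ∘ auxF4.refl i) ∘ auxF4.refl i) = posToPos chevF4 τ := by
      unfold posToPos
      refine congrArg Finset.card (Finset.filter_congr fun q hq => ?_)
      rw [Function.comp_apply, Function.comp_apply,
        stdF4.good.refl_refl i hi q (posRoots_mem.1 (List.mem_toFinset.1 hq)).1]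
    have hle : posToPos chevF4 (τ ∘ auxF4.refl i) ≤ chevF4.posRoots.toFinset.card := Finset.card_filter_le _ _
    obtain ⟨hpos, z, hz, d, e⟩ := ih _ (by omega) _ _ (mul_mem hn (nS_mem_monomial g₄ hi)) hσ
      (fun r hr => by rw [Function.comp_apply, hfx r hr, hfix r hr]) rfl
    refine ⟨fun q hq hqS => ?_, ?_⟩
    · rcases hperm q hq.1 with (h | h) | ⟨h1, h2⟩
      · rw [(posB_iff g₄ hq.1).2 hq] at h
        exact Bool.noConfusion h
      · exact absurd (List.contains_iff_mem.1 h) hqS
      · have := hpos _ ((posB_iff g₄ (stdF4.good.refl_lt i hi q hq.1)).1 h1) (by simpa using h2)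
        rwa [Function.comp_apply, stdF4.good.refl_refl i hi q hq.1] at this
    · obtain ⟨d', hd'⟩ := monomial_conj_tor g₄ (nS_mem_monomial g₄ hi) d
      refine ⟨z * (nS K g₄ i)⁻¹, mul_mem hz (inv_mem (hP i hiJ)), d', ?_⟩
      rw [← hd', eq_mul_inv_iff_mul_eq.2 e]
      group

variable [CharP K 2]

/-- a monomial element carrying one commuting product to another keeps marked roots in the list -/
theorem supp_core {L : List ℕ} (hL : (decide L.Nodup && L.all fun r => decide (r < 48) && posB chevF4 auxF4 r &&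
      L.all (cm r)) = true)
    {n : GL chevF4.Idx K} (hn : n ∈ chevF4.monomialSubgroup K) {τ : ℕ → ℕ} (hτ : Acts g₄ n τ)
    {T T' : ℕ → K} (e : n * pw g₄ L T * n⁻¹ = pw g₄ L T') {k : ℕ} (hk : k ∈ L) (hT : T k ≠ 0) :
    τ k ∈ L ∧ T' (τ k) ≠ 0 := by
  classical
  simp only [Bool.and_eq_true, decide_eq_true_eq, List.all_eq_true] at hL
  obtain ⟨hnd, hall⟩ := hL
  obtain ⟨ρ, -, hρ⟩ := exists_inverse hn hτ
  have hr : ∀ r ∈ L, r < chevF4.nroots := fun r hr => (hall r hr).1.1
  have hpos : ∀ r ∈ L, chevF4.IsPosRoot r := fun r h => (posB_iff g₄ (hr r h)).1 (hall r h).1.2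
  have hc : ∀ r ∈ L, ∀ s ∈ L, ∀ t u : K, Commute (X r t) (X s u) :=
    fun r h s h' t u => cm_commute ((hall r h).2 s h') t u
  choose! kk hkk0 hkk using hτ.conj
  set S : ℕ → K := fun s => kk (ρ s) * T (ρ s) with hS
  have hcj : ∀ L' : List ℕ, (∀ r ∈ L', r < chevF4.nroots) → n * pw g₄ L' T * n⁻¹ = pw g₄ (L'.map τ) S := by
    intro L' h'
    induction L' with
    | nil => simp [pw]
    | cons r L' ih =>
      have hr' := h' r List.mem_cons_self
      have ih' := ih fun s hs => h' s (List.mem_cons_of_mem _ hs)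
      simp only [pw, List.map_cons, List.prod_cons, hS] at ih' ⊢
      rw [← conj_mul, ih', hkk r hr', (hρ r hr').1]
  set P : ℕ → Bool := fun r => posB chevF4 auxF4 (τ r)
  set a := L.filter P
  set b := L.filter fun r => !P r
  have haL : ∀ r ∈ a, r ∈ L := fun r h => (List.mem_filter.1 h).1
  have hbL : ∀ r ∈ b, r ∈ L := fun r h => (List.mem_filter.1 h).1
  have hsplit : pw g₄ L T = pw g₄ a T * pw g₄ b T := by
    have hp : (a ++ b).Perm L := List.filter_append_perm P L
    unfold pw
    rw [← List.prod_append, ← List.map_append]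
    refine ((hp.map _).prod_eq' ?_).symm
    rw [List.pairwise_map]
    exact List.Pairwise.imp_of_mem (fun {x y} hx hy _ => hc x (hp.mem_iff.1 hx) y (hp.mem_iff.1 hy) _ _)
      (List.pairwise_of_forall fun _ _ => trivial)
  have hap : ∀ s ∈ a.map τ, chevF4.IsPosRoot s := by
    intro s hs
    obtain ⟨r, hr', rfl⟩ := List.mem_map.1 hs
    exact (posB_iff g₄ (hτ.map.1 r (hr r (haL r hr')))).1 (List.mem_filter.1 hr').2
  have eb : n * pw g₄ b T * n⁻¹ = 1 := by
    have h1 : n * pw g₄ b T * n⁻¹ ∈ chevF4.negUnipotent K := by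
      rw [hcj b fun r h => hr r (hbL r h)]
      refine list_prod_mem fun y hy => ?_
      obtain ⟨s, hs, rfl⟩ := List.mem_map.1 hy
      obtain ⟨r, hr', rfl⟩ := List.mem_map.1 hs
      have hlt := hτ.map.1 r (hr r (hbL r hr'))
      refine xG_mem_negUnipotent g₄ (isNeg_of_not_pos g₄ hlt fun hp => ?_) _
      have := (List.mem_filter.1 hr').2
      simp only [P, (posB_iff g₄ hlt).2 hp, Bool.not_true, Bool.false_eq_true] at this
    have hA : n * pw g₄ a T * n⁻¹ ∈ chevF4.borelSubgroup K := by
      rw [hcj a fun r h => hr r (haL r h)]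
      refine list_prod_mem fun y hy => ?_
      obtain ⟨s, hs, rfl⟩ := List.mem_map.1 hy
      exact xG_mem_borel g₄ (hap s hs) _
    have hR : pw g₄ L T' ∈ chevF4.borelSubgroup K := by
      refine list_prod_mem fun y hy => ?_
      obtain ⟨r, hr', rfl⟩ := List.mem_map.1 hy
      exact xG_mem_borel g₄ (hpos r hr') _
    have h2 : n * pw g₄ b T * n⁻¹ = (n * pw g₄ a T * n⁻¹)⁻¹ * pw g₄ L T' := by
      rw [← e, hsplit]
      group
    exact Subgroup.mem_bot.1 ((borel_inf_negUnipotent stdF4).le
      (Subgroup.mem_inf.2 ⟨h2 ▸ mul_mem (inv_mem hA) hR, h1⟩))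
  have eb' : pw g₄ b T = 1 := by
    have := congrArg (fun x => n⁻¹ * x * n) eb
    simpa [mul_assoc] using this
  have hkb : k ∉ b := fun hkb => by
    have e1 : pw g₄ b T = pw g₄ b (fun _ => 0) := by rw [eb']; simp [pw, xG_zero]
    rw [prod_to_pos (hnd.filter _) (fun r h => hpos r (hbL r h)) (fun r h s h' => hc r (hbL r h) s (hbL s h')),
      prod_to_pos (hnd.filter _) (fun r h => hpos r (hbL r h)) (fun r h s h' => hc r (hbL r h) s (hbL s h'))] at e1
    have := pw_inj stdF4 upList_posRoots e1 k (posRoots_mem.2 (hpos k hk))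
    rw [if_pos (List.contains_iff_mem.2 hkb), if_pos (List.contains_iff_mem.2 hkb)] at this
    exact hT this
  have hP : P k = true := by
    by_contra hP
    exact hkb (List.mem_filter.2 ⟨hk, by simpa using hP⟩)
  have ea : pw g₄ (a.map τ) S = pw g₄ L T' := by
    rw [← hcj a fun r h => hr r (haL r h), ← e, hsplit, eb', mul_one]
  have hnd' : (a.map τ).Nodup := by
    refine (List.nodup_map_iff_inj_on (hnd.filter _)).2 fun x hx y hy exy => ?_
    rw [← (hρ x (hr x (haL x hx))).1, ← (hρ y (hr y (haL y hy))).1, exy]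
  have hac : ∀ r ∈ a.map τ, ∀ s ∈ a.map τ, ∀ t u : K, Commute (X r t) (X s u) := by
    intro r' h1 s' h2 t u
    obtain ⟨r, hr', rfl⟩ := List.mem_map.1 h1
    obtain ⟨s, hs', rfl⟩ := List.mem_map.1 h2
    have hr0 := hr r (haL r hr')
    have hs0 := hr s (haL s hs')
    have := (hc r (haL r hr') s (haL s hs') ((kk r)⁻¹ * t) ((kk s)⁻¹ * u)).map (MulAut.conj n).toMonoidHom
    simp only [MulEquiv.coe_toMonoidHom, MulAut.conj_apply] at this
    rwa [hkk r hr0, hkk s hs0, ← mul_assoc, ← mul_assoc, mul_inv_cancel₀ (hkk0 r hr0),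
      mul_inv_cancel₀ (hkk0 s hs0), one_mul, one_mul] at this
  rw [prod_to_pos hnd' hap hac, prod_to_pos hnd hpos hc] at ea
  have hka : τ k ∈ a.map τ := List.mem_map.2 ⟨k, List.mem_filter.2 ⟨hk, hP⟩, rfl⟩
  have := pw_inj stdF4 upList_posRoots ea (τ k) (posRoots_mem.2 (hap _ hka))
  rw [if_pos (List.contains_iff_mem.2 hka), hS] at this
  dsimp only at this
  rw [(hρ k (hr k hk)).1] at this
  by_cases hL' : τ k ∈ L
  · rw [if_pos (List.contains_iff_mem.2 hL')] at this
    exact ⟨hL', this ▸ mul_ne_zero (hkk0 k (hr k hk)) hT⟩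
  · rw [if_neg (by simpa using hL')] at this
    exact absurd this (mul_ne_zero (hkk0 k (hr k hk)) hT)

end CfsgLib.Chev.F4Inv
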