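/-
Centralisers of the two mixed involutions of the group of type F4.
-/
import Cfsg.Agent.Lib.Chev.F4Invol.Stab
import Cfsg.Agent.Lib.Chev.F42Invol.Cent

set_option autoImplicit false
set_option maxRecDepth 100000
set_option maxHeartbeats 2000000
set_option linter.unusedSimpArgs false

namespace CfsgLib.Chev.F4Inv

open Cfsg.Lie Matrix CfsgLib.Chev CfsgLib.Chev.F42Invol

variable {K : Type*} [Field K] [CharP K 2]

local notation "g₄" => stdF4.good

lemma okW : (decide L44.Nodup && L44.all fun r => decide (r < 48) && posB chevF4 auxF4 r && L44.all (cm r)) = true := by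
  decide +kernel

lemma okV : (decide L39.Nodup && L39.all fun r => decide (r < 48) && posB chevF4 auxF4 r && L39.all (cm r)) = true := by
  decide +kernel

lemma stabW : stabB [1, 2] L44 = true := by decide +kernel
lemma reflW : reflB [1, 2] L44 [27, 25, 28, 30] = true := by decide +kernel
lemma stabV : stabB [0, 3] [39, 45] = true := by decide +kernel
lemma reflV : reflB [0, 3] [39, 45] [33, 24] = true := by decide +kernel

omit [CharP K 2] in
lemma comm_negRoot [CharP K 2] {r s : ℕ}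
    (h : (decide (r < 48) && decide (s < 48) && (s != r) && (s != auxF4.neg r) &&
      CfsgLib.KnownB.ChevField.evenTerms auxF4 r s) = true) (t u : K) : Commute (X s u) (X r t) := by
  simp only [Bool.and_eq_true, decide_eq_true_eq, bne_iff_ne] at h
  obtain ⟨⟨⟨⟨hr, hs⟩, h1⟩, h2⟩, he⟩ := h
  have := CfsgLib.KnownB.ChevField.commute_xG stdF4 hr hs h1 h2 (CfsgLib.KnownB.ChevField.evenTerms_zero (F := K) he) t u
  first | exact this | exact this.symm

omit [CharP K 2] in
lemma chi_F4 (e : Fin chevF4.rank → Kˣ) (r : ℕ) :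
    chi chevF4 auxF4 e r = e (F42.ix 0) ^ auxF4.cart 0 r * e (F42.ix 1) ^ auxF4.cart 1 r *
      e (F42.ix 2) ^ auxF4.cart 2 r * e (F42.ix 3) ^ auxF4.cart 3 r := by
  show (∏ i : Fin 4, e (F42.ix i) ^ auxF4.cart i.val r) = _
  simp [Fin.prod_univ_four]

omit [CharP K 2] in
/-- a torus element trivial outside two indices -/
lemma tor_mem_of {P : Subgroup (GL chevF4.Idx K)} {i j : ℕ} {e : Fin chevF4.rank → Kˣ}
    (hi : ∀ c, hG g₄ (chevF4.simple i) c ∈ P) (hj : ∀ c, hG g₄ (chevF4.simple j) c ∈ P)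
    (he : ∀ k : Fin chevF4.rank, k.val ≠ i → k.val ≠ j → e k = 1) : tor chevF4 auxF4 e ∈ P := by
  rw [tor_eq_prod_hG g₄ e]
  refine list_prod_mem fun y hy => ?_
  obtain ⟨k, -, rfl⟩ := List.mem_map.1 hy
  by_cases h : k.val = i
  · rw [h]; exact hi _
  by_cases h' : k.val = j
  · rw [h']; exact hj _
  rw [hG_simple g₄, he k h h', Pi.mulSingle_one, map_one]
  exact one_mem _

omit [CharP K 2] in
lemma nS_mem_of {P : Subgroup (GL chevF4.Idx K)} {i : ℕ} (hi : i < chevF4.rank)
    (h1 : ∀ t, X (chevF4.simple i) t ∈ P) (h2 : ∀ t, X (auxF4.neg (chevF4.simple i)) t ∈ P) (c : K) :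
    nG g₄ (chevF4.simple i) c ∈ P := by
  unfold nG
  rw [stdF4.good.neg_eq _ (stdF4.good.simple_lt i hi)]
  exact mul_mem (mul_mem (h1 _) (h2 _)) (h1 _)

/-- the generators of the centraliser of the mixed highest involution -/
noncomputable def PW (K : Type*) [Field K] : Subgroup (GL chevF4.Idx K) :=
  chevF4.posUnipotent K ⊔ chevF4.rootSubgroup K 20 ⊔ chevF4.rootSubgroup K 22

lemma central_W {y : GL chevF4.Idx K} (hy : y ∈ chevF4.posUnipotent K) (T : ℕ → K) :
    y * pw g₄ L44 T * y⁻¹ = pw g₄ L44 T := central44 hy T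

omit [CharP K 2] in
lemma PW_roots (t : K) : X 27 t ∈ PW K ∧ X 20 t ∈ PW K ∧ X 25 t ∈ PW K ∧ X 22 t ∈ PW K := by
  have hp : ∀ r, chevF4.IsPosRoot r → X r t ∈ PW K := fun r hr =>
    Subgroup.mem_sup_left (Subgroup.mem_sup_left (xG_mem_posUnipotent g₄ hr t))
  exact ⟨hp 27 ((posB_iff g₄ (by decide +kernel)).1 (by decide +kernel)),
    Subgroup.mem_sup_left (Subgroup.mem_sup_right (xG_mem_rootSubgroup g₄ 20 t)),
    hp 25 ((posB_iff g₄ (by decide +kernel)).1 (by decide +kernel)),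
    Subgroup.mem_sup_right (xG_mem_rootSubgroup g₄ 22 t)⟩

lemma PW_le : PW K ≤ chevF4.group K ⊓ Subgroup.centralizer {pw g₄ L44 fun _ => (1 : K)} := by
  refine sup_le (sup_le (fun y hy => ?_) ?_) ?_
  · exact Subgroup.mem_inf.2 ⟨posUnipotent_le_group g₄ hy,
      Subgroup.mem_centralizer_singleton_iff.2 (mul_inv_eq_iff_eq_mul.1 (central_W hy _))⟩
  all_goals
    intro y hy
    obtain ⟨t, rfl⟩ := (mem_rootSubgroup_iff g₄).1 hy
    refine Subgroup.mem_inf.2 ⟨xG_mem_group g₄ _ t, Subgroup.mem_centralizer_singleton_iff.2 ?_⟩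
    exact Commute.list_prod_right _ _ fun z hz => by
      obtain ⟨s, hs, rfl⟩ := List.mem_map.1 hz
      simp only [L44, List.mem_cons, List.not_mem_nil, or_false] at hs
      rcases hs with rfl | rfl <;> exact comm_negRoot (by decide +kernel) _ _

omit [CharP K 2] in
lemma PW_facts : (∀ i ∈ [1, 2], nS K g₄ i ∈ PW K) ∧ (∀ i ∈ [1, 2], ∀ c, hG g₄ (chevF4.simple i) c ∈ PW K) := by
  have hn : ∀ i ∈ [1, 2], ∀ c, nG g₄ (chevF4.simple i) c ∈ PW K := by
    intro i hi c
    simp only [List.mem_cons, List.not_mem_nil, or_false] at hi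
    rcases hi with rfl | rfl
    · refine nS_mem_of (by decide) (fun t => ?_) (fun t => ?_) c
      · rw [show chevF4.simple 1 = 27 by decide +kernel]; exact (PW_roots t).1
      · rw [show auxF4.neg (chevF4.simple 1) = 20 by decide +kernel]; exact (PW_roots t).2.1
    · refine nS_mem_of (by decide) (fun t => ?_) (fun t => ?_) c
      · rw [show chevF4.simple 2 = 25 by decide +kernel]; exact (PW_roots t).2.2.1
      · rw [show auxF4.neg (chevF4.simple 2) = 22 by decide +kernel]; exact (PW_roots t).2.2.2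
  exact ⟨fun i hi => hn i hi 1, fun i hi c => mul_mem (hn i hi _) (hn i hi _)⟩

/-- the centraliser of the mixed highest involution -/
theorem cent_W : chevF4.group K ⊓ Subgroup.centralizer {pw g₄ L44 fun _ => (1 : K)} = PW K := by
  refine le_antisymm (fun y hy => ?_) PW_le
  obtain ⟨hyG, hyc⟩ := Subgroup.mem_inf.1 hy
  obtain ⟨b, hb, n, hn, τ, hτ, u, hu, rfl⟩ := normal_form_exists stdF4 hyG
  obtain ⟨v, hv, c, rfl⟩ := (mem_borel_iff g₄).1 hb
  have hu' : u ∈ chevF4.posUnipotent K := UP_toNeg_le g₄ τ hu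
  set w := pw g₄ L44 fun _ => (1 : K)
  have hyz : v * tor chevF4 auxF4 c * n * u * w * (v * tor chevF4 auxF4 c * n * u)⁻¹ = w :=
    mul_inv_eq_iff_eq_mul.2 (Subgroup.mem_centralizer_singleton_iff.1 hyc)
  have key : n * w * n⁻¹ = pw g₄ L44 fun r => (chi chevF4 auxF4 c⁻¹ r : K) * 1 := by
    rw [← tor_pw c⁻¹ (L := L44) (by decide), map_inv]
    change _ = _ * w * _
    have h1 : u * w * u⁻¹ = w := central_W hu' _
    have h2 : v⁻¹ * w * v⁻¹⁻¹ = w := central_W (inv_mem hv) _
    conv_lhs => rw [← h1]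
    conv_rhs => rw [← h2]
    conv_rhs => rw [← hyz]
    group
  have h44 := (supp_core okW hn hτ key (k := 44) (by decide) one_ne_zero).1
  have h47 := (supp_core okW hn hτ key (k := 47) (by decide) one_ne_zero).1
  have hfix : ∀ r ∈ L44, τ r = r := by
    intro r hr
    have hlen := isLong_acts hn hτ (show r < chevF4.nroots by revert r; decide +kernel)
    simp only [L44, List.mem_cons, List.not_mem_nil, or_false] at hr h44 h47
    rcases hr with rfl | rfl
    · exact h44.resolve_right fun e => absurd hlen (by rw [e]; decide +kernel)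
    · exact h47.resolve_left fun e => absurd hlen (by rw [e]; decide +kernel)
  obtain ⟨-, z, hz, d, rfl⟩ := stab_descent stabW reflW PW_facts.1 hn hτ hfix
  set e := c * d with he
  have hU : chevF4.posUnipotent K ≤ PW K := le_sup_left.trans le_sup_left
  have hPn : ∀ (e : Fin chevF4.rank → Kˣ), ∀ x ∈ PW K, tor chevF4 auxF4 e * x * (tor chevF4 auxF4 e)⁻¹ ∈ PW K := by
    intro e
    suffices PW K ≤ (PW K).comap (MulAut.conj (tor chevF4 auxF4 e)).toMonoidHom from fun x hx => this hx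
    refine sup_le (sup_le (fun x hx => hU (tor_conj_posUnipotent g₄ e hx)) ?_) ?_
    all_goals
      intro x hx
      obtain ⟨t, rfl⟩ := (mem_rootSubgroup_iff g₄).1 hx
      show tor chevF4 auxF4 e * _ * (tor chevF4 auxF4 e)⁻¹ ∈ PW K
      rw [tor_conj_xG g₄ e (by decide +kernel)]
    · exact (PW_roots _).2.1
    · exact (PW_roots _).2.2.2
  set z' := v * (tor chevF4 auxF4 c * z * (tor chevF4 auxF4 c)⁻¹) *
    (tor chevF4 auxF4 e * u * (tor chevF4 auxF4 e)⁻¹)
  have hz' : z' ∈ PW K := mul_mem (mul_mem (hU hv) (hPn c z hz)) (hU (tor_conj_posUnipotent g₄ e hu'))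
  have ey : v * tor chevF4 auxF4 c * (z * tor chevF4 auxF4 d) * u = z' * tor chevF4 auxF4 e := by
    simp only [z', e, map_mul]
    group
  rw [ey] at hyz ⊢
  have h3 : tor chevF4 auxF4 e * w * (tor chevF4 auxF4 e)⁻¹ = w := by
    have hc := Subgroup.mem_centralizer_singleton_iff.1 (inv_mem (PW_le hz').2)
    calc tor chevF4 auxF4 e * w * (tor chevF4 auxF4 e)⁻¹
        = z'⁻¹ * (z' * tor chevF4 auxF4 e * w * (z' * tor chevF4 auxF4 e)⁻¹) * z' := by group
      _ = z'⁻¹ * w * z' := by rw [hyz]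
      _ = w := by rw [hc, inv_mul_cancel_right]
  rw [tor_pw e (L := L44) (by decide)] at h3
  have hk : ∀ r ∈ L44, (chi chevF4 auxF4 e r : K) = 1 := by
    intro r hr
    have hp : ∀ r ∈ L44, chevF4.IsPosRoot r := fun r hr =>
      (posB_iff g₄ (by revert r; decide +kernel)).1 (by revert r; decide +kernel)
    have hcm : ∀ r ∈ L44, ∀ s ∈ L44, ∀ t u : K, Commute (X r t) (X s u) := fun r hr s hs t u =>
      cm_commute (by revert r s; decide +kernel) t u
    change _ = pw g₄ L44 (fun _ => (1 : K)) at h3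
    rw [prod_to_pos (by decide) hp hcm, prod_to_pos (by decide) hp hcm] at h3
    have := pw_inj stdF4 upList_posRoots h3 r (posRoots_mem.2 (hp r hr))
    rwa [if_pos (List.contains_iff_mem.2 hr), if_pos (List.contains_iff_mem.2 hr), mul_one] at this
  refine mul_mem hz' (tor_mem_of (PW_facts.2 1 (by simp)) (PW_facts.2 2 (by simp)) fun k h1 h2 => ?_)
  have hk4 := hk 44 (by decide)
  have hk7 := hk 47 (by decide)
  rw [chi_F4, show auxF4.cart 0 44 = 1 by decide +kernel, show auxF4.cart 1 44 = 0 by decide +kernel,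
    show auxF4.cart 2 44 = 0 by decide +kernel, show auxF4.cart 3 44 = 0 by decide +kernel] at hk4
  rw [chi_F4, show auxF4.cart 0 47 = 0 by decide +kernel, show auxF4.cart 1 47 = 0 by decide +kernel,
    show auxF4.cart 2 47 = 0 by decide +kernel, show auxF4.cart 3 47 = 1 by decide +kernel] at hk7
  simp only [zpow_one, zpow_zero, mul_one, one_mul, Units.val_eq_one] at hk4 hk7
  revert h1 h2
  fin_cases k <;> intro h1 h2
  exacts [hk4, absurd rfl h1, absurd rfl h2, hk7]

/-- roots of the positive part of the centraliser of the other mixed involution -/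
def posV : List ℕ := [28, 30, 37, 32, 35, 31, 40, 46, 39, 45, 29, 41, 44, 47, 38, 43, 36, 42, 33, 24]

/-- the generators of the centraliser of the other mixed involution -/
noncomputable def PV (K : Type*) [Field K] : Subgroup (GL chevF4.Idx K) :=
  chevF4.rootSubgroup K 33 ⊔ chevF4.rootSubgroup K 14 ⊔ chevF4.rootSubgroup K 24 ⊔ chevF4.rootSubgroup K 23 ⊔
    Subgroup.closure {g : GL chevF4.Idx K | ∃ (r : ℕ) (c : K), chevF4.IsPosRoot r ∧ r ∉ [27, 25, 34, 26] ∧
      (g : Matrix chevF4.Idx chevF4.Idx K) = chevF4.x K r c}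

omit [CharP K 2] in
lemma PV_roots {r : ℕ} (hr : r ∈ posV ++ [14, 23]) (t : K) : X r t ∈ PV K := by
  rcases List.mem_append.1 hr with h | h
  · refine Subgroup.mem_sup_right (Subgroup.subset_closure ⟨r, t, ?_, ?_, xG_val g₄ r t⟩)
    · exact (posB_iff g₄ (by revert r; decide +kernel)).1 (by revert r; decide +kernel)
    · revert r; decide
  · simp only [List.mem_cons, List.not_mem_nil, or_false] at h
    rcases h with rfl | rfl
    · exact Subgroup.mem_sup_left (Subgroup.mem_sup_left (Subgroup.mem_sup_left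
        (Subgroup.mem_sup_right (xG_mem_rootSubgroup g₄ 14 t))))
    · exact Subgroup.mem_sup_left (Subgroup.mem_sup_right (xG_mem_rootSubgroup g₄ 23 t))

lemma PV_le : PV K ≤ chevF4.group K ⊓ Subgroup.centralizer {X 39 (1 : K) * X 45 1} := by
  have key : ∀ r ∈ posV ++ [14, 23], ∀ t : K,
      X r t ∈ chevF4.group K ⊓ Subgroup.centralizer {X 39 (1 : K) * X 45 1} := by
    intro r hr t
    refine Subgroup.mem_inf.2 ⟨xG_mem_group g₄ _ t, Subgroup.mem_centralizer_singleton_iff.2 ?_⟩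
    rcases List.mem_append.1 hr with h | h
    · exact (Commute.mul_right (cm_commute (by revert r; decide +kernel) t 1)
        (cm_commute (by revert r; decide +kernel) t 1)).eq
    · exact (Commute.mul_right (comm_negRoot (by revert r; decide +kernel) _ _)
        (comm_negRoot (by revert r; decide +kernel) _ _)).eq
  refine sup_le (sup_le (sup_le (sup_le ?_ ?_) ?_) ?_) ((Subgroup.closure_le _).2 ?_)
  iterate 4
    intro y hy
    obtain ⟨t, rfl⟩ := (mem_rootSubgroup_iff g₄).1 hy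
    exact key _ (by decide) t
  rintro y ⟨r, t, hr, hne, hy⟩
  obtain rfl := (eq_xG_iff g₄).1 hy
  refine key r ?_ t
  have := posRoots_mem.2 hr
  rw [posRoots_eq] at this
  obtain ⟨i, hi, rfl⟩ := List.mem_map.1 this
  rw [List.mem_range] at hi
  exact (by decide : ∀ i < 24, i + 24 ∉ [27, 25, 34, 26] → i + 24 ∈ posV ++ [14, 23]) i hi hne

omit [CharP K 2] in
lemma PV_facts : (∀ i ∈ [0, 3], nS K g₄ i ∈ PV K) ∧ (∀ i ∈ [0, 3], ∀ c, hG g₄ (chevF4.simple i) c ∈ PV K) := by
  have hn : ∀ i ∈ [0, 3], ∀ c, nG g₄ (chevF4.simple i) c ∈ PV K := fun i hi c =>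
    nS_mem_of (by revert i; decide) (fun t => PV_roots (by revert i; decide +kernel) t)
      (fun t => PV_roots (by revert i; decide +kernel) t) c
  exact ⟨fun i hi => hn i hi 1, fun i hi c => mul_mem (hn i hi _) (hn i hi _)⟩

lemma pair_check : ∀ a ∈ [39, 40, 44], ∀ b ∈ [45, 46, 47],
    (a = 39 ∧ b = 45) ∨ ∃ d ∈ List.range 48, ∀ j < 4, auxF4.a d j = auxF4.a b j - auxF4.a a j := by
  decide +kernel

lemma no_diff : ∀ d < 48, ∃ j < 4, auxF4.a d j ≠ auxF4.a 45 j - auxF4.a 39 j := by decide +kernel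

variable [Fintype K]

lemma coord45 {u : GL chevF4.Idx K} {T₀ T₁ : ℕ → K}
    (hu : u ∈ chevF4.posUnipotent K) (hT₀ : T₀ 39 = 1) (e₀ : p3 K = pw g₄ L39 T₀)
    (e : u * (X 39 (1 : K) * X 45 1) * u⁻¹ = pw g₄ L39 T₁) : T₁ 45 = 1 := by
  obtain ⟨a0, b0, c1, a2, b2, c3, a4, b4, c5, a6, b6, c7, rfl⟩ := exists_Z hu
  rw [mul_inv_eq_iff_eq_mul] at e
  simp only [pw, L39, List.map_cons, List.map_nil, List.prod_cons, List.prod_nil] at e
  unfold Z at e
  revert e
  sortX
  intro e
  obtain ⟨-, -, -, -, -, h45, -⟩ := flat_inj e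
  linear_combination -h45
lemma stab_coords {a0 b0 c1 a2 b2 c3 a4 b4 c5 a6 b6 c7 : T2 K} {a b : K}
    (e : Z a0 b0 c1 a2 b2 c3 a4 b4 c5 a6 b6 c7 * (X 39 a * X 45 b) =
      X 39 (1 : K) * X 45 1 * Z a0 b0 c1 a2 b2 c3 a4 b4 c5 a6 b6 c7) :
    a = 1 ∧ b = 1 ∧ ((a0.1 = 0 ∧ a0.2 = 0) ∧ (a6.1 = 0 ∧ a6.2 = 0)) ∧ True := by
  unfold Z at e
  revert e
  sortX
  intro e
  obtain ⟨-, -, -, -, hb2, hc3, -, hb4, -, -, -, -⟩ := Z_inj (a0 := (_, _)) (b0 := (_, _)) (c1 := (_, _))
    (a2 := (_, _)) (b2 := (_, _)) (c3 := (_, _)) (a4 := (_, _)) (b4 := (_, _)) (c5 := (_, _)) (a6 := (_, _))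
    (b6 := (_, _)) (c7 := (_, _)) (a0' := (_, _)) (b0' := (_, _)) (c1' := (_, _)) (a2' := (_, _))
    (b2' := (_, _)) (c3' := (_, _)) (a4' := (_, _)) (b4' := (_, _)) (c5' := (_, _)) (a6' := (_, _))
    (b6' := (_, _)) (c7' := (_, _)) e
  simp only [Prod.mk.injEq] at hb2 hc3 hb4
  obtain ⟨h40, h46⟩ := hb2
  obtain ⟨h39, h45⟩ := hc3
  obtain ⟨h44, h47⟩ := hb4
  have ha : a = 1 := by linear_combination h39
  have hb : b = 1 := by linear_combination h45
  subst ha hb
  simp only [one_mul, mul_one, one_pow] at h40 h46 h44 h47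
  refine ⟨rfl, rfl, ⟨⟨?_, ?_⟩, ?_, ?_⟩, trivial⟩
  · linear_combination -h40
  · linear_combination -h46
  · linear_combination h44
  · linear_combination h47


/-- the centraliser of the other mixed involution -/
theorem cent_V : chevF4.group K ⊓ Subgroup.centralizer {X 39 (1 : K) * X 45 1} = PV K := by
  refine le_antisymm (fun y hy => ?_) PV_le
  obtain ⟨hyG, hyc⟩ := Subgroup.mem_inf.1 hy
  obtain ⟨b, hb, n, hn, τ, hτ, u, hu, rfl⟩ := normal_form_exists stdF4 hyG
  obtain ⟨v, hv, c, rfl⟩ := (mem_borel_iff g₄).1 hb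
  have hu' : u ∈ chevF4.posUnipotent K := UP_toNeg_le g₄ τ hu
  set x := X 39 (1 : K) * X 45 1 with hx
  have hyz : v * tor chevF4 auxF4 c * n * u * x * (v * tor chevF4 auxF4 c * n * u)⁻¹ = x :=
    mul_inv_eq_iff_eq_mul.2 (Subgroup.mem_centralizer_singleton_iff.1 hyc)
  obtain ⟨T₀, hT₀, e₀⟩ := p3_eq (K := K)
  obtain ⟨T₁, hT₁, e₁⟩ := conj_S39 hu' hT₀
  obtain ⟨T₂, hT₂, e₂⟩ := conj_S39 (inv_mem hv) hT₀
  rw [← e₀] at e₁ e₂
  change u * x * u⁻¹ = _ at e₁
  change v⁻¹ * x * v⁻¹⁻¹ = _ at e₂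
  have key : n * pw g₄ L39 T₁ * n⁻¹ = pw g₄ L39 fun r => (chi chevF4 auxF4 c⁻¹ r : K) * T₂ r := by
    rw [← tor_pw c⁻¹ (L := L39) (by decide), map_inv, ← e₁, ← e₂]
    conv_rhs => rw [← hyz]
    group
  have h45 : T₁ 45 = 1 := coord45 hu' hT₀ e₀ e₁
  have hT39 : T₁ 39 ≠ 0 := by rw [hT₁]; exact one_ne_zero
  have h39' := (supp_core okV hn hτ key (k := 39) (by decide) hT39).1
  have h45' := (supp_core okV hn hτ key (k := 45) (by decide) (by rw [h45]; exact one_ne_zero)).1
  have ha : τ 39 ∈ [39, 40, 44] := by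
    have := isLong_acts hn hτ (show 39 < chevF4.nroots by decide +kernel)
    revert h39' this
    generalize τ 39 = a
    revert a
    intro a h
    simp only [L39, List.mem_cons, List.not_mem_nil, or_false] at h
    rcases h with rfl | rfl | rfl | rfl | rfl | rfl <;> decide +kernel
  have hb' : τ 45 ∈ [45, 46, 47] := by
    have := isLong_acts hn hτ (show 45 < chevF4.nroots by decide +kernel)
    revert h45' this
    generalize τ 45 = a
    revert a
    intro a h
    simp only [L39, List.mem_cons, List.not_mem_nil, or_false] at h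
    rcases h with rfl | rfl | rfl | rfl | rfl | rfl <;> decide +kernel
  have hfix : ∀ r ∈ [39, 45], τ r = r := by
    rcases pair_check _ ha _ hb' with ⟨e1, e2⟩ | ⟨d, hd, hde⟩
    · simp [e1, e2]
    exfalso
    rw [List.mem_range] at hd
    obtain ⟨ρ, hρ, hinv⟩ := exists_inverse hn hτ
    obtain ⟨j, hj, hne⟩ := no_diff (ρ d) (hρ.map.1 d hd)
    refine hne ?_
    have := hρ.map.lin (i := 1) (k := -1) (hτ.map.1 45 (by decide +kernel)) (hτ.map.1 39 (by decide +kernel)) hd
      (fun l hl => by rw [hde l hl]; ring) j hj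
    rw [(hinv 45 (by decide +kernel)).1, (hinv 39 (by decide +kernel)).1] at this
    rw [this]; ring
  obtain ⟨hpos, z, hz, d, rfl⟩ := stab_descent stabV reflV PV_facts.1 hn hτ hfix
  have huP : u ∈ PV K := by
    refine UP_le (fun r t hr => ?_) hu
    have hr' : r ∈ [33, 24] := by
      by_contra h
      exact not_pos_of_isNeg g₄ hr.2 (hpos r hr.1 h)
    exact PV_roots ((by decide : ∀ r ∈ [33, 24], r ∈ posV ++ [14, 23]) r hr') t
  have hPn : ∀ (e : Fin chevF4.rank → Kˣ), ∀ x ∈ PV K, tor chevF4 auxF4 e * x * (tor chevF4 auxF4 e)⁻¹ ∈ PV K := by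
    intro e
    suffices PV K ≤ (PV K).comap (MulAut.conj (tor chevF4 auxF4 e)).toMonoidHom from fun x hx => this hx
    have hk : ∀ r ∈ posV ++ [14, 23], ∀ t : K, tor chevF4 auxF4 e * X r t * (tor chevF4 auxF4 e)⁻¹ ∈ PV K := by
      intro r hr t
      rw [tor_conj_xG g₄ e (by revert r; decide +kernel)]
      exact PV_roots hr _
    refine sup_le (sup_le (sup_le (sup_le ?_ ?_) ?_) ?_) ((Subgroup.closure_le _).2 ?_)
    iterate 4
      intro x hx
      obtain ⟨t, rfl⟩ := (mem_rootSubgroup_iff g₄).1 hx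
      exact hk _ (by decide) t
    rintro x ⟨r, t, hr, hne, hx⟩
    obtain rfl := (eq_xG_iff g₄).1 hx
    refine hk r ?_ t
    have := posRoots_mem.2 hr
    rw [posRoots_eq] at this
    obtain ⟨i, hi, rfl⟩ := List.mem_map.1 this
    rw [List.mem_range] at hi
    exact (by decide : ∀ i < 24, i + 24 ∉ [27, 25, 34, 26] → i + 24 ∈ posV ++ [14, 23]) i hi hne
  set e := c * d with he
  set z' := (tor chevF4 auxF4 c * z * (tor chevF4 auxF4 c)⁻¹) * (tor chevF4 auxF4 e * u * (tor chevF4 auxF4 e)⁻¹)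
  have hz' : z' ∈ PV K := mul_mem (hPn c z hz) (hPn e u huP)
  have ey : v * tor chevF4 auxF4 c * (z * tor chevF4 auxF4 d) * u = v * z' * tor chevF4 auxF4 e := by
    simp only [z', e, map_mul]
    group
  have ey' : v * z' * tor chevF4 auxF4 e =
      v * tor chevF4 auxF4 e * ((tor chevF4 auxF4 e)⁻¹ * z' * tor chevF4 auxF4 e) := by group
  have hz'' : (tor chevF4 auxF4 e)⁻¹ * z' * tor chevF4 auxF4 e ∈ PV K := by
    have := hPn e⁻¹ z' hz'
    rwa [map_inv, inv_inv] at this
  rw [ey, ey'] at hyz ⊢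
  set z'' := (tor chevF4 auxF4 e)⁻¹ * z' * tor chevF4 auxF4 e
  have hzc : z'' * x * z''⁻¹ = x := mul_inv_eq_iff_eq_mul.2 (Subgroup.mem_centralizer_singleton_iff.1 (PV_le hz'').2)
  have h3 : v * (tor chevF4 auxF4 e * x * (tor chevF4 auxF4 e)⁻¹) = x * v := by
    rw [← mul_inv_eq_iff_eq_mul]
    calc v * (tor chevF4 auxF4 e * x * (tor chevF4 auxF4 e)⁻¹) * v⁻¹
        = v * tor chevF4 auxF4 e * x * (v * tor chevF4 auxF4 e)⁻¹ := by group
      _ = v * tor chevF4 auxF4 e * (z'' * x * z''⁻¹) * (v * tor chevF4 auxF4 e)⁻¹ := by rw [hzc]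
      _ = v * tor chevF4 auxF4 e * z'' * x * (v * tor chevF4 auxF4 e * z'')⁻¹ := by group
      _ = x := hyz
  rw [hx, ← conj_mul, tor_conj_xG g₄ e (show 39 < chevF4.nroots by decide +kernel),
    tor_conj_xG g₄ e (show 45 < chevF4.nroots by decide +kernel), mul_one, mul_one] at h3
  obtain ⟨a0, b0, c1, a2, b2, c3, a4, b4, c5, a6, b6, c7, rfl⟩ := exists_Z hv
  obtain ⟨ha, hb, h1, h2⟩ := stab_coords h3
  refine mul_mem (mul_mem ?_ ?_) hz''
  · obtain ⟨ha0, ha6⟩ := h1
    unfold Z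
    rw [ha0.1, ha0.2, ha6.1, ha6.2]
    simp only [X_zero, one_mul]
    repeat' apply mul_mem
    all_goals exact PV_roots (by decide) _
  · refine tor_mem_of (PV_facts.2 0 (by simp)) (PV_facts.2 3 (by simp)) fun k k1 k2 => ?_
    rw [chi_F4, show auxF4.cart 0 39 = 0 by decide +kernel, show auxF4.cart 1 39 = -1 by decide +kernel,
      show auxF4.cart 2 39 = 1 by decide +kernel, show auxF4.cart 3 39 = 0 by decide +kernel] at ha
    rw [chi_F4, show auxF4.cart 0 45 = 0 by decide +kernel, show auxF4.cart 1 45 = 2 by decide +kernel,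
      show auxF4.cart 2 45 = -1 by decide +kernel, show auxF4.cart 3 45 = 0 by decide +kernel] at hb
    simp only [zpow_zero, mul_one, one_mul, Units.val_eq_one, _root_.zpow_neg, zpow_one, zpow_ofNat, pow_one, pow_zero] at ha hb
    rw [inv_mul_eq_one] at ha
    rw [← ha, sq, mul_inv_cancel_right] at hb
    revert k1 k2
    fin_cases k <;> intro k1 k2
    exacts [absurd rfl k1, hb, ha ▸ hb, absurd rfl k2]

end CfsgLib.Chev.F4Inv
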