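/-
Tools for the reduction of the involutions of type F4.
-/
import Cfsg.Agent.Lib.Chev.F42Invol.Coords

set_option autoImplicit false
set_option maxRecDepth 100000
set_option maxHeartbeats 1000000

namespace CfsgLib.Chev.F4Inv

open Cfsg.Lie Matrix CfsgLib.Chev CfsgLib.Chev.F42Invol

variable {K : Type*} [Field K]

local notation "g₄" => stdF4.good

/-- one of the four representatives -/
def IsRep (r : GL chevF4.Idx K) : Prop :=
  r = X 47 1 ∨ r = X 44 1 ∨ r = X 44 1 * X 47 1 ∨ r = X 39 1 * X 45 1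

/-- trivial or conjugate to a representative -/
def Rch (y : GL chevF4.Idx K) : Prop :=
  y = 1 ∨ ∃ r, IsRep r ∧ ∃ h ∈ chevF4.group K, h * y * h⁻¹ = r

lemma Rch.step {g y y' : GL chevF4.Idx K} (hg : g ∈ chevF4.group K) (e : g * y * g⁻¹ = y') (h : y * y = 1)
    (k : y' * y' = 1 → Rch y') : Rch y := by
  rcases k (by rw [← e, conj_mul, h, mul_one, mul_inv_cancel]) with h1 | ⟨r, hr, x, hx, hxy⟩
  · subst h1
    exact .inl (conj_eq_one_iff.1 e)
  · refine .inr ⟨r, hr, x * g, mul_mem hx hg, ?_⟩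
    rw [← hxy, ← e]
    group

lemma nS_mem_group {i : ℕ} (hi : i < chevF4.rank) : nS K g₄ i ∈ chevF4.group K :=
  monomialSubgroup_le_group g₄ (nS_mem_monomial g₄ hi)

lemma exists_lin {a : K} (ha : a ≠ 0) (b : K) : ∃ d : K, a * d = b := ⟨b / a, mul_div_cancel₀ b ha⟩

lemma zero_of {x p q : K} (e : p = q) (h : x ≠ 0 → p ≠ q) : x = 0 := by
  by_contra hx
  exact h hx e

lemma nS_conj {i r : ℕ} (hi : i < chevF4.rank) (hr : r < chevF4.nroots) (t : K) :
    nS K g₄ i * X r t * (nS K g₄ i)⁻¹ = X (auxF4.refl i r) ((auxF4.eta i r : K) * t) :=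
  nS_conj_xG g₄ hi hr t

variable [CharP K 2]

lemma conj_s {i r r' : ℕ} (h : i < chevF4.rank ∧ r < chevF4.nroots ∧ auxF4.refl i r = r' ∧
    (auxF4.eta i r = 1 ∨ auxF4.eta i r = -1)) (t : K) : MulAut.conj (nS K g₄ i) (X r t) = X r' t := by
  rw [MulAut.conj_apply, nS_conj h.1 h.2.1, h.2.2.1, F42.cast_sgn h.2.2.2, one_mul]

lemma three_eq : (3 : K) = 1 := by linear_combination CharTwo.two_eq_zero (R := K)

lemma four_eq : (4 : K) = 0 := by linear_combination (2 : K) * CharTwo.two_eq_zero (R := K)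

/-- normal forms of ordered products with polynomial coordinates -/
macro "normX" : tactic => `(tactic| (
  sortX
  try ring_nf
  try simp only [CharTwo.two_eq_zero, three_eq, four_eq, mul_zero, zero_mul, add_zero, zero_add, X_zero,
    one_mul, mul_one]
  try ring_nf))

lemma goal_two {a b : ℕ} (ha : a < chevF4.nroots) (hb : b < chevF4.nroots) {x y : K} {e : Fin chevF4.rank → Kˣ}
    (hx : (chi chevF4 auxF4 e a : K) * x = 1) (hy : (chi chevF4 auxF4 e b : K) * y = 1)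
    (hr : IsRep (X a (1 : K) * X b 1)) : Rch (X a x * X b y) := by
  refine .inr ⟨_, hr, tor chevF4 auxF4 e, diagonalSubgroup_le_group g₄ ?_, ?_⟩
  · rw [diagonalSubgroup_eq g₄]; exact ⟨e, rfl⟩
  · rw [← conj_mul, tor_conj_xG g₄ e ha, tor_conj_xG g₄ e hb, hx, hy]

omit [CharP K 2] in
lemma chi4 (e : Fin chevF4.rank → Kˣ) (r : ℕ) :
    chi chevF4 auxF4 e r = e (F42.ix 0) ^ auxF4.cart 0 r * e (F42.ix 1) ^ auxF4.cart 1 r *
      e (F42.ix 2) ^ auxF4.cart 2 r * e (F42.ix 3) ^ auxF4.cart 3 r := by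
  show (∏ i : Fin 4, e (F42.ix i) ^ auxF4.cart i.val r) = _
  simp [Fin.prod_univ_four]

lemma goal4447 {x y : K} (hx : x ≠ 0) (hy : y ≠ 0) : Rch (X 44 x * X 47 y) := by
  refine goal_two (by decide +kernel) (by decide +kernel)
    (e := F42.v4 (Units.mk0 x hx)⁻¹ 1 1 (Units.mk0 y hy)⁻¹) ?_ ?_ (.inr (.inr (.inl rfl)))
  · rw [chi4, show auxF4.cart 0 44 = 1 by decide +kernel, show auxF4.cart 1 44 = 0 by decide +kernel,
      show auxF4.cart 2 44 = 0 by decide +kernel, show auxF4.cart 3 44 = 0 by decide +kernel]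
    simp [F42.v4, F42.ix, hx]
  · rw [chi4, show auxF4.cart 0 47 = 0 by decide +kernel, show auxF4.cart 1 47 = 0 by decide +kernel,
      show auxF4.cart 2 47 = 0 by decide +kernel, show auxF4.cart 3 47 = 1 by decide +kernel]
    simp [F42.v4, F42.ix, hy]

lemma goal3945 {x y : K} (hx : x ≠ 0) (hy : y ≠ 0) : Rch (X 39 x * X 45 y) := by
  set a := Units.mk0 x hx
  set b := Units.mk0 y hy
  refine goal_two (by decide +kernel) (by decide +kernel)
    (e := F42.v4 1 (a * b)⁻¹ (a * a * b)⁻¹ 1) ?_ ?_ (.inr (.inr (.inr rfl)))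
  · rw [chi4, show auxF4.cart 0 39 = 0 by decide +kernel, show auxF4.cart 1 39 = -1 by decide +kernel,
      show auxF4.cart 2 39 = 1 by decide +kernel, show auxF4.cart 3 39 = 0 by decide +kernel]
    simp [F42.v4, F42.ix, a, b]
    field_simp
  · rw [chi4, show auxF4.cart 0 45 = 0 by decide +kernel, show auxF4.cart 1 45 = 2 by decide +kernel,
      show auxF4.cart 2 45 = -1 by decide +kernel, show auxF4.cart 3 45 = 0 by decide +kernel]
    simp [F42.v4, F42.ix, a, b]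
    field_simp

lemma goal44 {x : K} (hx : x ≠ 0) : Rch (X 44 x) := by
  refine .inr ⟨_, .inr (.inl rfl), tor chevF4 auxF4 (F42.v4 (Units.mk0 x hx)⁻¹ 1 1 1), diagonalSubgroup_le_group g₄ ?_, ?_⟩
  · rw [diagonalSubgroup_eq g₄]; exact ⟨_, rfl⟩
  · rw [tor_conj_xG g₄ _ (by decide +kernel), chi4, show auxF4.cart 0 44 = 1 by decide +kernel,
      show auxF4.cart 1 44 = 0 by decide +kernel, show auxF4.cart 2 44 = 0 by decide +kernel,
      show auxF4.cart 3 44 = 0 by decide +kernel]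
    simp [F42.v4, F42.ix, hx]

lemma goal47 {x : K} (hx : x ≠ 0) : Rch (X 47 x) := by
  refine .inr ⟨_, .inl rfl, tor chevF4 auxF4 (F42.v4 1 1 1 (Units.mk0 x hx)⁻¹), diagonalSubgroup_le_group g₄ ?_, ?_⟩
  · rw [diagonalSubgroup_eq g₄]; exact ⟨_, rfl⟩
  · rw [tor_conj_xG g₄ _ (by decide +kernel), chi4, show auxF4.cart 0 47 = 0 by decide +kernel,
      show auxF4.cart 1 47 = 0 by decide +kernel, show auxF4.cart 2 47 = 0 by decide +kernel,
      show auxF4.cart 3 47 = 1 by decide +kernel]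
    simp [F42.v4, F42.ix, hx]

lemma exists_sq [Fintype K] {a : K} (ha : a ≠ 0) (b : K) : ∃ d : K, a * d ^ 2 = b := by
  obtain ⟨d, hd⟩ := isSquare_of_charTwo' (b / a : K)
  exact ⟨d, by rw [sq, ← hd, mul_div_cancel₀ b ha]⟩

end CfsgLib.Chev.F4Inv
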