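/-
Reduction of the involutions in the unipotent subgroup of type F4: cases, part 1.
-/
import Cfsg.Agent.Lib.Chev.F4Invol.RedBase

set_option autoImplicit false
set_option maxRecDepth 100000
set_option maxHeartbeats 4000000
set_option linter.unusedSimpArgs false
set_option linter.unusedVariables false
set_option linter.unusedSectionVars false

namespace CfsgLib.Chev.F4Inv

open Cfsg.Lie Matrix CfsgLib.Chev CfsgLib.Chev.F42Invol

variable {K : Type*} [Field K] [CharP K 2] [Fintype K]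

local notation "g₄" => stdF4.good

lemma n0
    (h : (1 : GL chevF4.Idx K) * (1 : GL chevF4.Idx K) = 1) :
    Rch (1 : GL chevF4.Idx K) := by
  exact .inl rfl

lemma n1 {x47 : K} (hx47 : x47 ≠ 0)
    (h : (X 47 (x47)) * (X 47 (x47)) = 1) :
    Rch (X 47 (x47)) := by
  exact goal47 hx47

lemma n2 {x47 : K}
    (h : (X 47 (x47)) * (X 47 (x47)) = 1) :
    Rch (X 47 (x47)) := by
  rcases eq_or_ne x47 0 with rfl | hx47
  · simp only [X_zero, one_mul, mul_one] at h ⊢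
    exact .inl rfl -- h
  · exact n1 hx47 h

lemma n3 {x46 : K} (hx46 : x46 ≠ 0)
    (h : (X 46 (x46)) * (X 46 (x46)) = 1) :
    Rch (X 46 (x46)) := by
  have e : nS K g₄ 3 * (X 46 (x46)) * (nS K g₄ 3)⁻¹ = (X 47 (x46)) := by
    rw [← MulAut.conj_apply]
    simp only [map_mul, conj_s (i := 3) (r := 46) (r' := 47) (by decide +kernel)]
    all_goals normX
  exact Rch.step (nS_mem_group (by decide)) e h fun h' => n1 hx46 h'

lemma n4 {x46 x47 : K} (hx46 : x46 ≠ 0)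
    (h : (X 46 (x46) * (X 47 (x47))) * (X 46 (x46) * (X 47 (x47))) = 1) :
    Rch (X 46 (x46) * (X 47 (x47))) := by
  obtain ⟨d, hd⟩ : ∃ d : K, (x46) * d = x47 :=
    exists_lin hx46 _
  have hw : (d * x46 + x47) = 0 := by linear_combination hd + (x47) * CharTwo.two_eq_zero (R := K)
  have e : X 24 d * (X 46 (x46) * (X 47 (x47))) * (X 24 d)⁻¹ = (X 46 (x46) * (X 47 (d * x46 + x47))) := by
    rw [inv_eq]
    normX
  rw [hw, X_zero] at e
  simp only [one_mul, mul_one] at e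
  exact Rch.step (xG_mem_group g₄ 24 d) e h fun h' => n3 hx46 h'

lemma n5 {x46 x47 : K}
    (h : (X 46 (x46) * (X 47 (x47))) * (X 46 (x46) * (X 47 (x47))) = 1) :
    Rch (X 46 (x46) * (X 47 (x47))) := by
  rcases eq_or_ne x46 0 with rfl | hx46
  · simp only [X_zero, one_mul, mul_one] at h ⊢
    exact n2 h
  · exact n4 hx46 h

lemma n6 {x45 x47 : K} (hx45 : x45 ≠ 0)
    (h : (X 45 (x45) * (X 47 (x47))) * (X 45 (x45) * (X 47 (x47))) = 1) :
    Rch (X 45 (x45) * (X 47 (x47))) := by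
  have e : nS K g₄ 2 * (X 45 (x45) * (X 47 (x47))) * (nS K g₄ 2)⁻¹ = (X 46 (x45) * (X 47 (x47))) := by
    rw [← MulAut.conj_apply]
    simp only [map_mul, conj_s (i := 2) (r := 45) (r' := 46) (by decide +kernel), conj_s (i := 2) (r := 47) (r' := 47) (by decide +kernel)]
    all_goals normX
  exact Rch.step (nS_mem_group (by decide)) e h fun h' => n4 hx45 h'

lemma n7 {x46 x45 x47 : K} (hx45 : x45 ≠ 0)
    (h : (X 46 (x46) * (X 45 (x45) * (X 47 (x47)))) * (X 46 (x46) * (X 45 (x45) * (X 47 (x47)))) = 1) :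
    Rch (X 46 (x46) * (X 45 (x45) * (X 47 (x47)))) := by
  obtain ⟨d, hd⟩ : ∃ d : K, (x45) * d = x46 :=
    exists_lin hx45 _
  have hw : (d * x45 + x46) = 0 := by linear_combination hd + (x46) * CharTwo.two_eq_zero (R := K)
  have e : X 25 d * (X 46 (x46) * (X 45 (x45) * (X 47 (x47)))) * (X 25 d)⁻¹ = (X 46 (d * x45 + x46) * (X 45 (x45) * (X 47 (x47)))) := by
    rw [inv_eq]
    normX
  rw [hw, X_zero] at e
  simp only [one_mul, mul_one] at e
  exact Rch.step (xG_mem_group g₄ 25 d) e h fun h' => n6 hx45 h'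

lemma n8 {x46 x45 x47 : K}
    (h : (X 46 (x46) * (X 45 (x45) * (X 47 (x47)))) * (X 46 (x46) * (X 45 (x45) * (X 47 (x47)))) = 1) :
    Rch (X 46 (x46) * (X 45 (x45) * (X 47 (x47)))) := by
  rcases eq_or_ne x45 0 with rfl | hx45
  · simp only [X_zero, one_mul, mul_one] at h ⊢
    exact n5 h
  · exact n7 hx45 h

lemma n9 {x44 : K} (hx44 : x44 ≠ 0)
    (h : (X 44 (x44)) * (X 44 (x44)) = 1) :
    Rch (X 44 (x44)) := by
  exact goal44 hx44

lemma n10 {x44 x47 : K} (hx44 : x44 ≠ 0) (hx47 : x47 ≠ 0)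
    (h : (X 44 (x44) * (X 47 (x47))) * (X 44 (x44) * (X 47 (x47))) = 1) :
    Rch (X 44 (x44) * (X 47 (x47))) := by
  exact goal4447 hx44 hx47

lemma n11 {x44 x47 : K} (hx44 : x44 ≠ 0)
    (h : (X 44 (x44) * (X 47 (x47))) * (X 44 (x44) * (X 47 (x47))) = 1) :
    Rch (X 44 (x44) * (X 47 (x47))) := by
  rcases eq_or_ne x47 0 with rfl | hx47
  · simp only [X_zero, one_mul, mul_one] at h ⊢
    exact n9 hx44 h
  · exact n10 hx44 hx47 h

lemma n12 {x46 x44 : K} (hx46 : x46 ≠ 0) (hx44 : x44 ≠ 0)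
    (h : (X 46 (x46) * (X 44 (x44))) * (X 46 (x46) * (X 44 (x44))) = 1) :
    Rch (X 46 (x46) * (X 44 (x44))) := by
  have e : nS K g₄ 3 * (X 46 (x46) * (X 44 (x44))) * (nS K g₄ 3)⁻¹ = (X 44 (x44) * (X 47 (x46))) := by
    rw [← MulAut.conj_apply]
    simp only [map_mul, conj_s (i := 3) (r := 46) (r' := 47) (by decide +kernel), conj_s (i := 3) (r := 44) (r' := 44) (by decide +kernel)]
    all_goals normX
  exact Rch.step (nS_mem_group (by decide)) e h fun h' => n10 hx44 hx46 h'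

lemma n13 {x46 x44 x47 : K} (hx46 : x46 ≠ 0) (hx44 : x44 ≠ 0)
    (h : (X 46 (x46) * (X 44 (x44) * (X 47 (x47)))) * (X 46 (x46) * (X 44 (x44) * (X 47 (x47)))) = 1) :
    Rch (X 46 (x46) * (X 44 (x44) * (X 47 (x47)))) := by
  obtain ⟨d, hd⟩ : ∃ d : K, (x46) * d = x47 :=
    exists_lin hx46 _
  have hw : (d * x46 + x47) = 0 := by linear_combination hd + (x47) * CharTwo.two_eq_zero (R := K)
  have e : X 24 d * (X 46 (x46) * (X 44 (x44) * (X 47 (x47)))) * (X 24 d)⁻¹ = (X 46 (x46) * (X 44 (x44) * (X 47 (d * x46 + x47)))) := by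
    rw [inv_eq]
    normX
  rw [hw, X_zero] at e
  simp only [one_mul, mul_one] at e
  exact Rch.step (xG_mem_group g₄ 24 d) e h fun h' => n12 hx46 hx44 h'

lemma n14 {x46 x44 x47 : K} (hx44 : x44 ≠ 0)
    (h : (X 46 (x46) * (X 44 (x44) * (X 47 (x47)))) * (X 46 (x46) * (X 44 (x44) * (X 47 (x47)))) = 1) :
    Rch (X 46 (x46) * (X 44 (x44) * (X 47 (x47)))) := by
  rcases eq_or_ne x46 0 with rfl | hx46
  · simp only [X_zero, one_mul, mul_one] at h ⊢
    exact n11 hx44 h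
  · exact n13 hx46 hx44 h

lemma n15 {x45 x44 x47 : K} (hx45 : x45 ≠ 0) (hx44 : x44 ≠ 0)
    (h : (X 45 (x45) * (X 44 (x44) * (X 47 (x47)))) * (X 45 (x45) * (X 44 (x44) * (X 47 (x47)))) = 1) :
    Rch (X 45 (x45) * (X 44 (x44) * (X 47 (x47)))) := by
  have e : nS K g₄ 2 * (X 45 (x45) * (X 44 (x44) * (X 47 (x47)))) * (nS K g₄ 2)⁻¹ = (X 46 (x45) * (X 44 (x44) * (X 47 (x47)))) := by
    rw [← MulAut.conj_apply]
    simp only [map_mul, conj_s (i := 2) (r := 45) (r' := 46) (by decide +kernel), conj_s (i := 2) (r := 44) (r' := 44) (by decide +kernel), conj_s (i := 2) (r := 47) (r' := 47) (by decide +kernel)]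
    all_goals normX
  exact Rch.step (nS_mem_group (by decide)) e h fun h' => n13 hx45 hx44 h'

lemma n16 {x46 x45 x44 x47 : K} (hx45 : x45 ≠ 0) (hx44 : x44 ≠ 0)
    (h : (X 46 (x46) * (X 45 (x45) * (X 44 (x44) * (X 47 (x47))))) * (X 46 (x46) * (X 45 (x45) * (X 44 (x44) * (X 47 (x47))))) = 1) :
    Rch (X 46 (x46) * (X 45 (x45) * (X 44 (x44) * (X 47 (x47))))) := by
  obtain ⟨d, hd⟩ : ∃ d : K, (x45) * d = x46 :=
    exists_lin hx45 _
  have hw : (d * x45 + x46) = 0 := by linear_combination hd + (x46) * CharTwo.two_eq_zero (R := K)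
  have e : X 25 d * (X 46 (x46) * (X 45 (x45) * (X 44 (x44) * (X 47 (x47))))) * (X 25 d)⁻¹ = (X 46 (d * x45 + x46) * (X 45 (x45) * (X 44 (x44) * (X 47 (x47))))) := by
    rw [inv_eq]
    normX
  rw [hw, X_zero] at e
  simp only [one_mul, mul_one] at e
  exact Rch.step (xG_mem_group g₄ 25 d) e h fun h' => n15 hx45 hx44 h'

lemma n17 {x46 x45 x44 x47 : K} (hx44 : x44 ≠ 0)
    (h : (X 46 (x46) * (X 45 (x45) * (X 44 (x44) * (X 47 (x47))))) * (X 46 (x46) * (X 45 (x45) * (X 44 (x44) * (X 47 (x47))))) = 1) :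
    Rch (X 46 (x46) * (X 45 (x45) * (X 44 (x44) * (X 47 (x47))))) := by
  rcases eq_or_ne x45 0 with rfl | hx45
  · simp only [X_zero, one_mul, mul_one] at h ⊢
    exact n14 hx44 h
  · exact n16 hx45 hx44 h

lemma n18 {x46 x45 x44 x47 : K}
    (h : (X 46 (x46) * (X 45 (x45) * (X 44 (x44) * (X 47 (x47))))) * (X 46 (x46) * (X 45 (x45) * (X 44 (x44) * (X 47 (x47))))) = 1) :
    Rch (X 46 (x46) * (X 45 (x45) * (X 44 (x44) * (X 47 (x47))))) := by
  rcases eq_or_ne x44 0 with rfl | hx44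
  · simp only [X_zero, one_mul, mul_one] at h ⊢
    exact n8 h
  · exact n17 hx44 h

lemma n19_2 {x46 : K} (hx46 : x46 ≠ 0)
    (h : (X 46 (x46)) * (X 46 (x46)) = 1) :
    Rch (X 46 (x46)) := by
  have e : nS K g₄ 3 * (X 46 (x46)) * (nS K g₄ 3)⁻¹ = (X 47 (x46)) := by
    rw [← MulAut.conj_apply]
    simp only [map_mul, conj_s (i := 3) (r := 46) (r' := 47) (by decide +kernel)]
    all_goals normX
  exact Rch.step (nS_mem_group (by decide)) e h fun h' => n1 hx46 h'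

lemma n19_1 {x45 : K} (hx45 : x45 ≠ 0)
    (h : (X 45 (x45)) * (X 45 (x45)) = 1) :
    Rch (X 45 (x45)) := by
  have e : nS K g₄ 2 * (X 45 (x45)) * (nS K g₄ 2)⁻¹ = (X 46 (x45)) := by
    rw [← MulAut.conj_apply]
    simp only [map_mul, conj_s (i := 2) (r := 45) (r' := 46) (by decide +kernel)]
    all_goals normX
  exact Rch.step (nS_mem_group (by decide)) e h fun h' => n19_2 hx45 h'

lemma n19 {x43 : K} (hx43 : x43 ≠ 0)
    (h : (X 43 (x43)) * (X 43 (x43)) = 1) :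
    Rch (X 43 (x43)) := by
  have e : nS K g₄ 1 * (X 43 (x43)) * (nS K g₄ 1)⁻¹ = (X 45 (x43)) := by
    rw [← MulAut.conj_apply]
    simp only [map_mul, conj_s (i := 1) (r := 43) (r' := 45) (by decide +kernel)]
    all_goals normX
  exact Rch.step (nS_mem_group (by decide)) e h fun h' => n19_1 hx43 h'

lemma n20_3 {x46 x44 : K} (hx46 : x46 ≠ 0) (hx44 : x44 ≠ 0)
    (h : (X 46 (x46) * (X 44 (x44))) * (X 46 (x46) * (X 44 (x44))) = 1) :
    Rch (X 46 (x46) * (X 44 (x44))) := by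
  have e : nS K g₄ 3 * (X 46 (x46) * (X 44 (x44))) * (nS K g₄ 3)⁻¹ = (X 44 (x44) * (X 47 (x46))) := by
    rw [← MulAut.conj_apply]
    simp only [map_mul, conj_s (i := 3) (r := 46) (r' := 47) (by decide +kernel), conj_s (i := 3) (r := 44) (r' := 44) (by decide +kernel)]
    all_goals normX
  exact Rch.step (nS_mem_group (by decide)) e h fun h' => n10 hx44 hx46 h'

lemma n20_2 {x45 x44 : K} (hx45 : x45 ≠ 0) (hx44 : x44 ≠ 0)
    (h : (X 45 (x45) * (X 44 (x44))) * (X 45 (x45) * (X 44 (x44))) = 1) :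
    Rch (X 45 (x45) * (X 44 (x44))) := by
  have e : nS K g₄ 2 * (X 45 (x45) * (X 44 (x44))) * (nS K g₄ 2)⁻¹ = (X 46 (x45) * (X 44 (x44))) := by
    rw [← MulAut.conj_apply]
    simp only [map_mul, conj_s (i := 2) (r := 45) (r' := 46) (by decide +kernel), conj_s (i := 2) (r := 44) (r' := 44) (by decide +kernel)]
    all_goals normX
  exact Rch.step (nS_mem_group (by decide)) e h fun h' => n20_3 hx45 hx44 h'

lemma n20_1 {x44 x43 : K} (hx44 : x44 ≠ 0) (hx43 : x43 ≠ 0)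
    (h : (X 44 (x44) * (X 43 (x43))) * (X 44 (x44) * (X 43 (x43))) = 1) :
    Rch (X 44 (x44) * (X 43 (x43))) := by
  have e : nS K g₄ 1 * (X 44 (x44) * (X 43 (x43))) * (nS K g₄ 1)⁻¹ = (X 45 (x43) * (X 44 (x44))) := by
    rw [← MulAut.conj_apply]
    simp only [map_mul, conj_s (i := 1) (r := 44) (r' := 44) (by decide +kernel), conj_s (i := 1) (r := 43) (r' := 45) (by decide +kernel)]
    all_goals normX
  exact Rch.step (nS_mem_group (by decide)) e h fun h' => n20_2 hx43 hx44 h'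

lemma n20 {x45 x43 : K} (hx45 : x45 ≠ 0) (hx43 : x43 ≠ 0)
    (h : (X 45 (x45) * (X 43 (x43))) * (X 45 (x45) * (X 43 (x43))) = 1) :
    Rch (X 45 (x45) * (X 43 (x43))) := by
  obtain ⟨d, hd⟩ : ∃ d : K, (x43) * d ^ 2 = x45 :=
    exists_sq hx43 _
  have hd : d ≠ 0 ∧ (x43) * d ^ 2 = x45 := ⟨fun e => hx45 (by rw [← hd, e]; simp), hd⟩
  obtain ⟨hd0, hd⟩ := hd
  have hw : (d ^ 2 * x43 + x45) = 0 := by linear_combination hd + (x45) * CharTwo.two_eq_zero (R := K)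
  have e : X 27 d * (X 45 (x45) * (X 43 (x43))) * (X 27 d)⁻¹ = (X 45 (d ^ 2 * x43 + x45) * (X 44 (d * x43) * (X 43 (x43)))) := by
    rw [inv_eq]
    normX
  rw [hw, X_zero] at e
  simp only [one_mul, mul_one] at e
  exact Rch.step (xG_mem_group g₄ 27 d) e h fun h' => n20_1 (mul_ne_zero hd0 hx43) hx43 h'

lemma n21 {x45 x43 : K} (hx43 : x43 ≠ 0)
    (h : (X 45 (x45) * (X 43 (x43))) * (X 45 (x45) * (X 43 (x43))) = 1) :
    Rch (X 45 (x45) * (X 43 (x43))) := by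
  rcases eq_or_ne x45 0 with rfl | hx45
  · simp only [X_zero, one_mul, mul_one] at h ⊢
    exact n19 hx43 h
  · exact n20 hx45 hx43 h

lemma n22 {x45 x47 x43 : K} (hx43 : x43 ≠ 0)
    (h : (X 45 (x45) * (X 47 (x47) * (X 43 (x43)))) * (X 45 (x45) * (X 47 (x47) * (X 43 (x43)))) = 1) :
    Rch (X 45 (x45) * (X 47 (x47) * (X 43 (x43)))) := by
  obtain ⟨d, hd⟩ : ∃ d : K, (x43) * d = x47 :=
    exists_lin hx43 _
  have hw : (d * x43 + x47) = 0 := by linear_combination hd + (x47) * CharTwo.two_eq_zero (R := K)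
  have e : X 31 d * (X 45 (x45) * (X 47 (x47) * (X 43 (x43)))) * (X 31 d)⁻¹ = (X 45 (x45) * (X 47 (d * x43 + x47) * (X 43 (x43)))) := by
    rw [inv_eq]
    normX
  rw [hw, X_zero] at e
  simp only [one_mul, mul_one] at e
  exact Rch.step (xG_mem_group g₄ 31 d) e h fun h' => n21 hx43 h'

lemma n23 {x46 x45 x47 x43 : K} (hx43 : x43 ≠ 0)
    (h : (X 46 (x46) * (X 45 (x45) * (X 47 (x47) * (X 43 (x43))))) * (X 46 (x46) * (X 45 (x45) * (X 47 (x47) * (X 43 (x43))))) = 1) :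
    Rch (X 46 (x46) * (X 45 (x45) * (X 47 (x47) * (X 43 (x43))))) := by
  obtain ⟨d, hd⟩ : ∃ d : K, (x43) * d = x46 :=
    exists_lin hx43 _
  have hw : (d * x43 + x46) = 0 := by linear_combination hd + (x46) * CharTwo.two_eq_zero (R := K)
  have e : X 30 d * (X 46 (x46) * (X 45 (x45) * (X 47 (x47) * (X 43 (x43))))) * (X 30 d)⁻¹ = (X 46 (d * x43 + x46) * (X 45 (x45) * (X 47 (x47) * (X 43 (x43))))) := by
    rw [inv_eq]
    normX
  rw [hw, X_zero] at e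
  simp only [one_mul, mul_one] at e
  exact Rch.step (xG_mem_group g₄ 30 d) e h fun h' => n22 hx43 h'

lemma n24 {x46 x45 x44 x47 x43 : K} (hx43 : x43 ≠ 0)
    (h : (X 46 (x46) * (X 45 (x45) * (X 44 (x44) * (X 47 (x47) * (X 43 (x43)))))) * (X 46 (x46) * (X 45 (x45) * (X 44 (x44) * (X 47 (x47) * (X 43 (x43)))))) = 1) :
    Rch (X 46 (x46) * (X 45 (x45) * (X 44 (x44) * (X 47 (x47) * (X 43 (x43)))))) := by
  obtain ⟨d, hd⟩ : ∃ d : K, (x43) * d = x44 :=
    exists_lin hx43 _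
  have hw : (d * x43 + x44) = 0 := by linear_combination hd + (x44) * CharTwo.two_eq_zero (R := K)
  have e : X 27 d * (X 46 (x46) * (X 45 (x45) * (X 44 (x44) * (X 47 (x47) * (X 43 (x43)))))) * (X 27 d)⁻¹ = (X 46 (x46) * (X 45 (d ^ 2 * x43 + x45) * (X 44 (d * x43 + x44) * (X 47 (x47) * (X 43 (x43)))))) := by
    rw [inv_eq]
    normX
  rw [hw, X_zero] at e
  simp only [one_mul, mul_one] at e
  exact Rch.step (xG_mem_group g₄ 27 d) e h fun h' => n23 hx43 h'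

lemma n25 {x46 x45 x44 x47 x43 : K}
    (h : (X 46 (x46) * (X 45 (x45) * (X 44 (x44) * (X 47 (x47) * (X 43 (x43)))))) * (X 46 (x46) * (X 45 (x45) * (X 44 (x44) * (X 47 (x47) * (X 43 (x43)))))) = 1) :
    Rch (X 46 (x46) * (X 45 (x45) * (X 44 (x44) * (X 47 (x47) * (X 43 (x43)))))) := by
  rcases eq_or_ne x43 0 with rfl | hx43
  · simp only [X_zero, one_mul, mul_one] at h ⊢
    exact n18 h
  · exact n24 hx43 h

lemma n26 {x40 x46 x45 x47 : K} (hx40 : x40 ≠ 0)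
    (h : (X 40 (x40) * (X 46 (x46) * (X 45 (x45) * (X 47 (x47))))) * (X 40 (x40) * (X 46 (x46) * (X 45 (x45) * (X 47 (x47))))) = 1) :
    Rch (X 40 (x40) * (X 46 (x46) * (X 45 (x45) * (X 47 (x47))))) := by
  have e : nS K g₄ 0 * (X 40 (x40) * (X 46 (x46) * (X 45 (x45) * (X 47 (x47))))) * (nS K g₄ 0)⁻¹ = (X 46 (x46) * (X 45 (x45) * (X 44 (x40) * (X 47 (x47))))) := by
    rw [← MulAut.conj_apply]
    simp only [map_mul, conj_s (i := 0) (r := 40) (r' := 44) (by decide +kernel), conj_s (i := 0) (r := 46) (r' := 46) (by decide +kernel), conj_s (i := 0) (r := 45) (r' := 45) (by decide +kernel), conj_s (i := 0) (r := 47) (r' := 47) (by decide +kernel)]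
    all_goals normX
  exact Rch.step (nS_mem_group (by decide)) e h fun h' => n17 hx40 h'

lemma n27 {x39 x45 : K} (hx39 : x39 ≠ 0) (hx45 : x45 ≠ 0)
    (h : (X 39 (x39) * (X 45 (x45))) * (X 39 (x39) * (X 45 (x45))) = 1) :
    Rch (X 39 (x39) * (X 45 (x45))) := by
  exact goal3945 hx39 hx45

lemma n28 {x40 x43 : K} (hx40 : x40 ≠ 0) (hx43 : x43 ≠ 0)
    (h : (X 40 (x40) * (X 43 (x43))) * (X 40 (x40) * (X 43 (x43))) = 1) :
    Rch (X 40 (x40) * (X 43 (x43))) := by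
  have e : nS K g₄ 1 * (X 40 (x40) * (X 43 (x43))) * (nS K g₄ 1)⁻¹ = (X 39 (x40) * (X 45 (x43))) := by
    rw [← MulAut.conj_apply]
    simp only [map_mul, conj_s (i := 1) (r := 40) (r' := 39) (by decide +kernel), conj_s (i := 1) (r := 43) (r' := 45) (by decide +kernel)]
    all_goals normX
  exact Rch.step (nS_mem_group (by decide)) e h fun h' => n27 hx40 hx43 h'

lemma n29_2 {x39 x45 x44 : K} (hx39 : x39 ≠ 0) (hx45 : x45 ≠ 0) (hx44 : x44 ≠ 0)
    (h : (X 39 (x39) * (X 45 (x45) * (X 44 (x44)))) * (X 39 (x39) * (X 45 (x45) * (X 44 (x44)))) = 1) :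
    Rch (X 39 (x39) * (X 45 (x45) * (X 44 (x44)))) := by
  obtain ⟨d, hd⟩ : ∃ d : K, (x39) * d = x44 :=
    exists_lin hx39 _
  have hd : d ≠ 0 ∧ (x39) * d = x44 := ⟨fun e => hx44 (by rw [← hd, e]; simp), hd⟩
  obtain ⟨hd0, hd⟩ := hd
  have hw : (d * x39 + x44) = 0 := by linear_combination hd + (x44) * CharTwo.two_eq_zero (R := K)
  have e : X 34 d * (X 39 (x39) * (X 45 (x45) * (X 44 (x44)))) * (X 34 d)⁻¹ = (X 39 (x39) * (X 45 (x45) * (X 44 (d * x39 + x44)))) := by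
    rw [inv_eq]
    normX
  rw [hw, X_zero] at e
  simp only [one_mul, mul_one] at e
  exact Rch.step (xG_mem_group g₄ 34 d) e h fun h' => n27 hx39 hx45 h'

lemma n29_1 {x40 x44 x43 : K} (hx40 : x40 ≠ 0) (hx44 : x44 ≠ 0) (hx43 : x43 ≠ 0)
    (h : (X 40 (x40) * (X 44 (x44) * (X 43 (x43)))) * (X 40 (x40) * (X 44 (x44) * (X 43 (x43)))) = 1) :
    Rch (X 40 (x40) * (X 44 (x44) * (X 43 (x43)))) := by
  have e : nS K g₄ 1 * (X 40 (x40) * (X 44 (x44) * (X 43 (x43)))) * (nS K g₄ 1)⁻¹ = (X 39 (x40) * (X 45 (x43) * (X 44 (x44)))) := by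
    rw [← MulAut.conj_apply]
    simp only [map_mul, conj_s (i := 1) (r := 40) (r' := 39) (by decide +kernel), conj_s (i := 1) (r := 44) (r' := 44) (by decide +kernel), conj_s (i := 1) (r := 43) (r' := 45) (by decide +kernel)]
    all_goals normX
  exact Rch.step (nS_mem_group (by decide)) e h fun h' => n29_2 hx40 hx43 hx44 h'

lemma n29 {x40 x45 x43 : K} (hx40 : x40 ≠ 0) (hx45 : x45 ≠ 0) (hx43 : x43 ≠ 0)
    (h : (X 40 (x40) * (X 45 (x45) * (X 43 (x43)))) * (X 40 (x40) * (X 45 (x45) * (X 43 (x43)))) = 1) :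
    Rch (X 40 (x40) * (X 45 (x45) * (X 43 (x43)))) := by
  obtain ⟨d, hd⟩ : ∃ d : K, (x43) * d ^ 2 = x45 :=
    exists_sq hx43 _
  have hd : d ≠ 0 ∧ (x43) * d ^ 2 = x45 := ⟨fun e => hx45 (by rw [← hd, e]; simp), hd⟩
  obtain ⟨hd0, hd⟩ := hd
  have hw : (d ^ 2 * x43 + x45) = 0 := by linear_combination hd + (x45) * CharTwo.two_eq_zero (R := K)
  have e : X 27 d * (X 40 (x40) * (X 45 (x45) * (X 43 (x43)))) * (X 27 d)⁻¹ = (X 40 (x40) * (X 45 (d ^ 2 * x43 + x45) * (X 44 (d * x43) * (X 43 (x43))))) := by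
    rw [inv_eq]
    normX
  rw [hw, X_zero] at e
  simp only [one_mul, mul_one] at e
  exact Rch.step (xG_mem_group g₄ 27 d) e h fun h' => n29_1 hx40 (mul_ne_zero hd0 hx43) hx43 h'

lemma n30 {x40 x45 x43 : K} (hx40 : x40 ≠ 0) (hx43 : x43 ≠ 0)
    (h : (X 40 (x40) * (X 45 (x45) * (X 43 (x43)))) * (X 40 (x40) * (X 45 (x45) * (X 43 (x43)))) = 1) :
    Rch (X 40 (x40) * (X 45 (x45) * (X 43 (x43)))) := by
  rcases eq_or_ne x45 0 with rfl | hx45
  · simp only [X_zero, one_mul, mul_one] at h ⊢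
    exact n28 hx40 hx43 h
  · exact n29 hx40 hx45 hx43 h

lemma n31 {x40 x45 x47 x43 : K} (hx40 : x40 ≠ 0) (hx43 : x43 ≠ 0)
    (h : (X 40 (x40) * (X 45 (x45) * (X 47 (x47) * (X 43 (x43))))) * (X 40 (x40) * (X 45 (x45) * (X 47 (x47) * (X 43 (x43))))) = 1) :
    Rch (X 40 (x40) * (X 45 (x45) * (X 47 (x47) * (X 43 (x43))))) := by
  obtain ⟨d, hd⟩ : ∃ d : K, (x43) * d = x47 :=
    exists_lin hx43 _
  have hw : (d * x43 + x47) = 0 := by linear_combination hd + (x47) * CharTwo.two_eq_zero (R := K)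
  have e : X 31 d * (X 40 (x40) * (X 45 (x45) * (X 47 (x47) * (X 43 (x43))))) * (X 31 d)⁻¹ = (X 40 (x40) * (X 45 (x45) * (X 47 (d * x43 + x47) * (X 43 (x43))))) := by
    rw [inv_eq]
    normX
  rw [hw, X_zero] at e
  simp only [one_mul, mul_one] at e
  exact Rch.step (xG_mem_group g₄ 31 d) e h fun h' => n30 hx40 hx43 h'

lemma n32 {x40 x46 x45 x47 x43 : K} (hx40 : x40 ≠ 0) (hx43 : x43 ≠ 0)
    (h : (X 40 (x40) * (X 46 (x46) * (X 45 (x45) * (X 47 (x47) * (X 43 (x43)))))) * (X 40 (x40) * (X 46 (x46) * (X 45 (x45) * (X 47 (x47) * (X 43 (x43)))))) = 1) :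
    Rch (X 40 (x40) * (X 46 (x46) * (X 45 (x45) * (X 47 (x47) * (X 43 (x43)))))) := by
  obtain ⟨d, hd⟩ : ∃ d : K, (x43) * d = x46 :=
    exists_lin hx43 _
  have hw : (d * x43 + x46) = 0 := by linear_combination hd + (x46) * CharTwo.two_eq_zero (R := K)
  have e : X 30 d * (X 40 (x40) * (X 46 (x46) * (X 45 (x45) * (X 47 (x47) * (X 43 (x43)))))) * (X 30 d)⁻¹ = (X 40 (x40) * (X 46 (d * x43 + x46) * (X 45 (x45) * (X 47 (x47) * (X 43 (x43)))))) := by
    rw [inv_eq]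
    normX
  rw [hw, X_zero] at e
  simp only [one_mul, mul_one] at e
  exact Rch.step (xG_mem_group g₄ 30 d) e h fun h' => n31 hx40 hx43 h'

lemma n33 {x40 x46 x45 x47 x43 : K} (hx40 : x40 ≠ 0)
    (h : (X 40 (x40) * (X 46 (x46) * (X 45 (x45) * (X 47 (x47) * (X 43 (x43)))))) * (X 40 (x40) * (X 46 (x46) * (X 45 (x45) * (X 47 (x47) * (X 43 (x43)))))) = 1) :
    Rch (X 40 (x40) * (X 46 (x46) * (X 45 (x45) * (X 47 (x47) * (X 43 (x43)))))) := by
  rcases eq_or_ne x43 0 with rfl | hx43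
  · simp only [X_zero, one_mul, mul_one] at h ⊢
    exact n26 hx40 h
  · exact n32 hx40 hx43 h

lemma n34 {x40 x46 x45 x44 x47 x43 : K} (hx40 : x40 ≠ 0)
    (h : (X 40 (x40) * (X 46 (x46) * (X 45 (x45) * (X 44 (x44) * (X 47 (x47) * (X 43 (x43))))))) * (X 40 (x40) * (X 46 (x46) * (X 45 (x45) * (X 44 (x44) * (X 47 (x47) * (X 43 (x43))))))) = 1) :
    Rch (X 40 (x40) * (X 46 (x46) * (X 45 (x45) * (X 44 (x44) * (X 47 (x47) * (X 43 (x43))))))) := by
  obtain ⟨d, hd⟩ : ∃ d : K, (x40) * d = x44 :=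
    exists_lin hx40 _
  have hw : (d * x40 + x44) = 0 := by linear_combination hd + (x44) * CharTwo.two_eq_zero (R := K)
  have e : X 33 d * (X 40 (x40) * (X 46 (x46) * (X 45 (x45) * (X 44 (x44) * (X 47 (x47) * (X 43 (x43))))))) * (X 33 d)⁻¹ = (X 40 (x40) * (X 46 (x46) * (X 45 (x45) * (X 44 (d * x40 + x44) * (X 47 (x47) * (X 43 (x43))))))) := by
    rw [inv_eq]
    normX
  rw [hw, X_zero] at e
  simp only [one_mul, mul_one] at e
  exact Rch.step (xG_mem_group g₄ 33 d) e h fun h' => n33 hx40 h'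

lemma n35 {x40 x46 x45 x44 x47 x43 : K}
    (h : (X 40 (x40) * (X 46 (x46) * (X 45 (x45) * (X 44 (x44) * (X 47 (x47) * (X 43 (x43))))))) * (X 40 (x40) * (X 46 (x46) * (X 45 (x45) * (X 44 (x44) * (X 47 (x47) * (X 43 (x43))))))) = 1) :
    Rch (X 40 (x40) * (X 46 (x46) * (X 45 (x45) * (X 44 (x44) * (X 47 (x47) * (X 43 (x43))))))) := by
  rcases eq_or_ne x40 0 with rfl | hx40
  · simp only [X_zero, one_mul, mul_one] at h ⊢
    exact n25 h
  · exact n34 hx40 h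

lemma n36 {x40 x45 x43 : K} (hx43 : x43 ≠ 0)
    (h : (X 40 (x40) * (X 45 (x45) * (X 43 (x43)))) * (X 40 (x40) * (X 45 (x45) * (X 43 (x43)))) = 1) :
    Rch (X 40 (x40) * (X 45 (x45) * (X 43 (x43)))) := by
  rcases eq_or_ne x40 0 with rfl | hx40
  · simp only [X_zero, one_mul, mul_one] at h ⊢
    exact n21 hx43 h
  · exact n30 hx40 hx43 h

lemma n37 {x40 x45 x47 x43 : K} (hx43 : x43 ≠ 0)
    (h : (X 40 (x40) * (X 45 (x45) * (X 47 (x47) * (X 43 (x43))))) * (X 40 (x40) * (X 45 (x45) * (X 47 (x47) * (X 43 (x43))))) = 1) :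
    Rch (X 40 (x40) * (X 45 (x45) * (X 47 (x47) * (X 43 (x43))))) := by
  obtain ⟨d, hd⟩ : ∃ d : K, (x43) * d = x47 :=
    exists_lin hx43 _
  have hw : (d * x43 + x47) = 0 := by linear_combination hd + (x47) * CharTwo.two_eq_zero (R := K)
  have e : X 31 d * (X 40 (x40) * (X 45 (x45) * (X 47 (x47) * (X 43 (x43))))) * (X 31 d)⁻¹ = (X 40 (x40) * (X 45 (x45) * (X 47 (d * x43 + x47) * (X 43 (x43))))) := by
    rw [inv_eq]
    normX
  rw [hw, X_zero] at e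
  simp only [one_mul, mul_one] at e
  exact Rch.step (xG_mem_group g₄ 31 d) e h fun h' => n36 hx43 h'

lemma n38 {x40 x46 x45 x47 x43 : K} (hx43 : x43 ≠ 0)
    (h : (X 40 (x40) * (X 46 (x46) * (X 45 (x45) * (X 47 (x47) * (X 43 (x43)))))) * (X 40 (x40) * (X 46 (x46) * (X 45 (x45) * (X 47 (x47) * (X 43 (x43)))))) = 1) :
    Rch (X 40 (x40) * (X 46 (x46) * (X 45 (x45) * (X 47 (x47) * (X 43 (x43)))))) := by
  obtain ⟨d, hd⟩ : ∃ d : K, (x43) * d = x46 :=
    exists_lin hx43 _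
  have hw : (d * x43 + x46) = 0 := by linear_combination hd + (x46) * CharTwo.two_eq_zero (R := K)
  have e : X 30 d * (X 40 (x40) * (X 46 (x46) * (X 45 (x45) * (X 47 (x47) * (X 43 (x43)))))) * (X 30 d)⁻¹ = (X 40 (x40) * (X 46 (d * x43 + x46) * (X 45 (x45) * (X 47 (x47) * (X 43 (x43)))))) := by
    rw [inv_eq]
    normX
  rw [hw, X_zero] at e
  simp only [one_mul, mul_one] at e
  exact Rch.step (xG_mem_group g₄ 30 d) e h fun h' => n37 hx43 h'

lemma n39 {x40 x46 x45 x44 x47 x43 : K} (hx43 : x43 ≠ 0)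
    (h : (X 40 (x40) * (X 46 (x46) * (X 45 (x45) * (X 44 (x44) * (X 47 (x47) * (X 43 (x43))))))) * (X 40 (x40) * (X 46 (x46) * (X 45 (x45) * (X 44 (x44) * (X 47 (x47) * (X 43 (x43))))))) = 1) :
    Rch (X 40 (x40) * (X 46 (x46) * (X 45 (x45) * (X 44 (x44) * (X 47 (x47) * (X 43 (x43))))))) := by
  obtain ⟨d, hd⟩ : ∃ d : K, (x43) * d = x44 :=
    exists_lin hx43 _
  have hw : (d * x43 + x44) = 0 := by linear_combination hd + (x44) * CharTwo.two_eq_zero (R := K)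
  have e : X 27 d * (X 40 (x40) * (X 46 (x46) * (X 45 (x45) * (X 44 (x44) * (X 47 (x47) * (X 43 (x43))))))) * (X 27 d)⁻¹ = (X 40 (x40) * (X 46 (x46) * (X 45 (d ^ 2 * x43 + x45) * (X 44 (d * x43 + x44) * (X 47 (x47) * (X 43 (x43))))))) := by
    rw [inv_eq]
    normX
  rw [hw, X_zero] at e
  simp only [one_mul, mul_one] at e
  exact Rch.step (xG_mem_group g₄ 27 d) e h fun h' => n38 hx43 h'

lemma n40 {x40 x46 x45 x44 x47 x42 : K} (hx42 : x42 ≠ 0)
    (h : (X 40 (x40) * (X 46 (x46) * (X 45 (x45) * (X 44 (x44) * (X 47 (x47) * (X 42 (x42))))))) * (X 40 (x40) * (X 46 (x46) * (X 45 (x45) * (X 44 (x44) * (X 47 (x47) * (X 42 (x42))))))) = 1) :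
    Rch (X 40 (x40) * (X 46 (x46) * (X 45 (x45) * (X 44 (x44) * (X 47 (x47) * (X 42 (x42))))))) := by
  have e : nS K g₄ 2 * (X 40 (x40) * (X 46 (x46) * (X 45 (x45) * (X 44 (x44) * (X 47 (x47) * (X 42 (x42))))))) * (nS K g₄ 2)⁻¹ = (X 40 (x40) * (X 46 (x45) * (X 45 (x46) * (X 44 (x44) * (X 47 (x47) * (X 43 (x42))))))) := by
    rw [← MulAut.conj_apply]
    simp only [map_mul, conj_s (i := 2) (r := 40) (r' := 40) (by decide +kernel), conj_s (i := 2) (r := 46) (r' := 45) (by decide +kernel), conj_s (i := 2) (r := 45) (r' := 46) (by decide +kernel), conj_s (i := 2) (r := 44) (r' := 44) (by decide +kernel), conj_s (i := 2) (r := 47) (r' := 47) (by decide +kernel), conj_s (i := 2) (r := 42) (r' := 43) (by decide +kernel)]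
    all_goals normX
  exact Rch.step (nS_mem_group (by decide)) e h fun h' => n39 hx42 h'

lemma n41 {x40 x46 x45 x44 x47 x43 x42 : K} (hx42 : x42 ≠ 0)
    (h : (X 40 (x40) * (X 46 (x46) * (X 45 (x45) * (X 44 (x44) * (X 47 (x47) * (X 43 (x43) * (X 42 (x42)))))))) * (X 40 (x40) * (X 46 (x46) * (X 45 (x45) * (X 44 (x44) * (X 47 (x47) * (X 43 (x43) * (X 42 (x42)))))))) = 1) :
    Rch (X 40 (x40) * (X 46 (x46) * (X 45 (x45) * (X 44 (x44) * (X 47 (x47) * (X 43 (x43) * (X 42 (x42)))))))) := by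
  obtain ⟨d, hd⟩ : ∃ d : K, (x42) * d = x43 :=
    exists_lin hx42 _
  have hw : (d * x42 + x43) = 0 := by linear_combination hd + (x43) * CharTwo.two_eq_zero (R := K)
  have e : X 25 d * (X 40 (x40) * (X 46 (x46) * (X 45 (x45) * (X 44 (x44) * (X 47 (x47) * (X 43 (x43) * (X 42 (x42)))))))) * (X 25 d)⁻¹ = (X 40 (x40) * (X 46 (d * x45 + x46) * (X 45 (x45) * (X 44 (x44) * (X 47 (x47) * (X 43 (d * x42 + x43) * (X 42 (x42)))))))) := by
    rw [inv_eq]
    normX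
  rw [hw, X_zero] at e
  simp only [one_mul, mul_one] at e
  exact Rch.step (xG_mem_group g₄ 25 d) e h fun h' => n40 hx42 h'

lemma n42 {x40 x46 x45 x44 x47 x43 x42 : K}
    (h : (X 40 (x40) * (X 46 (x46) * (X 45 (x45) * (X 44 (x44) * (X 47 (x47) * (X 43 (x43) * (X 42 (x42)))))))) * (X 40 (x40) * (X 46 (x46) * (X 45 (x45) * (X 44 (x44) * (X 47 (x47) * (X 43 (x43) * (X 42 (x42)))))))) = 1) :
    Rch (X 40 (x40) * (X 46 (x46) * (X 45 (x45) * (X 44 (x44) * (X 47 (x47) * (X 43 (x43) * (X 42 (x42)))))))) := by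
  rcases eq_or_ne x42 0 with rfl | hx42
  · simp only [X_zero, one_mul, mul_one] at h ⊢
    exact n35 h
  · exact n41 hx42 h

lemma n43 {x40 x46 x45 x47 x42 : K} (hx40 : x40 ≠ 0) (hx42 : x42 ≠ 0)
    (h : (X 40 (x40) * (X 46 (x46) * (X 45 (x45) * (X 47 (x47) * (X 42 (x42)))))) * (X 40 (x40) * (X 46 (x46) * (X 45 (x45) * (X 47 (x47) * (X 42 (x42)))))) = 1) :
    Rch (X 40 (x40) * (X 46 (x46) * (X 45 (x45) * (X 47 (x47) * (X 42 (x42)))))) := by
  have e : nS K g₄ 2 * (X 40 (x40) * (X 46 (x46) * (X 45 (x45) * (X 47 (x47) * (X 42 (x42)))))) * (nS K g₄ 2)⁻¹ = (X 40 (x40) * (X 46 (x45) * (X 45 (x46) * (X 47 (x47) * (X 43 (x42)))))) := by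
    rw [← MulAut.conj_apply]
    simp only [map_mul, conj_s (i := 2) (r := 40) (r' := 40) (by decide +kernel), conj_s (i := 2) (r := 46) (r' := 45) (by decide +kernel), conj_s (i := 2) (r := 45) (r' := 46) (by decide +kernel), conj_s (i := 2) (r := 47) (r' := 47) (by decide +kernel), conj_s (i := 2) (r := 42) (r' := 43) (by decide +kernel)]
    all_goals normX
  exact Rch.step (nS_mem_group (by decide)) e h fun h' => n32 hx40 hx42 h'

lemma n44 {x40 x46 x45 x47 x43 x42 : K} (hx40 : x40 ≠ 0) (hx42 : x42 ≠ 0)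
    (h : (X 40 (x40) * (X 46 (x46) * (X 45 (x45) * (X 47 (x47) * (X 43 (x43) * (X 42 (x42))))))) * (X 40 (x40) * (X 46 (x46) * (X 45 (x45) * (X 47 (x47) * (X 43 (x43) * (X 42 (x42))))))) = 1) :
    Rch (X 40 (x40) * (X 46 (x46) * (X 45 (x45) * (X 47 (x47) * (X 43 (x43) * (X 42 (x42))))))) := by
  obtain ⟨d, hd⟩ : ∃ d : K, (x42) * d = x43 :=
    exists_lin hx42 _
  have hw : (d * x42 + x43) = 0 := by linear_combination hd + (x43) * CharTwo.two_eq_zero (R := K)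
  have e : X 25 d * (X 40 (x40) * (X 46 (x46) * (X 45 (x45) * (X 47 (x47) * (X 43 (x43) * (X 42 (x42))))))) * (X 25 d)⁻¹ = (X 40 (x40) * (X 46 (d * x45 + x46) * (X 45 (x45) * (X 47 (x47) * (X 43 (d * x42 + x43) * (X 42 (x42))))))) := by
    rw [inv_eq]
    normX
  rw [hw, X_zero] at e
  simp only [one_mul, mul_one] at e
  exact Rch.step (xG_mem_group g₄ 25 d) e h fun h' => n43 hx40 hx42 h'

lemma n45 {x40 x46 x45 x47 x43 x42 : K} (hx40 : x40 ≠ 0)
    (h : (X 40 (x40) * (X 46 (x46) * (X 45 (x45) * (X 47 (x47) * (X 43 (x43) * (X 42 (x42))))))) * (X 40 (x40) * (X 46 (x46) * (X 45 (x45) * (X 47 (x47) * (X 43 (x43) * (X 42 (x42))))))) = 1) :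
    Rch (X 40 (x40) * (X 46 (x46) * (X 45 (x45) * (X 47 (x47) * (X 43 (x43) * (X 42 (x42))))))) := by
  rcases eq_or_ne x42 0 with rfl | hx42
  · simp only [X_zero, one_mul, mul_one] at h ⊢
    exact n33 hx40 h
  · exact n44 hx40 hx42 h

lemma n46 {x40 x46 x45 x44 x47 x43 x42 : K} (hx40 : x40 ≠ 0)
    (h : (X 40 (x40) * (X 46 (x46) * (X 45 (x45) * (X 44 (x44) * (X 47 (x47) * (X 43 (x43) * (X 42 (x42)))))))) * (X 40 (x40) * (X 46 (x46) * (X 45 (x45) * (X 44 (x44) * (X 47 (x47) * (X 43 (x43) * (X 42 (x42)))))))) = 1) :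
    Rch (X 40 (x40) * (X 46 (x46) * (X 45 (x45) * (X 44 (x44) * (X 47 (x47) * (X 43 (x43) * (X 42 (x42)))))))) := by
  obtain ⟨d, hd⟩ : ∃ d : K, (x40) * d = x44 :=
    exists_lin hx40 _
  have hw : (d * x40 + x44) = 0 := by linear_combination hd + (x44) * CharTwo.two_eq_zero (R := K)
  have e : X 33 d * (X 40 (x40) * (X 46 (x46) * (X 45 (x45) * (X 44 (x44) * (X 47 (x47) * (X 43 (x43) * (X 42 (x42)))))))) * (X 33 d)⁻¹ = (X 40 (x40) * (X 46 (x46) * (X 45 (x45) * (X 44 (d * x40 + x44) * (X 47 (x47) * (X 43 (x43) * (X 42 (x42)))))))) := by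
    rw [inv_eq]
    normX
  rw [hw, X_zero] at e
  simp only [one_mul, mul_one] at e
  exact Rch.step (xG_mem_group g₄ 33 d) e h fun h' => n45 hx40 h'

lemma n47 {x46 x39 x45 x44 x47 x43 x42 : K} (hx39 : x39 ≠ 0)
    (h : (X 46 (x46) * (X 39 (x39) * (X 45 (x45) * (X 44 (x44) * (X 47 (x47) * (X 43 (x43) * (X 42 (x42)))))))) * (X 46 (x46) * (X 39 (x39) * (X 45 (x45) * (X 44 (x44) * (X 47 (x47) * (X 43 (x43) * (X 42 (x42)))))))) = 1) :
    Rch (X 46 (x46) * (X 39 (x39) * (X 45 (x45) * (X 44 (x44) * (X 47 (x47) * (X 43 (x43) * (X 42 (x42)))))))) := by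
  have e : nS K g₄ 1 * (X 46 (x46) * (X 39 (x39) * (X 45 (x45) * (X 44 (x44) * (X 47 (x47) * (X 43 (x43) * (X 42 (x42)))))))) * (nS K g₄ 1)⁻¹ = (X 40 (x39) * (X 46 (x46) * (X 45 (x43) * (X 44 (x44) * (X 47 (x47) * (X 43 (x45) * (X 42 (x42)))))))) := by
    rw [← MulAut.conj_apply]
    simp only [map_mul, conj_s (i := 1) (r := 46) (r' := 46) (by decide +kernel), conj_s (i := 1) (r := 39) (r' := 40) (by decide +kernel), conj_s (i := 1) (r := 45) (r' := 43) (by decide +kernel), conj_s (i := 1) (r := 44) (r' := 44) (by decide +kernel), conj_s (i := 1) (r := 47) (r' := 47) (by decide +kernel), conj_s (i := 1) (r := 43) (r' := 45) (by decide +kernel), conj_s (i := 1) (r := 42) (r' := 42) (by decide +kernel)]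
    all_goals normX
  exact Rch.step (nS_mem_group (by decide)) e h fun h' => n46 hx39 h'

lemma n48 {x40 x46 x39 x45 x44 x47 x43 x42 : K} (hx39 : x39 ≠ 0)
    (h : (X 40 (x40) * (X 46 (x46) * (X 39 (x39) * (X 45 (x45) * (X 44 (x44) * (X 47 (x47) * (X 43 (x43) * (X 42 (x42))))))))) * (X 40 (x40) * (X 46 (x46) * (X 39 (x39) * (X 45 (x45) * (X 44 (x44) * (X 47 (x47) * (X 43 (x43) * (X 42 (x42))))))))) = 1) :
    Rch (X 40 (x40) * (X 46 (x46) * (X 39 (x39) * (X 45 (x45) * (X 44 (x44) * (X 47 (x47) * (X 43 (x43) * (X 42 (x42))))))))) := by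
  obtain ⟨d, hd⟩ : ∃ d : K, (x39) * d = x40 :=
    exists_lin hx39 _
  have hw : (d * x39 + x40) = 0 := by linear_combination hd + (x40) * CharTwo.two_eq_zero (R := K)
  have e : X 27 d * (X 40 (x40) * (X 46 (x46) * (X 39 (x39) * (X 45 (x45) * (X 44 (x44) * (X 47 (x47) * (X 43 (x43) * (X 42 (x42))))))))) * (X 27 d)⁻¹ = (X 40 (d * x39 + x40) * (X 46 (x46) * (X 39 (x39) * (X 45 (d ^ 2 * x43 + x45) * (X 44 (d * x43 + x44) * (X 47 (x47) * (X 43 (x43) * (X 42 (x42))))))))) := by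
    rw [inv_eq]
    normX
  rw [hw, X_zero] at e
  simp only [one_mul, mul_one] at e
  exact Rch.step (xG_mem_group g₄ 27 d) e h fun h' => n47 hx39 h'

lemma n49 {x40 x46 x39 x45 x44 x47 x43 x42 : K}
    (h : (X 40 (x40) * (X 46 (x46) * (X 39 (x39) * (X 45 (x45) * (X 44 (x44) * (X 47 (x47) * (X 43 (x43) * (X 42 (x42))))))))) * (X 40 (x40) * (X 46 (x46) * (X 39 (x39) * (X 45 (x45) * (X 44 (x44) * (X 47 (x47) * (X 43 (x43) * (X 42 (x42))))))))) = 1) :
    Rch (X 40 (x40) * (X 46 (x46) * (X 39 (x39) * (X 45 (x45) * (X 44 (x44) * (X 47 (x47) * (X 43 (x43) * (X 42 (x42))))))))) := by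
  rcases eq_or_ne x39 0 with rfl | hx39
  · simp only [X_zero, one_mul, mul_one] at h ⊢
    exact n42 h
  · exact n48 hx39 h

lemma n50 {x40 x46 x42 : K} (hx42 : x42 ≠ 0)
    (h : (X 40 (x40) * (X 46 (x46) * (X 42 (x42)))) * (X 40 (x40) * (X 46 (x46) * (X 42 (x42)))) = 1) :
    Rch (X 40 (x40) * (X 46 (x46) * (X 42 (x42)))) := by
  have e : nS K g₄ 2 * (X 40 (x40) * (X 46 (x46) * (X 42 (x42)))) * (nS K g₄ 2)⁻¹ = (X 40 (x40) * (X 45 (x46) * (X 43 (x42)))) := by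
    rw [← MulAut.conj_apply]
    simp only [map_mul, conj_s (i := 2) (r := 40) (r' := 40) (by decide +kernel), conj_s (i := 2) (r := 46) (r' := 45) (by decide +kernel), conj_s (i := 2) (r := 42) (r' := 43) (by decide +kernel)]
    all_goals normX
  exact Rch.step (nS_mem_group (by decide)) e h fun h' => n36 hx42 h'

lemma n51_1 {x40 x46 x42 : K} (hx40 : x40 ≠ 0) (hx42 : x42 ≠ 0)
    (h : (X 40 (x40) * (X 46 (x46) * (X 42 (x42)))) * (X 40 (x40) * (X 46 (x46) * (X 42 (x42)))) = 1) :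
    Rch (X 40 (x40) * (X 46 (x46) * (X 42 (x42)))) := by
  have e : nS K g₄ 2 * (X 40 (x40) * (X 46 (x46) * (X 42 (x42)))) * (nS K g₄ 2)⁻¹ = (X 40 (x40) * (X 45 (x46) * (X 43 (x42)))) := by
    rw [← MulAut.conj_apply]
    simp only [map_mul, conj_s (i := 2) (r := 40) (r' := 40) (by decide +kernel), conj_s (i := 2) (r := 46) (r' := 45) (by decide +kernel), conj_s (i := 2) (r := 42) (r' := 43) (by decide +kernel)]
    all_goals normX
  exact Rch.step (nS_mem_group (by decide)) e h fun h' => n30 hx40 hx42 h'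

lemma n51 {x46 x39 x42 : K} (hx39 : x39 ≠ 0) (hx42 : x42 ≠ 0)
    (h : (X 46 (x46) * (X 39 (x39) * (X 42 (x42)))) * (X 46 (x46) * (X 39 (x39) * (X 42 (x42)))) = 1) :
    Rch (X 46 (x46) * (X 39 (x39) * (X 42 (x42)))) := by
  have e : nS K g₄ 1 * (X 46 (x46) * (X 39 (x39) * (X 42 (x42)))) * (nS K g₄ 1)⁻¹ = (X 40 (x39) * (X 46 (x46) * (X 42 (x42)))) := by
    rw [← MulAut.conj_apply]
    simp only [map_mul, conj_s (i := 1) (r := 46) (r' := 46) (by decide +kernel), conj_s (i := 1) (r := 39) (r' := 40) (by decide +kernel), conj_s (i := 1) (r := 42) (r' := 42) (by decide +kernel)]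
    all_goals normX
  exact Rch.step (nS_mem_group (by decide)) e h fun h' => n51_1 hx39 hx42 h'

lemma n52 {x40 x46 x39 x42 : K} (hx39 : x39 ≠ 0) (hx42 : x42 ≠ 0)
    (h : (X 40 (x40) * (X 46 (x46) * (X 39 (x39) * (X 42 (x42))))) * (X 40 (x40) * (X 46 (x46) * (X 39 (x39) * (X 42 (x42))))) = 1) :
    Rch (X 40 (x40) * (X 46 (x46) * (X 39 (x39) * (X 42 (x42))))) := by
  obtain ⟨d, hd⟩ : ∃ d : K, (x39) * d = x40 :=
    exists_lin hx39 _
  have hw : (d * x39 + x40) = 0 := by linear_combination hd + (x40) * CharTwo.two_eq_zero (R := K)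
  have e : X 27 d * (X 40 (x40) * (X 46 (x46) * (X 39 (x39) * (X 42 (x42))))) * (X 27 d)⁻¹ = (X 40 (d * x39 + x40) * (X 46 (x46) * (X 39 (x39) * (X 42 (x42))))) := by
    rw [inv_eq]
    normX
  rw [hw, X_zero] at e
  simp only [one_mul, mul_one] at e
  exact Rch.step (xG_mem_group g₄ 27 d) e h fun h' => n51 hx39 hx42 h'

lemma n53 {x40 x46 x39 x42 : K} (hx42 : x42 ≠ 0)
    (h : (X 40 (x40) * (X 46 (x46) * (X 39 (x39) * (X 42 (x42))))) * (X 40 (x40) * (X 46 (x46) * (X 39 (x39) * (X 42 (x42))))) = 1) :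
    Rch (X 40 (x40) * (X 46 (x46) * (X 39 (x39) * (X 42 (x42))))) := by
  rcases eq_or_ne x39 0 with rfl | hx39
  · simp only [X_zero, one_mul, mul_one] at h ⊢
    exact n50 hx42 h
  · exact n52 hx39 hx42 h

lemma n54 {x40 x46 x39 x47 x42 : K} (hx42 : x42 ≠ 0)
    (h : (X 40 (x40) * (X 46 (x46) * (X 39 (x39) * (X 47 (x47) * (X 42 (x42)))))) * (X 40 (x40) * (X 46 (x46) * (X 39 (x39) * (X 47 (x47) * (X 42 (x42)))))) = 1) :
    Rch (X 40 (x40) * (X 46 (x46) * (X 39 (x39) * (X 47 (x47) * (X 42 (x42)))))) := by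
  obtain ⟨d, hd⟩ : ∃ d : K, (x42) * d = x47 :=
    exists_lin hx42 _
  have hw : (d * x42 + x47) = 0 := by linear_combination hd + (x47) * CharTwo.two_eq_zero (R := K)
  have e : X 32 d * (X 40 (x40) * (X 46 (x46) * (X 39 (x39) * (X 47 (x47) * (X 42 (x42)))))) * (X 32 d)⁻¹ = (X 40 (x40) * (X 46 (x46) * (X 39 (x39) * (X 47 (d * x42 + x47) * (X 42 (x42)))))) := by
    rw [inv_eq]
    normX
  rw [hw, X_zero] at e
  simp only [one_mul, mul_one] at e
  exact Rch.step (xG_mem_group g₄ 32 d) e h fun h' => n53 hx42 h'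

lemma n55 {x40 x46 x39 x45 x47 x42 : K} (hx42 : x42 ≠ 0)
    (h : (X 40 (x40) * (X 46 (x46) * (X 39 (x39) * (X 45 (x45) * (X 47 (x47) * (X 42 (x42))))))) * (X 40 (x40) * (X 46 (x46) * (X 39 (x39) * (X 45 (x45) * (X 47 (x47) * (X 42 (x42))))))) = 1) :
    Rch (X 40 (x40) * (X 46 (x46) * (X 39 (x39) * (X 45 (x45) * (X 47 (x47) * (X 42 (x42))))))) := by
  obtain ⟨d, hd⟩ : ∃ d : K, (x42) * d = x45 :=
    exists_lin hx42 _
  have hw : (d * x42 + x45) = 0 := by linear_combination hd + (x45) * CharTwo.two_eq_zero (R := K)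
  have e : X 30 d * (X 40 (x40) * (X 46 (x46) * (X 39 (x39) * (X 45 (x45) * (X 47 (x47) * (X 42 (x42))))))) * (X 30 d)⁻¹ = (X 40 (x40) * (X 46 (x46) * (X 39 (x39) * (X 45 (d * x42 + x45) * (X 47 (x47) * (X 42 (x42))))))) := by
    rw [inv_eq]
    normX
  rw [hw, X_zero] at e
  simp only [one_mul, mul_one] at e
  exact Rch.step (xG_mem_group g₄ 30 d) e h fun h' => n54 hx42 h'

lemma n56 {x40 x46 x39 x45 x44 x47 x42 : K} (hx42 : x42 ≠ 0)
    (h : (X 40 (x40) * (X 46 (x46) * (X 39 (x39) * (X 45 (x45) * (X 44 (x44) * (X 47 (x47) * (X 42 (x42)))))))) * (X 40 (x40) * (X 46 (x46) * (X 39 (x39) * (X 45 (x45) * (X 44 (x44) * (X 47 (x47) * (X 42 (x42)))))))) = 1) :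
    Rch (X 40 (x40) * (X 46 (x46) * (X 39 (x39) * (X 45 (x45) * (X 44 (x44) * (X 47 (x47) * (X 42 (x42)))))))) := by
  obtain ⟨d, hd⟩ : ∃ d : K, (x42) * d = x44 :=
    exists_lin hx42 _
  have hw : (d * x42 + x44) = 0 := by linear_combination hd + (x44) * CharTwo.two_eq_zero (R := K)
  have e : X 28 d * (X 40 (x40) * (X 46 (x46) * (X 39 (x39) * (X 45 (x45) * (X 44 (x44) * (X 47 (x47) * (X 42 (x42)))))))) * (X 28 d)⁻¹ = (X 40 (x40) * (X 46 (d ^ 2 * x42 + x46) * (X 39 (x39) * (X 45 (x45) * (X 44 (d * x42 + x44) * (X 47 (x47) * (X 42 (x42)))))))) := by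
    rw [inv_eq]
    normX
  rw [hw, X_zero] at e
  simp only [one_mul, mul_one] at e
  exact Rch.step (xG_mem_group g₄ 28 d) e h fun h' => n55 hx42 h'

lemma n57 {x40 x46 x39 x45 x44 x47 x43 x42 : K} (hx42 : x42 ≠ 0)
    (h : (X 40 (x40) * (X 46 (x46) * (X 39 (x39) * (X 45 (x45) * (X 44 (x44) * (X 47 (x47) * (X 43 (x43) * (X 42 (x42))))))))) * (X 40 (x40) * (X 46 (x46) * (X 39 (x39) * (X 45 (x45) * (X 44 (x44) * (X 47 (x47) * (X 43 (x43) * (X 42 (x42))))))))) = 1) :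
    Rch (X 40 (x40) * (X 46 (x46) * (X 39 (x39) * (X 45 (x45) * (X 44 (x44) * (X 47 (x47) * (X 43 (x43) * (X 42 (x42))))))))) := by
  obtain ⟨d, hd⟩ : ∃ d : K, (x42) * d = x43 :=
    exists_lin hx42 _
  have hw : (d * x42 + x43) = 0 := by linear_combination hd + (x43) * CharTwo.two_eq_zero (R := K)
  have e : X 25 d * (X 40 (x40) * (X 46 (x46) * (X 39 (x39) * (X 45 (x45) * (X 44 (x44) * (X 47 (x47) * (X 43 (x43) * (X 42 (x42))))))))) * (X 25 d)⁻¹ = (X 40 (x40) * (X 46 (d * x45 + x46) * (X 39 (x39) * (X 45 (x45) * (X 44 (x44) * (X 47 (x47) * (X 43 (d * x42 + x43) * (X 42 (x42))))))))) := by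
    rw [inv_eq]
    normX
  rw [hw, X_zero] at e
  simp only [one_mul, mul_one] at e
  exact Rch.step (xG_mem_group g₄ 25 d) e h fun h' => n56 hx42 h'

lemma n58 {x40 x46 x39 x45 x41 x44 x47 x43 : K} (hx41 : x41 ≠ 0)
    (h : (X 40 (x40) * (X 46 (x46) * (X 39 (x39) * (X 45 (x45) * (X 41 (x41) * (X 44 (x44) * (X 47 (x47) * (X 43 (x43))))))))) * (X 40 (x40) * (X 46 (x46) * (X 39 (x39) * (X 45 (x45) * (X 41 (x41) * (X 44 (x44) * (X 47 (x47) * (X 43 (x43))))))))) = 1) :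
    Rch (X 40 (x40) * (X 46 (x46) * (X 39 (x39) * (X 45 (x45) * (X 41 (x41) * (X 44 (x44) * (X 47 (x47) * (X 43 (x43))))))))) := by
  have e : nS K g₄ 3 * (X 40 (x40) * (X 46 (x46) * (X 39 (x39) * (X 45 (x45) * (X 41 (x41) * (X 44 (x44) * (X 47 (x47) * (X 43 (x43))))))))) * (nS K g₄ 3)⁻¹ = (X 40 (x40) * (X 46 (x47) * (X 39 (x39) * (X 45 (x45) * (X 44 (x44) * (X 47 (x46) * (X 43 (x43) * (X 42 (x41))))))))) := by
    rw [← MulAut.conj_apply]
    simp only [map_mul, conj_s (i := 3) (r := 40) (r' := 40) (by decide +kernel), conj_s (i := 3) (r := 46) (r' := 47) (by decide +kernel), conj_s (i := 3) (r := 39) (r' := 39) (by decide +kernel), conj_s (i := 3) (r := 45) (r' := 45) (by decide +kernel), conj_s (i := 3) (r := 41) (r' := 42) (by decide +kernel), conj_s (i := 3) (r := 44) (r' := 44) (by decide +kernel), conj_s (i := 3) (r := 47) (r' := 46) (by decide +kernel), conj_s (i := 3) (r := 43) (r' := 43)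 (by decide +kernel)]
    all_goals normX
  exact Rch.step (nS_mem_group (by decide)) e h fun h' => n57 hx41 h'

lemma n59 {x40 x46 x39 x45 x41 x44 x47 x43 x42 : K} (hx41 : x41 ≠ 0)
    (h : (X 40 (x40) * (X 46 (x46) * (X 39 (x39) * (X 45 (x45) * (X 41 (x41) * (X 44 (x44) * (X 47 (x47) * (X 43 (x43) * (X 42 (x42)))))))))) * (X 40 (x40) * (X 46 (x46) * (X 39 (x39) * (X 45 (x45) * (X 41 (x41) * (X 44 (x44) * (X 47 (x47) * (X 43 (x43) * (X 42 (x42)))))))))) = 1) :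
    Rch (X 40 (x40) * (X 46 (x46) * (X 39 (x39) * (X 45 (x45) * (X 41 (x41) * (X 44 (x44) * (X 47 (x47) * (X 43 (x43) * (X 42 (x42)))))))))) := by
  obtain ⟨d, hd⟩ : ∃ d : K, (x41) * d = x42 :=
    exists_lin hx41 _
  have hw : (d * x41 + x42) = 0 := by linear_combination hd + (x42) * CharTwo.two_eq_zero (R := K)
  have e : X 24 d * (X 40 (x40) * (X 46 (x46) * (X 39 (x39) * (X 45 (x45) * (X 41 (x41) * (X 44 (x44) * (X 47 (x47) * (X 43 (x43) * (X 42 (x42)))))))))) * (X 24 d)⁻¹ = (X 40 (x40) * (X 46 (x46) * (X 39 (x39) * (X 45 (x45) * (X 41 (x41) * (X 44 (x44) * (X 47 (d * x46 + x47) * (X 43 (x43) * (X 42 (d * x41 + x42)))))))))) := by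
    rw [inv_eq]
    normX
  rw [hw, X_zero] at e
  simp only [one_mul, mul_one] at e
  exact Rch.step (xG_mem_group g₄ 24 d) e h fun h' => n58 hx41 h'

lemma n60 {x40 x46 x39 x45 x41 x44 x47 x43 x42 : K}
    (h : (X 40 (x40) * (X 46 (x46) * (X 39 (x39) * (X 45 (x45) * (X 41 (x41) * (X 44 (x44) * (X 47 (x47) * (X 43 (x43) * (X 42 (x42)))))))))) * (X 40 (x40) * (X 46 (x46) * (X 39 (x39) * (X 45 (x45) * (X 41 (x41) * (X 44 (x44) * (X 47 (x47) * (X 43 (x43) * (X 42 (x42)))))))))) = 1) :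
    Rch (X 40 (x40) * (X 46 (x46) * (X 39 (x39) * (X 45 (x45) * (X 41 (x41) * (X 44 (x44) * (X 47 (x47) * (X 43 (x43) * (X 42 (x42)))))))))) := by
  rcases eq_or_ne x41 0 with rfl | hx41
  · simp only [X_zero, one_mul, mul_one] at h ⊢
    exact n49 h
  · exact n59 hx41 h

lemma n61 {x40 x46 x45 x41 x47 x43 : K} (hx40 : x40 ≠ 0) (hx41 : x41 ≠ 0)
    (h : (X 40 (x40) * (X 46 (x46) * (X 45 (x45) * (X 41 (x41) * (X 47 (x47) * (X 43 (x43))))))) * (X 40 (x40) * (X 46 (x46) * (X 45 (x45) * (X 41 (x41) * (X 47 (x47) * (X 43 (x43))))))) = 1) :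
    Rch (X 40 (x40) * (X 46 (x46) * (X 45 (x45) * (X 41 (x41) * (X 47 (x47) * (X 43 (x43))))))) := by
  have e : nS K g₄ 3 * (X 40 (x40) * (X 46 (x46) * (X 45 (x45) * (X 41 (x41) * (X 47 (x47) * (X 43 (x43))))))) * (nS K g₄ 3)⁻¹ = (X 40 (x40) * (X 46 (x47) * (X 45 (x45) * (X 47 (x46) * (X 43 (x43) * (X 42 (x41))))))) := by
    rw [← MulAut.conj_apply]
    simp only [map_mul, conj_s (i := 3) (r := 40) (r' := 40) (by decide +kernel), conj_s (i := 3) (r := 46) (r' := 47) (by decide +kernel), conj_s (i := 3) (r := 45) (r' := 45) (by decide +kernel), conj_s (i := 3) (r := 41) (r' := 42) (by decide +kernel), conj_s (i := 3) (r := 47) (r' := 46) (by decide +kernel), conj_s (i := 3) (r := 43) (r' := 43) (by decide +kernel)]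
    all_goals normX
  exact Rch.step (nS_mem_group (by decide)) e h fun h' => n44 hx40 hx41 h'

end CfsgLib.Chev.F4Inv
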