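/-
Reduction of the involutions in the unipotent subgroup of type F4: cases, part 2.
-/
import Cfsg.Agent.Lib.Chev.F4Invol.Red1

set_option autoImplicit false
set_option maxRecDepth 100000
set_option maxHeartbeats 4000000
set_option linter.unusedSimpArgs false
set_option linter.unusedVariables false
set_option linter.unusedSectionVars false

namespace CfsgLib.Chev.F4Inv

open Cfsg.Lie Matrix CfsgLib.Chev CfsgLib.Chev.F42Invol

variable {K : Type*} [Field K] [CharP K 2] [Fintype K]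

local notation "g₄" => stdF4.good

lemma n62 {x40 x46 x45 x41 x47 x43 x42 : K} (hx40 : x40 ≠ 0) (hx41 : x41 ≠ 0)
    (h : (X 40 (x40) * (X 46 (x46) * (X 45 (x45) * (X 41 (x41) * (X 47 (x47) * (X 43 (x43) * (X 42 (x42)))))))) * (X 40 (x40) * (X 46 (x46) * (X 45 (x45) * (X 41 (x41) * (X 47 (x47) * (X 43 (x43) * (X 42 (x42)))))))) = 1) :
    Rch (X 40 (x40) * (X 46 (x46) * (X 45 (x45) * (X 41 (x41) * (X 47 (x47) * (X 43 (x43) * (X 42 (x42)))))))) := by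
  obtain ⟨d, hd⟩ : ∃ d : K, (x41) * d = x42 :=
    exists_lin hx41 _
  have hw : (d * x41 + x42) = 0 := by linear_combination hd + (x42) * CharTwo.two_eq_zero (R := K)
  have e : X 24 d * (X 40 (x40) * (X 46 (x46) * (X 45 (x45) * (X 41 (x41) * (X 47 (x47) * (X 43 (x43) * (X 42 (x42)))))))) * (X 24 d)⁻¹ = (X 40 (x40) * (X 46 (x46) * (X 45 (x45) * (X 41 (x41) * (X 47 (d * x46 + x47) * (X 43 (x43) * (X 42 (d * x41 + x42)))))))) := by
    rw [inv_eq]
    normX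
  rw [hw, X_zero] at e
  simp only [one_mul, mul_one] at e
  exact Rch.step (xG_mem_group g₄ 24 d) e h fun h' => n61 hx40 hx41 h'

lemma n63 {x40 x46 x45 x41 x47 x43 x42 : K} (hx40 : x40 ≠ 0)
    (h : (X 40 (x40) * (X 46 (x46) * (X 45 (x45) * (X 41 (x41) * (X 47 (x47) * (X 43 (x43) * (X 42 (x42)))))))) * (X 40 (x40) * (X 46 (x46) * (X 45 (x45) * (X 41 (x41) * (X 47 (x47) * (X 43 (x43) * (X 42 (x42)))))))) = 1) :
    Rch (X 40 (x40) * (X 46 (x46) * (X 45 (x45) * (X 41 (x41) * (X 47 (x47) * (X 43 (x43) * (X 42 (x42)))))))) := by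
  rcases eq_or_ne x41 0 with rfl | hx41
  · simp only [X_zero, one_mul, mul_one] at h ⊢
    exact n45 hx40 h
  · exact n62 hx40 hx41 h

lemma n64 {x40 x46 x45 x41 x44 x47 x43 x42 : K} (hx40 : x40 ≠ 0)
    (h : (X 40 (x40) * (X 46 (x46) * (X 45 (x45) * (X 41 (x41) * (X 44 (x44) * (X 47 (x47) * (X 43 (x43) * (X 42 (x42))))))))) * (X 40 (x40) * (X 46 (x46) * (X 45 (x45) * (X 41 (x41) * (X 44 (x44) * (X 47 (x47) * (X 43 (x43) * (X 42 (x42))))))))) = 1) :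
    Rch (X 40 (x40) * (X 46 (x46) * (X 45 (x45) * (X 41 (x41) * (X 44 (x44) * (X 47 (x47) * (X 43 (x43) * (X 42 (x42))))))))) := by
  obtain ⟨d, hd⟩ : ∃ d : K, (x40) * d = x44 :=
    exists_lin hx40 _
  have hw : (d * x40 + x44) = 0 := by linear_combination hd + (x44) * CharTwo.two_eq_zero (R := K)
  have e : X 33 d * (X 40 (x40) * (X 46 (x46) * (X 45 (x45) * (X 41 (x41) * (X 44 (x44) * (X 47 (x47) * (X 43 (x43) * (X 42 (x42))))))))) * (X 33 d)⁻¹ = (X 40 (x40) * (X 46 (x46) * (X 45 (x45) * (X 41 (x41) * (X 44 (d * x40 + x44) * (X 47 (x47) * (X 43 (x43) * (X 42 (x42))))))))) := by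
    rw [inv_eq]
    normX
  rw [hw, X_zero] at e
  simp only [one_mul, mul_one] at e
  exact Rch.step (xG_mem_group g₄ 33 d) e h fun h' => n63 hx40 h'

lemma n65 {x46 x39 x45 x41 x44 x47 x43 x42 : K} (hx39 : x39 ≠ 0)
    (h : (X 46 (x46) * (X 39 (x39) * (X 45 (x45) * (X 41 (x41) * (X 44 (x44) * (X 47 (x47) * (X 43 (x43) * (X 42 (x42))))))))) * (X 46 (x46) * (X 39 (x39) * (X 45 (x45) * (X 41 (x41) * (X 44 (x44) * (X 47 (x47) * (X 43 (x43) * (X 42 (x42))))))))) = 1) :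
    Rch (X 46 (x46) * (X 39 (x39) * (X 45 (x45) * (X 41 (x41) * (X 44 (x44) * (X 47 (x47) * (X 43 (x43) * (X 42 (x42))))))))) := by
  have e : nS K g₄ 1 * (X 46 (x46) * (X 39 (x39) * (X 45 (x45) * (X 41 (x41) * (X 44 (x44) * (X 47 (x47) * (X 43 (x43) * (X 42 (x42))))))))) * (nS K g₄ 1)⁻¹ = (X 40 (x39) * (X 46 (x46) * (X 45 (x43) * (X 41 (x41) * (X 44 (x44) * (X 47 (x47) * (X 43 (x45) * (X 42 (x42))))))))) := by
    rw [← MulAut.conj_apply]
    simp only [map_mul, conj_s (i := 1) (r := 46) (r' := 46) (by decide +kernel), conj_s (i := 1) (r := 39) (r' := 40) (by decide +kernel), conj_s (i := 1) (r := 45) (r' := 43) (by decide +kernel), conj_s (i := 1) (r := 41) (r' := 41) (by decide +kernel), conj_s (i := 1) (r := 44) (r' := 44) (by decide +kernel), conj_s (i := 1) (r := 47) (r' := 47) (by decide +kernel), conj_s (i := 1) (r := 43) (r' := 45) (by decide +kernel), conj_s (i := 1) (r := 42) (r' :=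 42) (by decide +kernel)]
    all_goals normX
  exact Rch.step (nS_mem_group (by decide)) e h fun h' => n64 hx39 h'

lemma n66 {x40 x46 x39 x45 x41 x44 x47 x43 x42 : K} (hx39 : x39 ≠ 0)
    (h : (X 40 (x40) * (X 46 (x46) * (X 39 (x39) * (X 45 (x45) * (X 41 (x41) * (X 44 (x44) * (X 47 (x47) * (X 43 (x43) * (X 42 (x42)))))))))) * (X 40 (x40) * (X 46 (x46) * (X 39 (x39) * (X 45 (x45) * (X 41 (x41) * (X 44 (x44) * (X 47 (x47) * (X 43 (x43) * (X 42 (x42)))))))))) = 1) :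
    Rch (X 40 (x40) * (X 46 (x46) * (X 39 (x39) * (X 45 (x45) * (X 41 (x41) * (X 44 (x44) * (X 47 (x47) * (X 43 (x43) * (X 42 (x42)))))))))) := by
  obtain ⟨d, hd⟩ : ∃ d : K, (x39) * d = x40 :=
    exists_lin hx39 _
  have hw : (d * x39 + x40) = 0 := by linear_combination hd + (x40) * CharTwo.two_eq_zero (R := K)
  have e : X 27 d * (X 40 (x40) * (X 46 (x46) * (X 39 (x39) * (X 45 (x45) * (X 41 (x41) * (X 44 (x44) * (X 47 (x47) * (X 43 (x43) * (X 42 (x42)))))))))) * (X 27 d)⁻¹ = (X 40 (d * x39 + x40) * (X 46 (x46) * (X 39 (x39) * (X 45 (d ^ 2 * x43 + x45) * (X 41 (x41) * (X 44 (d * x43 + x44) * (X 47 (x47) * (X 43 (x43) * (X 42 (x42)))))))))) := by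
    rw [inv_eq]
    normX
  rw [hw, X_zero] at e
  simp only [one_mul, mul_one] at e
  exact Rch.step (xG_mem_group g₄ 27 d) e h fun h' => n65 hx39 h'

lemma n67 {x40 x46 x45 x41 x44 x47 x38 x43 x42 : K} (hx38 : x38 ≠ 0)
    (h : (X 40 (x40) * (X 46 (x46) * (X 45 (x45) * (X 41 (x41) * (X 44 (x44) * (X 47 (x47) * (X 38 (x38) * (X 43 (x43) * (X 42 (x42)))))))))) * (X 40 (x40) * (X 46 (x46) * (X 45 (x45) * (X 41 (x41) * (X 44 (x44) * (X 47 (x47) * (X 38 (x38) * (X 43 (x43) * (X 42 (x42)))))))))) = 1) :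
    Rch (X 40 (x40) * (X 46 (x46) * (X 45 (x45) * (X 41 (x41) * (X 44 (x44) * (X 47 (x47) * (X 38 (x38) * (X 43 (x43) * (X 42 (x42)))))))))) := by
  have e : nS K g₄ 2 * (X 40 (x40) * (X 46 (x46) * (X 45 (x45) * (X 41 (x41) * (X 44 (x44) * (X 47 (x47) * (X 38 (x38) * (X 43 (x43) * (X 42 (x42)))))))))) * (nS K g₄ 2)⁻¹ = (X 40 (x40) * (X 46 (x45) * (X 39 (x38) * (X 45 (x46) * (X 41 (x41) * (X 44 (x44) * (X 47 (x47) * (X 43 (x42) * (X 42 (x43)))))))))) := by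
    rw [← MulAut.conj_apply]
    simp only [map_mul, conj_s (i := 2) (r := 40) (r' := 40) (by decide +kernel), conj_s (i := 2) (r := 46) (r' := 45) (by decide +kernel), conj_s (i := 2) (r := 45) (r' := 46) (by decide +kernel), conj_s (i := 2) (r := 41) (r' := 41) (by decide +kernel), conj_s (i := 2) (r := 44) (r' := 44) (by decide +kernel), conj_s (i := 2) (r := 47) (r' := 47) (by decide +kernel), conj_s (i := 2) (r := 38) (r' := 39) (by decide +kernel), conj_s (i := 2) (r := 43) (r' := 42) (by decide +kernel), conj_s (i := 2) (r := 42) (r' := 43) (by decide +kernel)]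
    all_goals normX
  exact Rch.step (nS_mem_group (by decide)) e h fun h' => n66 hx38 h'

lemma n68 {x40 x46 x39 x45 x41 x44 x47 x38 x43 x42 : K} (hx38 : x38 ≠ 0)
    (h : (X 40 (x40) * (X 46 (x46) * (X 39 (x39) * (X 45 (x45) * (X 41 (x41) * (X 44 (x44) * (X 47 (x47) * (X 38 (x38) * (X 43 (x43) * (X 42 (x42))))))))))) * (X 40 (x40) * (X 46 (x46) * (X 39 (x39) * (X 45 (x45) * (X 41 (x41) * (X 44 (x44) * (X 47 (x47) * (X 38 (x38) * (X 43 (x43) * (X 42 (x42))))))))))) = 1) :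
    Rch (X 40 (x40) * (X 46 (x46) * (X 39 (x39) * (X 45 (x45) * (X 41 (x41) * (X 44 (x44) * (X 47 (x47) * (X 38 (x38) * (X 43 (x43) * (X 42 (x42))))))))))) := by
  obtain ⟨d, hd⟩ : ∃ d : K, (x38) * d = x39 :=
    exists_lin hx38 _
  have hw : (d * x38 + x39) = 0 := by linear_combination hd + (x39) * CharTwo.two_eq_zero (R := K)
  have e : X 25 d * (X 40 (x40) * (X 46 (x46) * (X 39 (x39) * (X 45 (x45) * (X 41 (x41) * (X 44 (x44) * (X 47 (x47) * (X 38 (x38) * (X 43 (x43) * (X 42 (x42))))))))))) * (X 25 d)⁻¹ = (X 40 (x40) * (X 46 (d * x45 + x46) * (X 39 (d * x38 + x39) * (X 45 (x45) * (X 41 (x41) * (X 44 (x44) * (X 47 (d * x38 ^ 2 + x47) * (X 38 (x38) * (X 43 (d * x42 + x43) * (X 42 (x42))))))))))) := by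
    rw [inv_eq]
    normX
  rw [hw, X_zero] at e
  simp only [one_mul, mul_one] at e
  exact Rch.step (xG_mem_group g₄ 25 d) e h fun h' => n67 hx38 h'

lemma n69 {x40 x46 x39 x45 x41 x44 x47 x38 x43 x42 : K}
    (h : (X 40 (x40) * (X 46 (x46) * (X 39 (x39) * (X 45 (x45) * (X 41 (x41) * (X 44 (x44) * (X 47 (x47) * (X 38 (x38) * (X 43 (x43) * (X 42 (x42))))))))))) * (X 40 (x40) * (X 46 (x46) * (X 39 (x39) * (X 45 (x45) * (X 41 (x41) * (X 44 (x44) * (X 47 (x47) * (X 38 (x38) * (X 43 (x43) * (X 42 (x42))))))))))) = 1) :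
    Rch (X 40 (x40) * (X 46 (x46) * (X 39 (x39) * (X 45 (x45) * (X 41 (x41) * (X 44 (x44) * (X 47 (x47) * (X 38 (x38) * (X 43 (x43) * (X 42 (x42))))))))))) := by
  rcases eq_or_ne x38 0 with rfl | hx38
  · simp only [X_zero, one_mul, mul_one] at h ⊢
    exact n60 h
  · exact n68 hx38 h

lemma n70 {x37 x40 x46 x39 x45 x41 x44 x47 x43 x42 : K} (hx37 : x37 ≠ 0)
    (h : (X 37 (x37) * (X 40 (x40) * (X 46 (x46) * (X 39 (x39) * (X 45 (x45) * (X 41 (x41) * (X 44 (x44) * (X 47 (x47) * (X 43 (x43) * (X 42 (x42))))))))))) * (X 37 (x37) * (X 40 (x40) * (X 46 (x46) * (X 39 (x39) * (X 45 (x45) * (X 41 (x41) * (X 44 (x44) * (X 47 (x47) * (X 43 (x43) * (X 42 (x42))))))))))) = 1) :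
    Rch (X 37 (x37) * (X 40 (x40) * (X 46 (x46) * (X 39 (x39) * (X 45 (x45) * (X 41 (x41) * (X 44 (x44) * (X 47 (x47) * (X 43 (x43) * (X 42 (x42))))))))))) := by
  have e : nS K g₄ 3 * (X 37 (x37) * (X 40 (x40) * (X 46 (x46) * (X 39 (x39) * (X 45 (x45) * (X 41 (x41) * (X 44 (x44) * (X 47 (x47) * (X 43 (x43) * (X 42 (x42))))))))))) * (nS K g₄ 3)⁻¹ = (X 40 (x40) * (X 46 (x47) * (X 39 (x39) * (X 45 (x45) * (X 41 (x42) * (X 44 (x44) * (X 47 (x46) * (X 38 (x37) * (X 43 (x43) * (X 42 (x41))))))))))) := by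
    rw [← MulAut.conj_apply]
    simp only [map_mul, conj_s (i := 3) (r := 37) (r' := 38) (by decide +kernel), conj_s (i := 3) (r := 40) (r' := 40) (by decide +kernel), conj_s (i := 3) (r := 46) (r' := 47) (by decide +kernel), conj_s (i := 3) (r := 39) (r' := 39) (by decide +kernel), conj_s (i := 3) (r := 45) (r' := 45) (by decide +kernel), conj_s (i := 3) (r := 41) (r' := 42) (by decide +kernel), conj_s (i := 3) (r := 44) (r' := 44) (by decide +kernel), conj_s (i := 3) (r := 47) (r' := 46) (by decide +kernel), conj_s (i := 3) (r := 43) (r' := 43) (by decide +kernel), conj_s (i := 3) (r := 42) (r' := 41) (by decide +kernel)]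
    all_goals normX
  exact Rch.step (nS_mem_group (by decide)) e h fun h' => n68 hx37 h'

lemma n71 {x37 x40 x46 x39 x45 x41 x44 x47 x38 x43 x42 : K} (hx37 : x37 ≠ 0)
    (h : (X 37 (x37) * (X 40 (x40) * (X 46 (x46) * (X 39 (x39) * (X 45 (x45) * (X 41 (x41) * (X 44 (x44) * (X 47 (x47) * (X 38 (x38) * (X 43 (x43) * (X 42 (x42)))))))))))) * (X 37 (x37) * (X 40 (x40) * (X 46 (x46) * (X 39 (x39) * (X 45 (x45) * (X 41 (x41) * (X 44 (x44) * (X 47 (x47) * (X 38 (x38) * (X 43 (x43) * (X 42 (x42)))))))))))) = 1) :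
    Rch (X 37 (x37) * (X 40 (x40) * (X 46 (x46) * (X 39 (x39) * (X 45 (x45) * (X 41 (x41) * (X 44 (x44) * (X 47 (x47) * (X 38 (x38) * (X 43 (x43) * (X 42 (x42)))))))))))) := by
  obtain ⟨d, hd⟩ : ∃ d : K, (x37) * d = x38 :=
    exists_lin hx37 _
  have hw : (d * x37 + x38) = 0 := by linear_combination hd + (x38) * CharTwo.two_eq_zero (R := K)
  have e : X 24 d * (X 37 (x37) * (X 40 (x40) * (X 46 (x46) * (X 39 (x39) * (X 45 (x45) * (X 41 (x41) * (X 44 (x44) * (X 47 (x47) * (X 38 (x38) * (X 43 (x43) * (X 42 (x42)))))))))))) * (X 24 d)⁻¹ = (X 37 (x37) * (X 40 (x40) * (X 46 (x46) * (X 39 (x39) * (X 45 (d * x37 ^ 2 + x45) * (X 41 (x41) * (X 44 (x44) * (X 47 (d * x46 + x47) * (X 38 (d * x37 + x38) * (X 43 (x43) * (X 42 (d * x41 + x42)))))))))))) := by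
    rw [inv_eq]
    normX
  rw [hw, X_zero] at e
  simp only [one_mul, mul_one] at e
  exact Rch.step (xG_mem_group g₄ 24 d) e h fun h' => n70 hx37 h'

lemma n72 {x37 x40 x46 x39 x45 x41 x44 x47 x38 x43 x42 : K}
    (h : (X 37 (x37) * (X 40 (x40) * (X 46 (x46) * (X 39 (x39) * (X 45 (x45) * (X 41 (x41) * (X 44 (x44) * (X 47 (x47) * (X 38 (x38) * (X 43 (x43) * (X 42 (x42)))))))))))) * (X 37 (x37) * (X 40 (x40) * (X 46 (x46) * (X 39 (x39) * (X 45 (x45) * (X 41 (x41) * (X 44 (x44) * (X 47 (x47) * (X 38 (x38) * (X 43 (x43) * (X 42 (x42)))))))))))) = 1) :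
    Rch (X 37 (x37) * (X 40 (x40) * (X 46 (x46) * (X 39 (x39) * (X 45 (x45) * (X 41 (x41) * (X 44 (x44) * (X 47 (x47) * (X 38 (x38) * (X 43 (x43) * (X 42 (x42)))))))))))) := by
  rcases eq_or_ne x37 0 with rfl | hx37
  · simp only [X_zero, one_mul, mul_one] at h ⊢
    exact n69 h
  · exact n71 hx37 h

lemma n73 {x40 x46 x39 x45 x41 x44 x47 x43 x36 x42 : K} (hx36 : x36 ≠ 0)
    (h : (X 40 (x40) * (X 46 (x46) * (X 39 (x39) * (X 45 (x45) * (X 41 (x41) * (X 44 (x44) * (X 47 (x47) * (X 43 (x43) * (X 36 (x36) * (X 42 (x42))))))))))) * (X 40 (x40) * (X 46 (x46) * (X 39 (x39) * (X 45 (x45) * (X 41 (x41) * (X 44 (x44) * (X 47 (x47) * (X 43 (x43) * (X 36 (x36) * (X 42 (x42))))))))))) = 1) :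
    Rch (X 40 (x40) * (X 46 (x46) * (X 39 (x39) * (X 45 (x45) * (X 41 (x41) * (X 44 (x44) * (X 47 (x47) * (X 43 (x43) * (X 36 (x36) * (X 42 (x42))))))))))) := by
  have e : nS K g₄ 1 * (X 40 (x40) * (X 46 (x46) * (X 39 (x39) * (X 45 (x45) * (X 41 (x41) * (X 44 (x44) * (X 47 (x47) * (X 43 (x43) * (X 36 (x36) * (X 42 (x42))))))))))) * (nS K g₄ 1)⁻¹ = (X 40 (x39) * (X 46 (x46) * (X 39 (x40) * (X 45 (x43) * (X 41 (x41) * (X 44 (x44) * (X 47 (x47) * (X 38 (x36) * (X 43 (x45) * (X 42 (x42))))))))))) := by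
    rw [← MulAut.conj_apply]
    simp only [map_mul, conj_s (i := 1) (r := 40) (r' := 39) (by decide +kernel), conj_s (i := 1) (r := 46) (r' := 46) (by decide +kernel), conj_s (i := 1) (r := 39) (r' := 40) (by decide +kernel), conj_s (i := 1) (r := 45) (r' := 43) (by decide +kernel), conj_s (i := 1) (r := 41) (r' := 41) (by decide +kernel), conj_s (i := 1) (r := 44) (r' := 44) (by decide +kernel), conj_s (i := 1) (r := 47) (r' := 47) (by decide +kernel), conj_s (i := 1) (r := 43) (r' := 45) (by decide +kernel), conj_s (i := 1) (r := 36) (r' := 38) (by decide +kernel), conj_s (i := 1) (r := 42) (r' := 42) (by decide +kernel)]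
    all_goals normX
  exact Rch.step (nS_mem_group (by decide)) e h fun h' => n68 hx36 h'

lemma n74 {x40 x46 x39 x45 x41 x44 x47 x38 x43 x36 x42 : K} (hx36 : x36 ≠ 0)
    (h : (X 40 (x40) * (X 46 (x46) * (X 39 (x39) * (X 45 (x45) * (X 41 (x41) * (X 44 (x44) * (X 47 (x47) * (X 38 (x38) * (X 43 (x43) * (X 36 (x36) * (X 42 (x42)))))))))))) * (X 40 (x40) * (X 46 (x46) * (X 39 (x39) * (X 45 (x45) * (X 41 (x41) * (X 44 (x44) * (X 47 (x47) * (X 38 (x38) * (X 43 (x43) * (X 36 (x36) * (X 42 (x42)))))))))))) = 1) :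
    Rch (X 40 (x40) * (X 46 (x46) * (X 39 (x39) * (X 45 (x45) * (X 41 (x41) * (X 44 (x44) * (X 47 (x47) * (X 38 (x38) * (X 43 (x43) * (X 36 (x36) * (X 42 (x42)))))))))))) := by
  obtain ⟨d, hd⟩ : ∃ d : K, (x36) * d = x38 :=
    exists_lin hx36 _
  have hw : (d * x36 + x38) = 0 := by linear_combination hd + (x38) * CharTwo.two_eq_zero (R := K)
  have e : X 27 d * (X 40 (x40) * (X 46 (x46) * (X 39 (x39) * (X 45 (x45) * (X 41 (x41) * (X 44 (x44) * (X 47 (x47) * (X 38 (x38) * (X 43 (x43) * (X 36 (x36) * (X 42 (x42)))))))))))) * (X 27 d)⁻¹ = (X 40 (d * x39 + x40) * (X 46 (x46) * (X 39 (x39) * (X 45 (d ^ 2 * x43 + x45) * (X 41 (x41) * (X 44 (d * x43 + x44) * (X 47 (x47) * (X 38 (d * x36 + x38) * (X 43 (x43) * (X 36 (x36) * (X 42 (x42)))))))))))) := by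
    rw [inv_eq]
    normX
  rw [hw, X_zero] at e
  simp only [one_mul, mul_one] at e
  exact Rch.step (xG_mem_group g₄ 27 d) e h fun h' => n73 hx36 h'

lemma n75 {x37 x40 x46 x39 x45 x41 x44 x47 x38 x43 x36 x42 : K} (hx36 : x36 ≠ 0)
    (h : (X 37 (x37) * (X 40 (x40) * (X 46 (x46) * (X 39 (x39) * (X 45 (x45) * (X 41 (x41) * (X 44 (x44) * (X 47 (x47) * (X 38 (x38) * (X 43 (x43) * (X 36 (x36) * (X 42 (x42))))))))))))) * (X 37 (x37) * (X 40 (x40) * (X 46 (x46) * (X 39 (x39) * (X 45 (x45) * (X 41 (x41) * (X 44 (x44) * (X 47 (x47) * (X 38 (x38) * (X 43 (x43) * (X 36 (x36) * (X 42 (x42))))))))))))) = 1) :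
    Rch (X 37 (x37) * (X 40 (x40) * (X 46 (x46) * (X 39 (x39) * (X 45 (x45) * (X 41 (x41) * (X 44 (x44) * (X 47 (x47) * (X 38 (x38) * (X 43 (x43) * (X 36 (x36) * (X 42 (x42))))))))))))) := by
  have e : (X 37 (x37) * (X 40 (x40) * (X 46 (x46) * (X 39 (x39) * (X 45 (x45) * (X 41 (x41) * (X 44 (x44) * (X 47 (x47) * (X 38 (x38) * (X 43 (x43) * (X 36 (x36) * (X 42 (x42))))))))))))) * (X 37 (x37) * (X 40 (x40) * (X 46 (x46) * (X 39 (x39) * (X 45 (x45) * (X 41 (x41) * (X 44 (x44) * (X 47 (x47) * (X 38 (x38) * (X 43 (x43) * (X 36 (x36) * (X 42 (x42))))))))))))) = Z (0, 0) (0, 0) (0, 0) (0, 0) (0, 0) (0, 0) (0, 0) (x36 * x37, 0) (0, 0) (0, 0) (0, 0) (0, 0) := by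
    unfold Z
    normX
  have e' := Z_inj (e.symm.trans (h.trans one_Z))
  obtain ⟨-, -, -, -, -, -, -, e7, -, -, -, -⟩ := e'
  have z37 : x37 = 0 := zero_of (congrArg Prod.fst e7) fun hx37 =>
    (mul_ne_zero hx36 hx37)
  subst z37
  simp only [X_zero, one_mul, mul_one] at h ⊢
  exact n74 hx36 h

lemma n76 {x37 x40 x46 x39 x45 x41 x44 x47 x38 x43 x36 x42 : K}
    (h : (X 37 (x37) * (X 40 (x40) * (X 46 (x46) * (X 39 (x39) * (X 45 (x45) * (X 41 (x41) * (X 44 (x44) * (X 47 (x47) * (X 38 (x38) * (X 43 (x43) * (X 36 (x36) * (X 42 (x42))))))))))))) * (X 37 (x37) * (X 40 (x40) * (X 46 (x46) * (X 39 (x39) * (X 45 (x45) * (X 41 (x41) * (X 44 (x44) * (X 47 (x47) * (X 38 (x38) * (X 43 (x43) * (X 36 (x36) * (X 42 (x42))))))))))))) = 1) :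
    Rch (X 37 (x37) * (X 40 (x40) * (X 46 (x46) * (X 39 (x39) * (X 45 (x45) * (X 41 (x41) * (X 44 (x44) * (X 47 (x47) * (X 38 (x38) * (X 43 (x43) * (X 36 (x36) * (X 42 (x42))))))))))))) := by
  rcases eq_or_ne x36 0 with rfl | hx36
  · simp only [X_zero, one_mul, mul_one] at h ⊢
    exact n72 h
  · exact n75 hx36 h

lemma n77 {x37 x35 x40 x46 x39 x45 x41 x44 x47 x43 x42 : K} (hx35 : x35 ≠ 0)
    (h : (X 37 (x37) * (X 35 (x35) * (X 40 (x40) * (X 46 (x46) * (X 39 (x39) * (X 45 (x45) * (X 41 (x41) * (X 44 (x44) * (X 47 (x47) * (X 43 (x43) * (X 42 (x42)))))))))))) * (X 37 (x37) * (X 35 (x35) * (X 40 (x40) * (X 46 (x46) * (X 39 (x39) * (X 45 (x45) * (X 41 (x41) * (X 44 (x44) * (X 47 (x47) * (X 43 (x43) * (X 42 (x42)))))))))))) = 1) :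
    Rch (X 37 (x37) * (X 35 (x35) * (X 40 (x40) * (X 46 (x46) * (X 39 (x39) * (X 45 (x45) * (X 41 (x41) * (X 44 (x44) * (X 47 (x47) * (X 43 (x43) * (X 42 (x42)))))))))))) := by
  have e : nS K g₄ 3 * (X 37 (x37) * (X 35 (x35) * (X 40 (x40) * (X 46 (x46) * (X 39 (x39) * (X 45 (x45) * (X 41 (x41) * (X 44 (x44) * (X 47 (x47) * (X 43 (x43) * (X 42 (x42)))))))))))) * (nS K g₄ 3)⁻¹ = (X 40 (x40) * (X 46 (x47) * (X 39 (x39) * (X 45 (x45) * (X 41 (x42) * (X 44 (x44) * (X 47 (x46) * (X 38 (x37) * (X 43 (x43) * (X 36 (x35) * (X 42 (x41)))))))))))) := by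
    rw [← MulAut.conj_apply]
    simp only [map_mul, conj_s (i := 3) (r := 37) (r' := 38) (by decide +kernel), conj_s (i := 3) (r := 35) (r' := 36) (by decide +kernel), conj_s (i := 3) (r := 40) (r' := 40) (by decide +kernel), conj_s (i := 3) (r := 46) (r' := 47) (by decide +kernel), conj_s (i := 3) (r := 39) (r' := 39) (by decide +kernel), conj_s (i := 3) (r := 45) (r' := 45) (by decide +kernel), conj_s (i := 3) (r := 41) (r' := 42) (by decide +kernel), conj_s (i := 3) (r := 44) (r' := 44) (by decide +kernel), conj_s (i := 3) (r := 47) (r' := 46) (by decide +kernel), conj_s (i := 3) (r := 43) (r' := 43) (by decide +kernel), conj_s (i := 3) (r := 42) (r' := 41) (by decide +kernel)]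
    all_goals normX
  exact Rch.step (nS_mem_group (by decide)) e h fun h' => n74 hx35 h'

lemma n78 {x37 x35 x40 x46 x39 x45 x41 x44 x47 x38 x43 x42 : K} (hx35 : x35 ≠ 0)
    (h : (X 37 (x37) * (X 35 (x35) * (X 40 (x40) * (X 46 (x46) * (X 39 (x39) * (X 45 (x45) * (X 41 (x41) * (X 44 (x44) * (X 47 (x47) * (X 38 (x38) * (X 43 (x43) * (X 42 (x42))))))))))))) * (X 37 (x37) * (X 35 (x35) * (X 40 (x40) * (X 46 (x46) * (X 39 (x39) * (X 45 (x45) * (X 41 (x41) * (X 44 (x44) * (X 47 (x47) * (X 38 (x38) * (X 43 (x43) * (X 42 (x42))))))))))))) = 1) :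
    Rch (X 37 (x37) * (X 35 (x35) * (X 40 (x40) * (X 46 (x46) * (X 39 (x39) * (X 45 (x45) * (X 41 (x41) * (X 44 (x44) * (X 47 (x47) * (X 38 (x38) * (X 43 (x43) * (X 42 (x42))))))))))))) := by
  have e : (X 37 (x37) * (X 35 (x35) * (X 40 (x40) * (X 46 (x46) * (X 39 (x39) * (X 45 (x45) * (X 41 (x41) * (X 44 (x44) * (X 47 (x47) * (X 38 (x38) * (X 43 (x43) * (X 42 (x42))))))))))))) * (X 37 (x37) * (X 35 (x35) * (X 40 (x40) * (X 46 (x46) * (X 39 (x39) * (X 45 (x45) * (X 41 (x41) * (X 44 (x44) * (X 47 (x47) * (X 38 (x38) * (X 43 (x43) * (X 42 (x42))))))))))))) = Z (0, 0) (0, 0) (0, 0) (0, 0) (0, 0) (0, 0) (0, 0) (x35 * x38, 0) (0, 0) (0, 0) (0, 0) (0, 0) := by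
    unfold Z
    normX
  have e' := Z_inj (e.symm.trans (h.trans one_Z))
  obtain ⟨-, -, -, -, -, -, -, e7, -, -, -, -⟩ := e'
  have z38 : x38 = 0 := zero_of (congrArg Prod.fst e7) fun hx38 =>
    (mul_ne_zero hx35 hx38)
  subst z38
  simp only [X_zero, one_mul, mul_one] at h ⊢
  exact n77 hx35 h

lemma n79 {x37 x35 x40 x46 x39 x45 x41 x44 x47 x38 x43 x36 x42 : K} (hx35 : x35 ≠ 0)
    (h : (X 37 (x37) * (X 35 (x35) * (X 40 (x40) * (X 46 (x46) * (X 39 (x39) * (X 45 (x45) * (X 41 (x41) * (X 44 (x44) * (X 47 (x47) * (X 38 (x38) * (X 43 (x43) * (X 36 (x36) * (X 42 (x42)))))))))))))) * (X 37 (x37) * (X 35 (x35) * (X 40 (x40) * (X 46 (x46) * (X 39 (x39) * (X 45 (x45) * (X 41 (x41) * (X 44 (x44) * (X 47 (x47) * (X 38 (x38) * (X 43 (x43) * (X 36 (x36) * (X 42 (x42)))))))))))))) = 1) :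
    Rch (X 37 (x37) * (X 35 (x35) * (X 40 (x40) * (X 46 (x46) * (X 39 (x39) * (X 45 (x45) * (X 41 (x41) * (X 44 (x44) * (X 47 (x47) * (X 38 (x38) * (X 43 (x43) * (X 36 (x36) * (X 42 (x42)))))))))))))) := by
  obtain ⟨d, hd⟩ : ∃ d : K, (x35) * d = x36 :=
    exists_lin hx35 _
  have hw : (d * x35 + x36) = 0 := by linear_combination hd + (x36) * CharTwo.two_eq_zero (R := K)
  have e : X 24 d * (X 37 (x37) * (X 35 (x35) * (X 40 (x40) * (X 46 (x46) * (X 39 (x39) * (X 45 (x45) * (X 41 (x41) * (X 44 (x44) * (X 47 (x47) * (X 38 (x38) * (X 43 (x43) * (X 36 (x36) * (X 42 (x42)))))))))))))) * (X 24 d)⁻¹ = (X 37 (x37) * (X 35 (x35) * (X 40 (x40) * (X 46 (x46) * (X 39 (x39) * (X 45 (d * x37 ^ 2 + x45) * (X 41 (x41) * (X 44 (d * x35 * x37 + x44) * (X 47 (d * x46 + x47) * (X 38 (d * x37 + x38) * (X 43 (d * x35 ^ 2 + x43) * (X 36 (d * x35 + x36) * (X 42 (d * x41 + x42)))))))))))))) := by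
    rw [inv_eq]
    normX
  rw [hw, X_zero] at e
  simp only [one_mul, mul_one] at e
  exact Rch.step (xG_mem_group g₄ 24 d) e h fun h' => n78 hx35 h'

lemma n80 {x37 x35 x40 x46 x39 x45 x41 x44 x47 x38 x43 x36 x42 : K}
    (h : (X 37 (x37) * (X 35 (x35) * (X 40 (x40) * (X 46 (x46) * (X 39 (x39) * (X 45 (x45) * (X 41 (x41) * (X 44 (x44) * (X 47 (x47) * (X 38 (x38) * (X 43 (x43) * (X 36 (x36) * (X 42 (x42)))))))))))))) * (X 37 (x37) * (X 35 (x35) * (X 40 (x40) * (X 46 (x46) * (X 39 (x39) * (X 45 (x45) * (X 41 (x41) * (X 44 (x44) * (X 47 (x47) * (X 38 (x38) * (X 43 (x43) * (X 36 (x36) * (X 42 (x42)))))))))))))) = 1) :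
    Rch (X 37 (x37) * (X 35 (x35) * (X 40 (x40) * (X 46 (x46) * (X 39 (x39) * (X 45 (x45) * (X 41 (x41) * (X 44 (x44) * (X 47 (x47) * (X 38 (x38) * (X 43 (x43) * (X 36 (x36) * (X 42 (x42)))))))))))))) := by
  rcases eq_or_ne x35 0 with rfl | hx35
  · simp only [X_zero, one_mul, mul_one] at h ⊢
    exact n76 h
  · exact n79 hx35 h

lemma n81 {x37 x40 x46 x39 x45 x41 x44 x47 x38 x43 x34 x36 x42 : K} (hx34 : x34 ≠ 0)
    (h : (X 37 (x37) * (X 40 (x40) * (X 46 (x46) * (X 39 (x39) * (X 45 (x45) * (X 41 (x41) * (X 44 (x44) * (X 47 (x47) * (X 38 (x38) * (X 43 (x43) * (X 34 (x34) * (X 36 (x36) * (X 42 (x42)))))))))))))) * (X 37 (x37) * (X 40 (x40) * (X 46 (x46) * (X 39 (x39) * (X 45 (x45) * (X 41 (x41) * (X 44 (x44) * (X 47 (x47) * (X 38 (x38) * (X 43 (x43) * (X 34 (x34) * (X 36 (x36) * (X 42 (x42)))))))))))))) = 1) :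
    Rch (X 37 (x37) * (X 40 (x40) * (X 46 (x46) * (X 39 (x39) * (X 45 (x45) * (X 41 (x41) * (X 44 (x44) * (X 47 (x47) * (X 38 (x38) * (X 43 (x43) * (X 34 (x34) * (X 36 (x36) * (X 42 (x42)))))))))))))) := by
  have e : nS K g₄ 2 * (X 37 (x37) * (X 40 (x40) * (X 46 (x46) * (X 39 (x39) * (X 45 (x45) * (X 41 (x41) * (X 44 (x44) * (X 47 (x47) * (X 38 (x38) * (X 43 (x43) * (X 34 (x34) * (X 36 (x36) * (X 42 (x42)))))))))))))) * (nS K g₄ 2)⁻¹ = (X 37 (x37) * (X 35 (x34) * (X 40 (x40) * (X 46 (x45) * (X 39 (x38) * (X 45 (x46) * (X 41 (x41) * (X 44 (x34 * x39 + x44) * (X 47 (x47) * (X 38 (x39) * (X 43 (x42) * (X 36 (x36) * (X 42 (x43)))))))))))))) := by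
    rw [← MulAut.conj_apply]
    simp only [map_mul, conj_s (i := 2) (r := 37) (r' := 37) (by decide +kernel), conj_s (i := 2) (r := 40) (r' := 40) (by decide +kernel), conj_s (i := 2) (r := 46) (r' := 45) (by decide +kernel), conj_s (i := 2) (r := 39) (r' := 38) (by decide +kernel), conj_s (i := 2) (r := 45) (r' := 46) (by decide +kernel), conj_s (i := 2) (r := 41) (r' := 41) (by decide +kernel), conj_s (i := 2) (r := 44) (r' := 44) (by decide +kernel), conj_s (i := 2) (r := 47) (r' := 47) (by decide +kernel), conj_s (i := 2) (r := 38) (r' := 39) (by decide +kernel), conj_s (i := 2) (r := 43) (r' := 42) (by decide +kernel), conj_s (i := 2) (r := 34) (r' := 35) (by decide +kernel), conj_s (i := 2) (r := 36) (r' := 36) (by decide +kernel), conj_s (i := 2) (r := 42) (r' := 43) (by decide +kernel)]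
    all_goals normX
  exact Rch.step (nS_mem_group (by decide)) e h fun h' => n79 hx34 h'

lemma n82 {x37 x35 x40 x46 x39 x45 x41 x44 x47 x38 x43 x34 x36 x42 : K} (hx34 : x34 ≠ 0)
    (h : (X 37 (x37) * (X 35 (x35) * (X 40 (x40) * (X 46 (x46) * (X 39 (x39) * (X 45 (x45) * (X 41 (x41) * (X 44 (x44) * (X 47 (x47) * (X 38 (x38) * (X 43 (x43) * (X 34 (x34) * (X 36 (x36) * (X 42 (x42))))))))))))))) * (X 37 (x37) * (X 35 (x35) * (X 40 (x40) * (X 46 (x46) * (X 39 (x39) * (X 45 (x45) * (X 41 (x41) * (X 44 (x44) * (X 47 (x47) * (X 38 (x38) * (X 43 (x43) * (X 34 (x34) * (X 36 (x36) * (X 42 (x42))))))))))))))) = 1) :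
    Rch (X 37 (x37) * (X 35 (x35) * (X 40 (x40) * (X 46 (x46) * (X 39 (x39) * (X 45 (x45) * (X 41 (x41) * (X 44 (x44) * (X 47 (x47) * (X 38 (x38) * (X 43 (x43) * (X 34 (x34) * (X 36 (x36) * (X 42 (x42))))))))))))))) := by
  obtain ⟨d, hd⟩ : ∃ d : K, (x34) * d = x35 :=
    exists_lin hx34 _
  have hw : (d * x34 + x35) = 0 := by linear_combination hd + (x35) * CharTwo.two_eq_zero (R := K)
  have e : X 25 d * (X 37 (x37) * (X 35 (x35) * (X 40 (x40) * (X 46 (x46) * (X 39 (x39) * (X 45 (x45) * (X 41 (x41) * (X 44 (x44) * (X 47 (x47) * (X 38 (x38) * (X 43 (x43) * (X 34 (x34) * (X 36 (x36) * (X 42 (x42))))))))))))))) * (X 25 d)⁻¹ = (X 37 (x37) * (X 35 (d * x34 + x35) * (X 40 (x40) * (X 46 (d * x45 + x46) * (X 39 (d * x38 + x39) * (X 45 (x45) * (X 41 (d * x34 ^ 2 + x41) * (X 44 (d * x34 * x38 + x44) * (X 47 (d * x38 ^ 2 + x47) * (X 38 (x38) * (X 43 (d * x42 + x43) * (X 34 (x34) * (X 36 (x36) * (X 42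 (x42))))))))))))))) := by
    rw [inv_eq]
    normX
  rw [hw, X_zero] at e
  simp only [one_mul, mul_one] at e
  exact Rch.step (xG_mem_group g₄ 25 d) e h fun h' => n81 hx34 h'

lemma n83 {x37 x35 x40 x46 x39 x45 x41 x44 x47 x38 x43 x34 x36 x42 : K}
    (h : (X 37 (x37) * (X 35 (x35) * (X 40 (x40) * (X 46 (x46) * (X 39 (x39) * (X 45 (x45) * (X 41 (x41) * (X 44 (x44) * (X 47 (x47) * (X 38 (x38) * (X 43 (x43) * (X 34 (x34) * (X 36 (x36) * (X 42 (x42))))))))))))))) * (X 37 (x37) * (X 35 (x35) * (X 40 (x40) * (X 46 (x46) * (X 39 (x39) * (X 45 (x45) * (X 41 (x41) * (X 44 (x44) * (X 47 (x47) * (X 38 (x38) * (X 43 (x43) * (X 34 (x34) * (X 36 (x36) * (X 42 (x42))))))))))))))) = 1) :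
    Rch (X 37 (x37) * (X 35 (x35) * (X 40 (x40) * (X 46 (x46) * (X 39 (x39) * (X 45 (x45) * (X 41 (x41) * (X 44 (x44) * (X 47 (x47) * (X 38 (x38) * (X 43 (x43) * (X 34 (x34) * (X 36 (x36) * (X 42 (x42))))))))))))))) := by
  rcases eq_or_ne x34 0 with rfl | hx34
  · simp only [X_zero, one_mul, mul_one] at h ⊢
    exact n80 h
  · exact n82 hx34 h

lemma n84 {x37 x35 x40 x46 x39 x45 x41 x44 x47 x38 x43 x36 x42 x33 : K} (hx33 : x33 ≠ 0)
    (h : (X 37 (x37) * (X 35 (x35) * (X 40 (x40) * (X 46 (x46) * (X 39 (x39) * (X 45 (x45) * (X 41 (x41) * (X 44 (x44) * (X 47 (x47) * (X 38 (x38) * (X 43 (x43) * (X 36 (x36) * (X 42 (x42) * (X 33 (x33))))))))))))))) * (X 37 (x37) * (X 35 (x35) * (X 40 (x40) * (X 46 (x46) * (X 39 (x39) * (X 45 (x45) * (X 41 (x41) * (X 44 (x44) * (X 47 (x47) * (X 38 (x38) * (X 43 (x43) * (X 36 (x36) * (X 42 (x42) * (X 33 (x33))))))))))))))) = 1) :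
    Rch (X 37 (x37) * (X 35 (x35) * (X 40 (x40) * (X 46 (x46) * (X 39 (x39) * (X 45 (x45) * (X 41 (x41) * (X 44 (x44) * (X 47 (x47) * (X 38 (x38) * (X 43 (x43) * (X 36 (x36) * (X 42 (x42) * (X 33 (x33))))))))))))))) := by
  have e : nS K g₄ 1 * (X 37 (x37) * (X 35 (x35) * (X 40 (x40) * (X 46 (x46) * (X 39 (x39) * (X 45 (x45) * (X 41 (x41) * (X 44 (x44) * (X 47 (x47) * (X 38 (x38) * (X 43 (x43) * (X 36 (x36) * (X 42 (x42) * (X 33 (x33))))))))))))))) * (nS K g₄ 1)⁻¹ = (X 37 (x35) * (X 35 (x37) * (X 40 (x39) * (X 46 (x46) * (X 39 (x40) * (X 45 (x43) * (X 41 (x41) * (X 44 (x44) * (X 47 (x47) * (X 38 (x36) * (X 43 (x45) * (X 34 (x33) * (X 36 (x38) * (X 42 (x42))))))))))))))) := by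
    rw [← MulAut.conj_apply]
    simp only [map_mul, conj_s (i := 1) (r := 37) (r' := 35) (by decide +kernel), conj_s (i := 1) (r := 35) (r' := 37) (by decide +kernel), conj_s (i := 1) (r := 40) (r' := 39) (by decide +kernel), conj_s (i := 1) (r := 46) (r' := 46) (by decide +kernel), conj_s (i := 1) (r := 39) (r' := 40) (by decide +kernel), conj_s (i := 1) (r := 45) (r' := 43) (by decide +kernel), conj_s (i := 1) (r := 41) (r' := 41) (by decide +kernel), conj_s (i := 1) (r := 44) (r' := 44) (by decide +kernel), conj_s (i := 1) (r := 47) (r' := 47) (by decide +kernel), conj_s (i := 1) (r := 38) (r' := 36) (by decide +kernel), conj_s (i := 1) (r := 43) (r' := 45) (by decide +kernel), conj_s (i := 1) (r := 36) (r' := 38) (by decide +kernel), conj_s (i := 1) (r := 42) (r' := 42) (by decide +kernel), conj_s (i := 1) (r := 33) (r' := 34) (by decide +kernel)]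
    all_goals normX
  exact Rch.step (nS_mem_group (by decide)) e h fun h' => n82 hx33 h'

lemma n85 {x37 x35 x40 x46 x39 x45 x41 x44 x47 x38 x43 x34 x36 x42 x33 : K} (hx33 : x33 ≠ 0)
    (h : (X 37 (x37) * (X 35 (x35) * (X 40 (x40) * (X 46 (x46) * (X 39 (x39) * (X 45 (x45) * (X 41 (x41) * (X 44 (x44) * (X 47 (x47) * (X 38 (x38) * (X 43 (x43) * (X 34 (x34) * (X 36 (x36) * (X 42 (x42) * (X 33 (x33)))))))))))))))) * (X 37 (x37) * (X 35 (x35) * (X 40 (x40) * (X 46 (x46) * (X 39 (x39) * (X 45 (x45) * (X 41 (x41) * (X 44 (x44) * (X 47 (x47) * (X 38 (x38) * (X 43 (x43) * (X 34 (x34) * (X 36 (x36) * (X 42 (x42) * (X 33 (x33)))))))))))))))) = 1) :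
    Rch (X 37 (x37) * (X 35 (x35) * (X 40 (x40) * (X 46 (x46) * (X 39 (x39) * (X 45 (x45) * (X 41 (x41) * (X 44 (x44) * (X 47 (x47) * (X 38 (x38) * (X 43 (x43) * (X 34 (x34) * (X 36 (x36) * (X 42 (x42) * (X 33 (x33)))))))))))))))) := by
  obtain ⟨d, hd⟩ : ∃ d : K, (x33) * d = x34 :=
    exists_lin hx33 _
  have hw : (d * x33 + x34) = 0 := by linear_combination hd + (x34) * CharTwo.two_eq_zero (R := K)
  have e : X 27 d * (X 37 (x37) * (X 35 (x35) * (X 40 (x40) * (X 46 (x46) * (X 39 (x39) * (X 45 (x45) * (X 41 (x41) * (X 44 (x44) * (X 47 (x47) * (X 38 (x38) * (X 43 (x43) * (X 34 (x34) * (X 36 (x36) * (X 42 (x42) * (X 33 (x33)))))))))))))))) * (X 27 d)⁻¹ = (X 37 (d * x35 + x37) * (X 35 (x35) * (X 40 (d * x39 + x40) * (X 46 (x46) * (X 39 (x39) * (X 45 (d ^ 2 * x43 + x45) * (X 41 (x41) * (X 44 (d * x43 + x44) * (X 47 (x47) * (X 38 (d * x36 + x38) * (X 43 (x43) * (X 34 (d * x33 + x34) * (X 36 (x36)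 * (X 42 (x42) * (X 33 (x33)))))))))))))))) := by
    rw [inv_eq]
    normX
  rw [hw, X_zero] at e
  simp only [one_mul, mul_one] at e
  exact Rch.step (xG_mem_group g₄ 27 d) e h fun h' => n84 hx33 h'

lemma n86 {x37 x35 x40 x46 x39 x45 x41 x44 x47 x38 x43 x34 x36 x42 x33 : K}
    (h : (X 37 (x37) * (X 35 (x35) * (X 40 (x40) * (X 46 (x46) * (X 39 (x39) * (X 45 (x45) * (X 41 (x41) * (X 44 (x44) * (X 47 (x47) * (X 38 (x38) * (X 43 (x43) * (X 34 (x34) * (X 36 (x36) * (X 42 (x42) * (X 33 (x33)))))))))))))))) * (X 37 (x37) * (X 35 (x35) * (X 40 (x40) * (X 46 (x46) * (X 39 (x39) * (X 45 (x45) * (X 41 (x41) * (X 44 (x44) * (X 47 (x47) * (X 38 (x38) * (X 43 (x43) * (X 34 (x34) * (X 36 (x36) * (X 42 (x42) * (X 33 (x33)))))))))))))))) = 1) :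
    Rch (X 37 (x37) * (X 35 (x35) * (X 40 (x40) * (X 46 (x46) * (X 39 (x39) * (X 45 (x45) * (X 41 (x41) * (X 44 (x44) * (X 47 (x47) * (X 38 (x38) * (X 43 (x43) * (X 34 (x34) * (X 36 (x36) * (X 42 (x42) * (X 33 (x33)))))))))))))))) := by
  rcases eq_or_ne x33 0 with rfl | hx33
  · simp only [X_zero, one_mul, mul_one] at h ⊢
    exact n83 h
  · exact n85 hx33 h

lemma n87 {x40 x47 : K} (hx40 : x40 ≠ 0)
    (h : (X 40 (x40) * (X 47 (x47))) * (X 40 (x40) * (X 47 (x47))) = 1) :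
    Rch (X 40 (x40) * (X 47 (x47))) := by
  have e : nS K g₄ 0 * (X 40 (x40) * (X 47 (x47))) * (nS K g₄ 0)⁻¹ = (X 44 (x40) * (X 47 (x47))) := by
    rw [← MulAut.conj_apply]
    simp only [map_mul, conj_s (i := 0) (r := 40) (r' := 44) (by decide +kernel), conj_s (i := 0) (r := 47) (r' := 47) (by decide +kernel)]
    all_goals normX
  exact Rch.step (nS_mem_group (by decide)) e h fun h' => n11 hx40 h'

lemma n88 {x40 x47 x43 : K} (hx40 : x40 ≠ 0) (hx43 : x43 ≠ 0)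
    (h : (X 40 (x40) * (X 47 (x47) * (X 43 (x43)))) * (X 40 (x40) * (X 47 (x47) * (X 43 (x43)))) = 1) :
    Rch (X 40 (x40) * (X 47 (x47) * (X 43 (x43)))) := by
  obtain ⟨d, hd⟩ : ∃ d : K, (x43) * d = x47 :=
    exists_lin hx43 _
  have hw : (d * x43 + x47) = 0 := by linear_combination hd + (x47) * CharTwo.two_eq_zero (R := K)
  have e : X 31 d * (X 40 (x40) * (X 47 (x47) * (X 43 (x43)))) * (X 31 d)⁻¹ = (X 40 (x40) * (X 47 (d * x43 + x47) * (X 43 (x43)))) := by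
    rw [inv_eq]
    normX
  rw [hw, X_zero] at e
  simp only [one_mul, mul_one] at e
  exact Rch.step (xG_mem_group g₄ 31 d) e h fun h' => n28 hx40 hx43 h'

lemma n89 {x40 x47 x43 : K} (hx40 : x40 ≠ 0)
    (h : (X 40 (x40) * (X 47 (x47) * (X 43 (x43)))) * (X 40 (x40) * (X 47 (x47) * (X 43 (x43)))) = 1) :
    Rch (X 40 (x40) * (X 47 (x47) * (X 43 (x43)))) := by
  rcases eq_or_ne x43 0 with rfl | hx43
  · simp only [X_zero, one_mul, mul_one] at h ⊢
    exact n87 hx40 h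
  · exact n88 hx40 hx43 h

lemma n90 {x40 x47 x42 : K} (hx40 : x40 ≠ 0) (hx42 : x42 ≠ 0)
    (h : (X 40 (x40) * (X 47 (x47) * (X 42 (x42)))) * (X 40 (x40) * (X 47 (x47) * (X 42 (x42)))) = 1) :
    Rch (X 40 (x40) * (X 47 (x47) * (X 42 (x42)))) := by
  have e : nS K g₄ 2 * (X 40 (x40) * (X 47 (x47) * (X 42 (x42)))) * (nS K g₄ 2)⁻¹ = (X 40 (x40) * (X 47 (x47) * (X 43 (x42)))) := by
    rw [← MulAut.conj_apply]
    simp only [map_mul, conj_s (i := 2) (r := 40) (r' := 40) (by decide +kernel), conj_s (i := 2) (r := 47) (r' := 47) (by decide +kernel), conj_s (i := 2) (r := 42) (r' := 43) (by decide +kernel)]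
    all_goals normX
  exact Rch.step (nS_mem_group (by decide)) e h fun h' => n88 hx40 hx42 h'

lemma n91 {x40 x47 x43 x42 : K} (hx40 : x40 ≠ 0) (hx42 : x42 ≠ 0)
    (h : (X 40 (x40) * (X 47 (x47) * (X 43 (x43) * (X 42 (x42))))) * (X 40 (x40) * (X 47 (x47) * (X 43 (x43) * (X 42 (x42))))) = 1) :
    Rch (X 40 (x40) * (X 47 (x47) * (X 43 (x43) * (X 42 (x42))))) := by
  obtain ⟨d, hd⟩ : ∃ d : K, (x42) * d = x43 :=
    exists_lin hx42 _
  have hw : (d * x42 + x43) = 0 := by linear_combination hd + (x43) * CharTwo.two_eq_zero (R := K)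
  have e : X 25 d * (X 40 (x40) * (X 47 (x47) * (X 43 (x43) * (X 42 (x42))))) * (X 25 d)⁻¹ = (X 40 (x40) * (X 47 (x47) * (X 43 (d * x42 + x43) * (X 42 (x42))))) := by
    rw [inv_eq]
    normX
  rw [hw, X_zero] at e
  simp only [one_mul, mul_one] at e
  exact Rch.step (xG_mem_group g₄ 25 d) e h fun h' => n90 hx40 hx42 h'

lemma n92 {x40 x47 x43 x42 : K} (hx40 : x40 ≠ 0)
    (h : (X 40 (x40) * (X 47 (x47) * (X 43 (x43) * (X 42 (x42))))) * (X 40 (x40) * (X 47 (x47) * (X 43 (x43) * (X 42 (x42))))) = 1) :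
    Rch (X 40 (x40) * (X 47 (x47) * (X 43 (x43) * (X 42 (x42))))) := by
  rcases eq_or_ne x42 0 with rfl | hx42
  · simp only [X_zero, one_mul, mul_one] at h ⊢
    exact n89 hx40 h
  · exact n91 hx40 hx42 h

lemma n93_1 {x39 x45 x47 x42 : K} (hx39 : x39 ≠ 0)
    (h : (X 39 (x39) * (X 45 (x45) * (X 47 (x47) * (X 42 (x42))))) * (X 39 (x39) * (X 45 (x45) * (X 47 (x47) * (X 42 (x42))))) = 1) :
    Rch (X 39 (x39) * (X 45 (x45) * (X 47 (x47) * (X 42 (x42))))) := by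
  have e : nS K g₄ 1 * (X 39 (x39) * (X 45 (x45) * (X 47 (x47) * (X 42 (x42))))) * (nS K g₄ 1)⁻¹ = (X 40 (x39) * (X 47 (x47) * (X 43 (x45) * (X 42 (x42))))) := by
    rw [← MulAut.conj_apply]
    simp only [map_mul, conj_s (i := 1) (r := 39) (r' := 40) (by decide +kernel), conj_s (i := 1) (r := 45) (r' := 43) (by decide +kernel), conj_s (i := 1) (r := 47) (r' := 47) (by decide +kernel), conj_s (i := 1) (r := 42) (r' := 42) (by decide +kernel)]
    all_goals normX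
  exact Rch.step (nS_mem_group (by decide)) e h fun h' => n92 hx39 h'

lemma n93 {x46 x47 x38 x43 : K} (hx38 : x38 ≠ 0)
    (h : (X 46 (x46) * (X 47 (x47) * (X 38 (x38) * (X 43 (x43))))) * (X 46 (x46) * (X 47 (x47) * (X 38 (x38) * (X 43 (x43))))) = 1) :
    Rch (X 46 (x46) * (X 47 (x47) * (X 38 (x38) * (X 43 (x43))))) := by
  have e : nS K g₄ 2 * (X 46 (x46) * (X 47 (x47) * (X 38 (x38) * (X 43 (x43))))) * (nS K g₄ 2)⁻¹ = (X 39 (x38) * (X 45 (x46) * (X 47 (x47) * (X 42 (x43))))) := by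
    rw [← MulAut.conj_apply]
    simp only [map_mul, conj_s (i := 2) (r := 46) (r' := 45) (by decide +kernel), conj_s (i := 2) (r := 47) (r' := 47) (by decide +kernel), conj_s (i := 2) (r := 38) (r' := 39) (by decide +kernel), conj_s (i := 2) (r := 43) (r' := 42) (by decide +kernel)]
    all_goals normX
  exact Rch.step (nS_mem_group (by decide)) e h fun h' => n93_1 hx38 h'

lemma n94_3 {x40 x42 : K} (hx40 : x40 ≠ 0) (hx42 : x42 ≠ 0)
    (h : (X 40 (x40) * (X 42 (x42))) * (X 40 (x40) * (X 42 (x42))) = 1) :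
    Rch (X 40 (x40) * (X 42 (x42))) := by
  have e : nS K g₄ 2 * (X 40 (x40) * (X 42 (x42))) * (nS K g₄ 2)⁻¹ = (X 40 (x40) * (X 43 (x42))) := by
    rw [← MulAut.conj_apply]
    simp only [map_mul, conj_s (i := 2) (r := 40) (r' := 40) (by decide +kernel), conj_s (i := 2) (r := 42) (r' := 43) (by decide +kernel)]
    all_goals normX
  exact Rch.step (nS_mem_group (by decide)) e h fun h' => n28 hx40 hx42 h'

lemma n94_2 {x39 x42 : K} (hx39 : x39 ≠ 0) (hx42 : x42 ≠ 0)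
    (h : (X 39 (x39) * (X 42 (x42))) * (X 39 (x39) * (X 42 (x42))) = 1) :
    Rch (X 39 (x39) * (X 42 (x42))) := by
  have e : nS K g₄ 1 * (X 39 (x39) * (X 42 (x42))) * (nS K g₄ 1)⁻¹ = (X 40 (x39) * (X 42 (x42))) := by
    rw [← MulAut.conj_apply]
    simp only [map_mul, conj_s (i := 1) (r := 39) (r' := 40) (by decide +kernel), conj_s (i := 1) (r := 42) (r' := 42) (by decide +kernel)]
    all_goals normX
  exact Rch.step (nS_mem_group (by decide)) e h fun h' => n94_3 hx39 hx42 h'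

lemma n94_1 {x38 x43 : K} (hx38 : x38 ≠ 0) (hx43 : x43 ≠ 0)
    (h : (X 38 (x38) * (X 43 (x43))) * (X 38 (x38) * (X 43 (x43))) = 1) :
    Rch (X 38 (x38) * (X 43 (x43))) := by
  have e : nS K g₄ 2 * (X 38 (x38) * (X 43 (x43))) * (nS K g₄ 2)⁻¹ = (X 39 (x38) * (X 42 (x43))) := by
    rw [← MulAut.conj_apply]
    simp only [map_mul, conj_s (i := 2) (r := 38) (r' := 39) (by decide +kernel), conj_s (i := 2) (r := 43) (r' := 42) (by decide +kernel)]
    all_goals normX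
  exact Rch.step (nS_mem_group (by decide)) e h fun h' => n94_2 hx38 hx43 h'

lemma n94 {x32 x38 : K} (hx32 : x32 ≠ 0) (hx38 : x38 ≠ 0)
    (h : (X 32 (x32) * (X 38 (x38))) * (X 32 (x32) * (X 38 (x38))) = 1) :
    Rch (X 32 (x32) * (X 38 (x38))) := by
  have e : nS K g₄ 0 * (X 32 (x32) * (X 38 (x38))) * (nS K g₄ 0)⁻¹ = (X 38 (x38) * (X 43 (x32))) := by
    rw [← MulAut.conj_apply]
    simp only [map_mul, conj_s (i := 0) (r := 32) (r' := 43) (by decide +kernel), conj_s (i := 0) (r := 38) (r' := 38) (by decide +kernel)]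
    all_goals normX
  exact Rch.step (nS_mem_group (by decide)) e h fun h' => n94_1 hx38 hx32 h'

lemma n95_7 {x39 x45 x47 : K} (hx39 : x39 ≠ 0) (hx45 : x45 ≠ 0) (hx47 : x47 ≠ 0)
    (h : (X 39 (x39) * (X 45 (x45) * (X 47 (x47)))) * (X 39 (x39) * (X 45 (x45) * (X 47 (x47)))) = 1) :
    Rch (X 39 (x39) * (X 45 (x45) * (X 47 (x47)))) := by
  obtain ⟨d, hd⟩ : ∃ d : K, (x45) * d = x47 :=
    exists_lin hx45 _
  have hd : d ≠ 0 ∧ (x45) * d = x47 := ⟨fun e => hx47 (by rw [← hd, e]; simp), hd⟩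
  obtain ⟨hd0, hd⟩ := hd
  have hw : (d * x45 + x47) = 0 := by linear_combination hd + (x47) * CharTwo.two_eq_zero (R := K)
  have e : X 26 d * (X 39 (x39) * (X 45 (x45) * (X 47 (x47)))) * (X 26 d)⁻¹ = (X 39 (x39) * (X 45 (x45) * (X 47 (d * x45 + x47)))) := by
    rw [inv_eq]
    normX
  rw [hw, X_zero] at e
  simp only [one_mul, mul_one] at e
  exact Rch.step (xG_mem_group g₄ 26 d) e h fun h' => n27 hx39 hx45 h'

lemma n95_6 {x46 x47 x38 : K} (hx46 : x46 ≠ 0) (hx47 : x47 ≠ 0) (hx38 : x38 ≠ 0)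
    (h : (X 46 (x46) * (X 47 (x47) * (X 38 (x38)))) * (X 46 (x46) * (X 47 (x47) * (X 38 (x38)))) = 1) :
    Rch (X 46 (x46) * (X 47 (x47) * (X 38 (x38)))) := by
  have e : nS K g₄ 2 * (X 46 (x46) * (X 47 (x47) * (X 38 (x38)))) * (nS K g₄ 2)⁻¹ = (X 39 (x38) * (X 45 (x46) * (X 47 (x47)))) := by
    rw [← MulAut.conj_apply]
    simp only [map_mul, conj_s (i := 2) (r := 46) (r' := 45) (by decide +kernel), conj_s (i := 2) (r := 47) (r' := 47) (by decide +kernel), conj_s (i := 2) (r := 38) (r' := 39) (by decide +kernel)]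
    all_goals normX
  exact Rch.step (nS_mem_group (by decide)) e h fun h' => n95_7 hx38 hx46 hx47 h'

lemma n95_5 {x46 x39 x38 : K} (hx46 : x46 ≠ 0) (hx39 : x39 ≠ 0) (hx38 : x38 ≠ 0)
    (h : (X 46 (x46) * (X 39 (x39) * (X 38 (x38)))) * (X 46 (x46) * (X 39 (x39) * (X 38 (x38)))) = 1) :
    Rch (X 46 (x46) * (X 39 (x39) * (X 38 (x38)))) := by
  obtain ⟨d, hd⟩ : ∃ d : K, (x38) * d = x39 :=
    exists_lin hx38 _
  have hd : d ≠ 0 ∧ (x38) * d = x39 := ⟨fun e => hx39 (by rw [← hd, e]; simp), hd⟩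
  obtain ⟨hd0, hd⟩ := hd
  have hw : (d * x38 + x39) = 0 := by linear_combination hd + (x39) * CharTwo.two_eq_zero (R := K)
  have e : X 25 d * (X 46 (x46) * (X 39 (x39) * (X 38 (x38)))) * (X 25 d)⁻¹ = (X 46 (x46) * (X 39 (d * x38 + x39) * (X 47 (d * x38 ^ 2) * (X 38 (x38))))) := by
    rw [inv_eq]
    normX
  rw [hw, X_zero] at e
  simp only [one_mul, mul_one] at e
  exact Rch.step (xG_mem_group g₄ 25 d) e h fun h' => n95_6 hx46 (mul_ne_zero hd0 (pow_ne_zero 2 hx38)) hx38 h'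

lemma n95_4 {x40 x46 x36 : K} (hx40 : x40 ≠ 0) (hx46 : x46 ≠ 0) (hx36 : x36 ≠ 0)
    (h : (X 40 (x40) * (X 46 (x46) * (X 36 (x36)))) * (X 40 (x40) * (X 46 (x46) * (X 36 (x36)))) = 1) :
    Rch (X 40 (x40) * (X 46 (x46) * (X 36 (x36)))) := by
  have e : nS K g₄ 1 * (X 40 (x40) * (X 46 (x46) * (X 36 (x36)))) * (nS K g₄ 1)⁻¹ = (X 46 (x46) * (X 39 (x40) * (X 38 (x36)))) := by
    rw [← MulAut.conj_apply]
    simp only [map_mul, conj_s (i := 1) (r := 40) (r' := 39) (by decide +kernel), conj_s (i := 1) (r := 46) (r' := 46) (by decide +kernel), conj_s (i := 1) (r := 36) (r' := 38) (by decide +kernel)]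
    all_goals normX
  exact Rch.step (nS_mem_group (by decide)) e h fun h' => n95_5 hx46 hx40 hx36 h'

lemma n95_3 {x40 x45 x36 : K} (hx40 : x40 ≠ 0) (hx45 : x45 ≠ 0) (hx36 : x36 ≠ 0)
    (h : (X 40 (x40) * (X 45 (x45) * (X 36 (x36)))) * (X 40 (x40) * (X 45 (x45) * (X 36 (x36)))) = 1) :
    Rch (X 40 (x40) * (X 45 (x45) * (X 36 (x36)))) := by
  have e : nS K g₄ 2 * (X 40 (x40) * (X 45 (x45) * (X 36 (x36)))) * (nS K g₄ 2)⁻¹ = (X 40 (x40) * (X 46 (x45) * (X 36 (x36)))) := by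
    rw [← MulAut.conj_apply]
    simp only [map_mul, conj_s (i := 2) (r := 40) (r' := 40) (by decide +kernel), conj_s (i := 2) (r := 45) (r' := 46) (by decide +kernel), conj_s (i := 2) (r := 36) (r' := 36) (by decide +kernel)]
    all_goals normX
  exact Rch.step (nS_mem_group (by decide)) e h fun h' => n95_4 hx40 hx45 hx36 h'

lemma n95_2 {x39 x38 x43 : K} (hx39 : x39 ≠ 0) (hx38 : x38 ≠ 0) (hx43 : x43 ≠ 0)
    (h : (X 39 (x39) * (X 38 (x38) * (X 43 (x43)))) * (X 39 (x39) * (X 38 (x38) * (X 43 (x43)))) = 1) :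
    Rch (X 39 (x39) * (X 38 (x38) * (X 43 (x43)))) := by
  have e : nS K g₄ 1 * (X 39 (x39) * (X 38 (x38) * (X 43 (x43)))) * (nS K g₄ 1)⁻¹ = (X 40 (x39) * (X 45 (x43) * (X 36 (x38)))) := by
    rw [← MulAut.conj_apply]
    simp only [map_mul, conj_s (i := 1) (r := 39) (r' := 40) (by decide +kernel), conj_s (i := 1) (r := 38) (r' := 36) (by decide +kernel), conj_s (i := 1) (r := 43) (r' := 45) (by decide +kernel)]
    all_goals normX
  exact Rch.step (nS_mem_group (by decide)) e h fun h' => n95_3 hx39 hx43 hx38 h'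

lemma n95_1 {x32 x39 x38 : K} (hx32 : x32 ≠ 0) (hx39 : x39 ≠ 0) (hx38 : x38 ≠ 0)
    (h : (X 32 (x32) * (X 39 (x39) * (X 38 (x38)))) * (X 32 (x32) * (X 39 (x39) * (X 38 (x38)))) = 1) :
    Rch (X 32 (x32) * (X 39 (x39) * (X 38 (x38)))) := by
  have e : nS K g₄ 0 * (X 32 (x32) * (X 39 (x39) * (X 38 (x38)))) * (nS K g₄ 0)⁻¹ = (X 39 (x39) * (X 38 (x38) * (X 43 (x32)))) := by
    rw [← MulAut.conj_apply]
    simp only [map_mul, conj_s (i := 0) (r := 32) (r' := 43) (by decide +kernel), conj_s (i := 0) (r := 39) (r' := 39) (by decide +kernel), conj_s (i := 0) (r := 38) (r' := 38) (by decide +kernel)]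
    all_goals normX
  exact Rch.step (nS_mem_group (by decide)) e h fun h' => n95_2 hx39 hx38 hx32 h'

lemma n95 {x32 x38 x43 : K} (hx32 : x32 ≠ 0) (hx38 : x38 ≠ 0) (hx43 : x43 ≠ 0)
    (h : (X 32 (x32) * (X 38 (x38) * (X 43 (x43)))) * (X 32 (x32) * (X 38 (x38) * (X 43 (x43)))) = 1) :
    Rch (X 32 (x32) * (X 38 (x38) * (X 43 (x43)))) := by
  obtain ⟨d, hd⟩ : ∃ d : K, (x32) * d ^ 2 = x43 :=
    exists_sq hx32 _
  have hd : d ≠ 0 ∧ (x32) * d ^ 2 = x43 := ⟨fun e => hx43 (by rw [← hd, e]; simp), hd⟩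
  obtain ⟨hd0, hd⟩ := hd
  have hw : (d ^ 2 * x32 + x43) = 0 := by linear_combination hd + (x43) * CharTwo.two_eq_zero (R := K)
  have e : X 33 d * (X 32 (x32) * (X 38 (x38) * (X 43 (x43)))) * (X 33 d)⁻¹ = (X 32 (x32) * (X 39 (d * x32) * (X 38 (x38) * (X 43 (d ^ 2 * x32 + x43))))) := by
    rw [inv_eq]
    normX
  rw [hw, X_zero] at e
  simp only [one_mul, mul_one] at e
  exact Rch.step (xG_mem_group g₄ 33 d) e h fun h' => n95_1 hx32 (mul_ne_zero hd0 hx32) hx38 h'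

lemma n96 {x32 x38 x43 : K} (hx32 : x32 ≠ 0) (hx38 : x38 ≠ 0)
    (h : (X 32 (x32) * (X 38 (x38) * (X 43 (x43)))) * (X 32 (x32) * (X 38 (x38) * (X 43 (x43)))) = 1) :
    Rch (X 32 (x32) * (X 38 (x38) * (X 43 (x43)))) := by
  rcases eq_or_ne x43 0 with rfl | hx43
  · simp only [X_zero, one_mul, mul_one] at h ⊢
    exact n94 hx32 hx38 h
  · exact n95 hx32 hx38 hx43 h

lemma n97 {x32 x47 x38 x43 : K} (hx32 : x32 ≠ 0) (hx38 : x38 ≠ 0)
    (h : (X 32 (x32) * (X 47 (x47) * (X 38 (x38) * (X 43 (x43))))) * (X 32 (x32) * (X 47 (x47) * (X 38 (x38) * (X 43 (x43))))) = 1) :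
    Rch (X 32 (x32) * (X 47 (x47) * (X 38 (x38) * (X 43 (x43))))) := by
  obtain ⟨d, hd⟩ : ∃ d : K, (x32) * d = x47 :=
    exists_lin hx32 _
  have hw : (d * x32 + x47) = 0 := by linear_combination hd + (x47) * CharTwo.two_eq_zero (R := K)
  have e : X 42 d * (X 32 (x32) * (X 47 (x47) * (X 38 (x38) * (X 43 (x43))))) * (X 42 d)⁻¹ = (X 32 (x32) * (X 47 (d * x32 + x47) * (X 38 (x38) * (X 43 (x43))))) := by
    rw [inv_eq]
    normX
  rw [hw, X_zero] at e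
  simp only [one_mul, mul_one] at e
  exact Rch.step (xG_mem_group g₄ 42 d) e h fun h' => n96 hx32 hx38 h'

lemma n98 {x32 x46 x47 x38 x43 : K} (hx32 : x32 ≠ 0) (hx38 : x38 ≠ 0)
    (h : (X 32 (x32) * (X 46 (x46) * (X 47 (x47) * (X 38 (x38) * (X 43 (x43)))))) * (X 32 (x32) * (X 46 (x46) * (X 47 (x47) * (X 38 (x38) * (X 43 (x43)))))) = 1) :
    Rch (X 32 (x32) * (X 46 (x46) * (X 47 (x47) * (X 38 (x38) * (X 43 (x43)))))) := by
  obtain ⟨d, hd⟩ : ∃ d : K, (x32) * d = x46 :=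
    exists_lin hx32 _
  have hw : (d * x32 + x46) = 0 := by linear_combination hd + (x46) * CharTwo.two_eq_zero (R := K)
  have e : X 41 d * (X 32 (x32) * (X 46 (x46) * (X 47 (x47) * (X 38 (x38) * (X 43 (x43)))))) * (X 41 d)⁻¹ = (X 32 (x32) * (X 46 (d * x32 + x46) * (X 47 (x47) * (X 38 (x38) * (X 43 (x43)))))) := by
    rw [inv_eq]
    normX
  rw [hw, X_zero] at e
  simp only [one_mul, mul_one] at e
  exact Rch.step (xG_mem_group g₄ 41 d) e h fun h' => n97 hx32 hx38 h'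

lemma n99 {x32 x46 x47 x38 x43 : K} (hx38 : x38 ≠ 0)
    (h : (X 32 (x32) * (X 46 (x46) * (X 47 (x47) * (X 38 (x38) * (X 43 (x43)))))) * (X 32 (x32) * (X 46 (x46) * (X 47 (x47) * (X 38 (x38) * (X 43 (x43)))))) = 1) :
    Rch (X 32 (x32) * (X 46 (x46) * (X 47 (x47) * (X 38 (x38) * (X 43 (x43)))))) := by
  rcases eq_or_ne x32 0 with rfl | hx32
  · simp only [X_zero, one_mul, mul_one] at h ⊢
    exact n93 hx38 h
  · exact n98 hx32 hx38 h

lemma n100 {x32 x46 x45 x47 x36 : K} (hx36 : x36 ≠ 0)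
    (h : (X 32 (x32) * (X 46 (x46) * (X 45 (x45) * (X 47 (x47) * (X 36 (x36)))))) * (X 32 (x32) * (X 46 (x46) * (X 45 (x45) * (X 47 (x47) * (X 36 (x36)))))) = 1) :
    Rch (X 32 (x32) * (X 46 (x46) * (X 45 (x45) * (X 47 (x47) * (X 36 (x36)))))) := by
  have e : nS K g₄ 1 * (X 32 (x32) * (X 46 (x46) * (X 45 (x45) * (X 47 (x47) * (X 36 (x36)))))) * (nS K g₄ 1)⁻¹ = (X 32 (x32) * (X 46 (x46) * (X 47 (x47) * (X 38 (x36) * (X 43 (x45)))))) := by
    rw [← MulAut.conj_apply]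
    simp only [map_mul, conj_s (i := 1) (r := 32) (r' := 32) (by decide +kernel), conj_s (i := 1) (r := 46) (r' := 46) (by decide +kernel), conj_s (i := 1) (r := 45) (r' := 43) (by decide +kernel), conj_s (i := 1) (r := 47) (r' := 47) (by decide +kernel), conj_s (i := 1) (r := 36) (r' := 38) (by decide +kernel)]
    all_goals normX
  exact Rch.step (nS_mem_group (by decide)) e h fun h' => n99 hx36 h'

lemma n101_1 {x32 x46 x45 x47 x36 : K} (hx32 : x32 ≠ 0) (hx36 : x36 ≠ 0)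
    (h : (X 32 (x32) * (X 46 (x46) * (X 45 (x45) * (X 47 (x47) * (X 36 (x36)))))) * (X 32 (x32) * (X 46 (x46) * (X 45 (x45) * (X 47 (x47) * (X 36 (x36)))))) = 1) :
    Rch (X 32 (x32) * (X 46 (x46) * (X 45 (x45) * (X 47 (x47) * (X 36 (x36)))))) := by
  have e : nS K g₄ 1 * (X 32 (x32) * (X 46 (x46) * (X 45 (x45) * (X 47 (x47) * (X 36 (x36)))))) * (nS K g₄ 1)⁻¹ = (X 32 (x32) * (X 46 (x46) * (X 47 (x47) * (X 38 (x36) * (X 43 (x45)))))) := by
    rw [← MulAut.conj_apply]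
    simp only [map_mul, conj_s (i := 1) (r := 32) (r' := 32) (by decide +kernel), conj_s (i := 1) (r := 46) (r' := 46) (by decide +kernel), conj_s (i := 1) (r := 45) (r' := 43) (by decide +kernel), conj_s (i := 1) (r := 47) (r' := 47) (by decide +kernel), conj_s (i := 1) (r := 36) (r' := 38) (by decide +kernel)]
    all_goals normX
  exact Rch.step (nS_mem_group (by decide)) e h fun h' => n98 hx32 hx36 h'

lemma n101 {x31 x46 x45 x47 x36 : K} (hx31 : x31 ≠ 0) (hx36 : x36 ≠ 0)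
    (h : (X 31 (x31) * (X 46 (x46) * (X 45 (x45) * (X 47 (x47) * (X 36 (x36)))))) * (X 31 (x31) * (X 46 (x46) * (X 45 (x45) * (X 47 (x47) * (X 36 (x36)))))) = 1) :
    Rch (X 31 (x31) * (X 46 (x46) * (X 45 (x45) * (X 47 (x47) * (X 36 (x36)))))) := by
  have e : nS K g₄ 2 * (X 31 (x31) * (X 46 (x46) * (X 45 (x45) * (X 47 (x47) * (X 36 (x36)))))) * (nS K g₄ 2)⁻¹ = (X 32 (x31) * (X 46 (x45) * (X 45 (x46) * (X 47 (x47) * (X 36 (x36)))))) := by
    rw [← MulAut.conj_apply]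
    simp only [map_mul, conj_s (i := 2) (r := 31) (r' := 32) (by decide +kernel), conj_s (i := 2) (r := 46) (r' := 45) (by decide +kernel), conj_s (i := 2) (r := 45) (r' := 46) (by decide +kernel), conj_s (i := 2) (r := 47) (r' := 47) (by decide +kernel), conj_s (i := 2) (r := 36) (r' := 36) (by decide +kernel)]
    all_goals normX
  exact Rch.step (nS_mem_group (by decide)) e h fun h' => n101_1 hx31 hx36 h'

lemma n102 {x32 x31 x46 x45 x47 x36 : K} (hx31 : x31 ≠ 0) (hx36 : x36 ≠ 0)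
    (h : (X 32 (x32) * (X 31 (x31) * (X 46 (x46) * (X 45 (x45) * (X 47 (x47) * (X 36 (x36))))))) * (X 32 (x32) * (X 31 (x31) * (X 46 (x46) * (X 45 (x45) * (X 47 (x47) * (X 36 (x36))))))) = 1) :
    Rch (X 32 (x32) * (X 31 (x31) * (X 46 (x46) * (X 45 (x45) * (X 47 (x47) * (X 36 (x36))))))) := by
  obtain ⟨d, hd⟩ : ∃ d : K, (x31) * d = x32 :=
    exists_lin hx31 _
  have hw : (d * x31 + x32) = 0 := by linear_combination hd + (x32) * CharTwo.two_eq_zero (R := K)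
  have e : X 25 d * (X 32 (x32) * (X 31 (x31) * (X 46 (x46) * (X 45 (x45) * (X 47 (x47) * (X 36 (x36))))))) * (X 25 d)⁻¹ = (X 32 (d * x31 + x32) * (X 31 (x31) * (X 46 (d * x45 + x46) * (X 45 (x45) * (X 47 (x47) * (X 36 (x36))))))) := by
    rw [inv_eq]
    normX
  rw [hw, X_zero] at e
  simp only [one_mul, mul_one] at e
  exact Rch.step (xG_mem_group g₄ 25 d) e h fun h' => n101 hx31 hx36 h'

lemma n103 {x32 x31 x46 x45 x47 x36 : K} (hx36 : x36 ≠ 0)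
    (h : (X 32 (x32) * (X 31 (x31) * (X 46 (x46) * (X 45 (x45) * (X 47 (x47) * (X 36 (x36))))))) * (X 32 (x32) * (X 31 (x31) * (X 46 (x46) * (X 45 (x45) * (X 47 (x47) * (X 36 (x36))))))) = 1) :
    Rch (X 32 (x32) * (X 31 (x31) * (X 46 (x46) * (X 45 (x45) * (X 47 (x47) * (X 36 (x36))))))) := by
  rcases eq_or_ne x31 0 with rfl | hx31
  · simp only [X_zero, one_mul, mul_one] at h ⊢
    exact n100 hx36 h
  · exact n102 hx31 hx36 h

lemma n104 {x32 x31 x46 x45 x44 x47 x36 : K} (hx36 : x36 ≠ 0)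
    (h : (X 32 (x32) * (X 31 (x31) * (X 46 (x46) * (X 45 (x45) * (X 44 (x44) * (X 47 (x47) * (X 36 (x36)))))))) * (X 32 (x32) * (X 31 (x31) * (X 46 (x46) * (X 45 (x45) * (X 44 (x44) * (X 47 (x47) * (X 36 (x36)))))))) = 1) :
    Rch (X 32 (x32) * (X 31 (x31) * (X 46 (x46) * (X 45 (x45) * (X 44 (x44) * (X 47 (x47) * (X 36 (x36)))))))) := by
  obtain ⟨d, hd⟩ : ∃ d : K, (x36) * d = x44 :=
    exists_lin hx36 _
  have hw : (d * x36 + x44) = 0 := by linear_combination hd + (x44) * CharTwo.two_eq_zero (R := K)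
  have e : X 37 d * (X 32 (x32) * (X 31 (x31) * (X 46 (x46) * (X 45 (x45) * (X 44 (x44) * (X 47 (x47) * (X 36 (x36)))))))) * (X 37 d)⁻¹ = (X 32 (x32) * (X 31 (x31) * (X 46 (x46) * (X 45 (x45) * (X 44 (d * x36 + x44) * (X 47 (x47) * (X 36 (x36)))))))) := by
    rw [inv_eq]
    normX
  rw [hw, X_zero] at e
  simp only [one_mul, mul_one] at e
  exact Rch.step (xG_mem_group g₄ 37 d) e h fun h' => n103 hx36 h'

lemma n105 {x32 x31 x40 x46 x45 x44 x47 x36 : K} (hx36 : x36 ≠ 0)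
    (h : (X 32 (x32) * (X 31 (x31) * (X 40 (x40) * (X 46 (x46) * (X 45 (x45) * (X 44 (x44) * (X 47 (x47) * (X 36 (x36))))))))) * (X 32 (x32) * (X 31 (x31) * (X 40 (x40) * (X 46 (x46) * (X 45 (x45) * (X 44 (x44) * (X 47 (x47) * (X 36 (x36))))))))) = 1) :
    Rch (X 32 (x32) * (X 31 (x31) * (X 40 (x40) * (X 46 (x46) * (X 45 (x45) * (X 44 (x44) * (X 47 (x47) * (X 36 (x36))))))))) := by
  obtain ⟨d, hd⟩ : ∃ d : K, (x36) * d = x40 :=
    exists_lin hx36 _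
  have hw : (d * x36 + x40) = 0 := by linear_combination hd + (x40) * CharTwo.two_eq_zero (R := K)
  have e : X 30 d * (X 32 (x32) * (X 31 (x31) * (X 40 (x40) * (X 46 (x46) * (X 45 (x45) * (X 44 (x44) * (X 47 (x47) * (X 36 (x36))))))))) * (X 30 d)⁻¹ = (X 32 (x32) * (X 31 (x31) * (X 40 (d * x36 + x40) * (X 46 (x46) * (X 45 (x45) * (X 44 (x44) * (X 47 (d * x36 ^ 2 + x47) * (X 36 (x36))))))))) := by
    rw [inv_eq]
    normX
  rw [hw, X_zero] at e
  simp only [one_mul, mul_one] at e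
  exact Rch.step (xG_mem_group g₄ 30 d) e h fun h' => n104 hx36 h'

lemma n106 {x32 x31 x40 x46 x39 x45 x44 x47 x36 : K} (hx36 : x36 ≠ 0)
    (h : (X 32 (x32) * (X 31 (x31) * (X 40 (x40) * (X 46 (x46) * (X 39 (x39) * (X 45 (x45) * (X 44 (x44) * (X 47 (x47) * (X 36 (x36)))))))))) * (X 32 (x32) * (X 31 (x31) * (X 40 (x40) * (X 46 (x46) * (X 39 (x39) * (X 45 (x45) * (X 44 (x44) * (X 47 (x47) * (X 36 (x36)))))))))) = 1) :
    Rch (X 32 (x32) * (X 31 (x31) * (X 40 (x40) * (X 46 (x46) * (X 39 (x39) * (X 45 (x45) * (X 44 (x44) * (X 47 (x47) * (X 36 (x36)))))))))) := by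
  obtain ⟨d, hd⟩ : ∃ d : K, (x36) * d = x39 :=
    exists_lin hx36 _
  have hw : (d * x36 + x39) = 0 := by linear_combination hd + (x39) * CharTwo.two_eq_zero (R := K)
  have e : X 28 d * (X 32 (x32) * (X 31 (x31) * (X 40 (x40) * (X 46 (x46) * (X 39 (x39) * (X 45 (x45) * (X 44 (x44) * (X 47 (x47) * (X 36 (x36)))))))))) * (X 28 d)⁻¹ = (X 32 (x32) * (X 31 (x31) * (X 40 (x40) * (X 46 (x46) * (X 39 (d * x36 + x39) * (X 45 (x45) * (X 44 (x44) * (X 47 (x47) * (X 36 (x36)))))))))) := by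
    rw [inv_eq]
    normX
  rw [hw, X_zero] at e
  simp only [one_mul, mul_one] at e
  exact Rch.step (xG_mem_group g₄ 28 d) e h fun h' => n105 hx36 h'

lemma n107 {x32 x31 x40 x46 x39 x45 x44 x47 x38 x36 : K} (hx36 : x36 ≠ 0)
    (h : (X 32 (x32) * (X 31 (x31) * (X 40 (x40) * (X 46 (x46) * (X 39 (x39) * (X 45 (x45) * (X 44 (x44) * (X 47 (x47) * (X 38 (x38) * (X 36 (x36))))))))))) * (X 32 (x32) * (X 31 (x31) * (X 40 (x40) * (X 46 (x46) * (X 39 (x39) * (X 45 (x45) * (X 44 (x44) * (X 47 (x47) * (X 38 (x38) * (X 36 (x36))))))))))) = 1) :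
    Rch (X 32 (x32) * (X 31 (x31) * (X 40 (x40) * (X 46 (x46) * (X 39 (x39) * (X 45 (x45) * (X 44 (x44) * (X 47 (x47) * (X 38 (x38) * (X 36 (x36))))))))))) := by
  obtain ⟨d, hd⟩ : ∃ d : K, (x36) * d = x38 :=
    exists_lin hx36 _
  have hw : (d * x36 + x38) = 0 := by linear_combination hd + (x38) * CharTwo.two_eq_zero (R := K)
  have e : X 27 d * (X 32 (x32) * (X 31 (x31) * (X 40 (x40) * (X 46 (x46) * (X 39 (x39) * (X 45 (x45) * (X 44 (x44) * (X 47 (x47) * (X 38 (x38) * (X 36 (x36))))))))))) * (X 27 d)⁻¹ = (X 32 (x32) * (X 31 (x31) * (X 40 (d * x39 + x40) * (X 46 (x46) * (X 39 (x39) * (X 45 (x45) * (X 44 (x44) * (X 47 (x47) * (X 38 (d * x36 + x38) * (X 36 (x36))))))))))) := by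
    rw [inv_eq]
    normX
  rw [hw, X_zero] at e
  simp only [one_mul, mul_one] at e
  exact Rch.step (xG_mem_group g₄ 27 d) e h fun h' => n106 hx36 h'

lemma n108 {x40 x46 x39 x45 x29 x44 x47 x38 x43 x42 : K} (hx29 : x29 ≠ 0)
    (h : (X 40 (x40) * (X 46 (x46) * (X 39 (x39) * (X 45 (x45) * (X 29 (x29) * (X 44 (x44) * (X 47 (x47) * (X 38 (x38) * (X 43 (x43) * (X 42 (x42))))))))))) * (X 40 (x40) * (X 46 (x46) * (X 39 (x39) * (X 45 (x45) * (X 29 (x29) * (X 44 (x44) * (X 47 (x47) * (X 38 (x38) * (X 43 (x43) * (X 42 (x42))))))))))) = 1) :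
    Rch (X 40 (x40) * (X 46 (x46) * (X 39 (x39) * (X 45 (x45) * (X 29 (x29) * (X 44 (x44) * (X 47 (x47) * (X 38 (x38) * (X 43 (x43) * (X 42 (x42))))))))))) := by
  have e : nS K g₄ 0 * (X 40 (x40) * (X 46 (x46) * (X 39 (x39) * (X 45 (x45) * (X 29 (x29) * (X 44 (x44) * (X 47 (x47) * (X 38 (x38) * (X 43 (x43) * (X 42 (x42))))))))))) * (nS K g₄ 0)⁻¹ = (X 32 (x43) * (X 31 (x42) * (X 40 (x44) * (X 46 (x46) * (X 39 (x39) * (X 45 (x45) * (X 44 (x40) * (X 47 (x47) * (X 38 (x38) * (X 36 (x29))))))))))) := by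
    rw [← MulAut.conj_apply]
    simp only [map_mul, conj_s (i := 0) (r := 40) (r' := 44) (by decide +kernel), conj_s (i := 0) (r := 46) (r' := 46) (by decide +kernel), conj_s (i := 0) (r := 39) (r' := 39) (by decide +kernel), conj_s (i := 0) (r := 45) (r' := 45) (by decide +kernel), conj_s (i := 0) (r := 29) (r' := 36) (by decide +kernel), conj_s (i := 0) (r := 44) (r' := 40) (by decide +kernel), conj_s (i := 0) (r := 47) (r' := 47) (by decide +kernel), conj_s (i := 0) (r := 38) (r' := 38) (by decide +kernel), conj_s (i := 0) (r := 43) (r' := 32) (by decide +kernel), conj_s (i := 0) (r := 42) (r' := 31) (by decide +kernel)]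
    all_goals normX
  exact Rch.step (nS_mem_group (by decide)) e h fun h' => n107 hx29 h'

lemma n109 {x40 x46 x39 x45 x29 x44 x47 x38 x43 x36 x42 : K} (hx29 : x29 ≠ 0)
    (h : (X 40 (x40) * (X 46 (x46) * (X 39 (x39) * (X 45 (x45) * (X 29 (x29) * (X 44 (x44) * (X 47 (x47) * (X 38 (x38) * (X 43 (x43) * (X 36 (x36) * (X 42 (x42)))))))))))) * (X 40 (x40) * (X 46 (x46) * (X 39 (x39) * (X 45 (x45) * (X 29 (x29) * (X 44 (x44) * (X 47 (x47) * (X 38 (x38) * (X 43 (x43) * (X 36 (x36) * (X 42 (x42)))))))))))) = 1) :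
    Rch (X 40 (x40) * (X 46 (x46) * (X 39 (x39) * (X 45 (x45) * (X 29 (x29) * (X 44 (x44) * (X 47 (x47) * (X 38 (x38) * (X 43 (x43) * (X 36 (x36) * (X 42 (x42)))))))))))) := by
  obtain ⟨d, hd⟩ : ∃ d : K, (x29) * d = x36 :=
    exists_lin hx29 _
  have hw : (d * x29 + x36) = 0 := by linear_combination hd + (x36) * CharTwo.two_eq_zero (R := K)
  have e : X 33 d * (X 40 (x40) * (X 46 (x46) * (X 39 (x39) * (X 45 (x45) * (X 29 (x29) * (X 44 (x44) * (X 47 (x47) * (X 38 (x38) * (X 43 (x43) * (X 36 (x36) * (X 42 (x42)))))))))))) * (X 33 d)⁻¹ = (X 40 (x40) * (X 46 (x46) * (X 39 (x39) * (X 45 (x45) * (X 29 (x29) * (X 44 (d * x40 + x44) * (X 47 (x47) * (X 38 (x38) * (X 43 (x43) * (X 36 (d * x29 + x36) * (X 42 (x42)))))))))))) := by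
    rw [inv_eq]
    normX
  rw [hw, X_zero] at e
  simp only [one_mul, mul_one] at e
  exact Rch.step (xG_mem_group g₄ 33 d) e h fun h' => n108 hx29 h'

lemma n110 {x37 x35 x40 x46 x39 x45 x29 x41 x44 x47 x38 x43 x34 x36 x42 x33 : K} (hx29 : x29 ≠ 0)
    (h : (X 37 (x37) * (X 35 (x35) * (X 40 (x40) * (X 46 (x46) * (X 39 (x39) * (X 45 (x45) * (X 29 (x29) * (X 41 (x41) * (X 44 (x44) * (X 47 (x47) * (X 38 (x38) * (X 43 (x43) * (X 34 (x34) * (X 36 (x36) * (X 42 (x42) * (X 33 (x33))))))))))))))))) * (X 37 (x37) * (X 35 (x35) * (X 40 (x40) * (X 46 (x46) * (X 39 (x39) * (X 45 (x45) * (X 29 (x29) * (X 41 (x41) * (X 44 (x44) * (X 47 (x47) * (X 38 (x38) * (X 43 (x43) * (X 34 (x34) * (X 36 (x36) * (X 42 (x42) * (X 33 (x33))))))))))))))))) = 1) :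
    Rch (X 37 (x37) * (X 35 (x35) * (X 40 (x40) * (X 46 (x46) * (X 39 (x39) * (X 45 (x45) * (X 29 (x29) * (X 41 (x41) * (X 44 (x44) * (X 47 (x47) * (X 38 (x38) * (X 43 (x43) * (X 34 (x34) * (X 36 (x36) * (X 42 (x42) * (X 33 (x33))))))))))))))))) := by
  have e : (X 37 (x37) * (X 35 (x35) * (X 40 (x40) * (X 46 (x46) * (X 39 (x39) * (X 45 (x45) * (X 29 (x29) * (X 41 (x41) * (X 44 (x44) * (X 47 (x47) * (X 38 (x38) * (X 43 (x43) * (X 34 (x34) * (X 36 (x36) * (X 42 (x42) * (X 33 (x33))))))))))))))))) * (X 37 (x37) * (X 35 (x35) * (X 40 (x40) * (X 46 (x46) * (X 39 (x39) * (X 45 (x45) * (X 29 (x29) * (X 41 (x41) * (X 44 (x44) * (X 47 (x47) * (X 38 (x38) * (X 43 (x43) * (X 34 (x34) * (X 36 (x36) * (X 42 (x42) * (X 33 (x33))))))))))))))))) = Z (0, 0) (0, 0) (0, 0) (0, 0) (x29 * x37, 0) (x29 * x35, 0) (0, 0) (x29 * x41 + x33 * x40 + x34 * x39 + x35 * x38 + x36 * x37, x29 ^ 2 * x41) (x29 * x34, 0) (0, 0)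 (x29 * x33, 0) (0, 0) := by
    unfold Z
    normX
  have e' := Z_inj (e.symm.trans (h.trans one_Z))
  obtain ⟨-, -, -, -, e4, e5, -, e7, e8, -, e10, -⟩ := e'
  have z37 : x37 = 0 := zero_of (congrArg Prod.fst e4) fun hx37 =>
    (mul_ne_zero hx29 hx37)
  have z35 : x35 = 0 := zero_of (congrArg Prod.fst e5) fun hx35 =>
    (mul_ne_zero hx29 hx35)
  have z41 : x41 = 0 := zero_of (congrArg Prod.snd e7) fun hx41 =>
    (mul_ne_zero (pow_ne_zero 2 hx29) hx41)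
  have z34 : x34 = 0 := zero_of (congrArg Prod.fst e8) fun hx34 =>
    (mul_ne_zero hx29 hx34)
  have z33 : x33 = 0 := zero_of (congrArg Prod.fst e10) fun hx33 =>
    (mul_ne_zero hx29 hx33)
  subst z37 z35 z41 z34 z33
  simp only [X_zero, one_mul, mul_one] at h ⊢
  exact n109 hx29 h

lemma n111 {x37 x35 x40 x46 x39 x45 x29 x41 x44 x47 x38 x43 x34 x36 x42 x33 : K}
    (h : (X 37 (x37) * (X 35 (x35) * (X 40 (x40) * (X 46 (x46) * (X 39 (x39) * (X 45 (x45) * (X 29 (x29) * (X 41 (x41) * (X 44 (x44) * (X 47 (x47) * (X 38 (x38) * (X 43 (x43) * (X 34 (x34) * (X 36 (x36) * (X 42 (x42) * (X 33 (x33))))))))))))))))) * (X 37 (x37) * (X 35 (x35) * (X 40 (x40) * (X 46 (x46) * (X 39 (x39) * (X 45 (x45) * (X 29 (x29) * (X 41 (x41) * (X 44 (x44) * (X 47 (x47) * (X 38 (x38) * (X 43 (x43) * (X 34 (x34) * (X 36 (x36) * (X 42 (x42) * (X 33 (x33))))))))))))))))) = 1) :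
    Rch (X 37 (x37) * (X 35 (x35) * (X 40 (x40) * (X 46 (x46) * (X 39 (x39) * (X 45 (x45) * (X 29 (x29) * (X 41 (x41) * (X 44 (x44) * (X 47 (x47) * (X 38 (x38) * (X 43 (x43) * (X 34 (x34) * (X 36 (x36) * (X 42 (x42) * (X 33 (x33))))))))))))))))) := by
  rcases eq_or_ne x29 0 with rfl | hx29
  · simp only [X_zero, one_mul, mul_one] at h ⊢
    exact n86 h
  · exact n110 hx29 h

lemma n112 {x32 x45 x44 : K} (hx32 : x32 ≠ 0)
    (h : (X 32 (x32) * (X 45 (x45) * (X 44 (x44)))) * (X 32 (x32) * (X 45 (x45) * (X 44 (x44)))) = 1) :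
    Rch (X 32 (x32) * (X 45 (x45) * (X 44 (x44)))) := by
  have e : nS K g₄ 0 * (X 32 (x32) * (X 45 (x45) * (X 44 (x44)))) * (nS K g₄ 0)⁻¹ = (X 40 (x44) * (X 45 (x45) * (X 43 (x32)))) := by
    rw [← MulAut.conj_apply]
    simp only [map_mul, conj_s (i := 0) (r := 32) (r' := 43) (by decide +kernel), conj_s (i := 0) (r := 45) (r' := 45) (by decide +kernel), conj_s (i := 0) (r := 44) (r' := 40) (by decide +kernel)]
    all_goals normX
  exact Rch.step (nS_mem_group (by decide)) e h fun h' => n36 hx32 h'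

lemma n113_1 {x32 x45 : K} (hx32 : x32 ≠ 0) (hx45 : x45 ≠ 0)
    (h : (X 32 (x32) * (X 45 (x45))) * (X 32 (x32) * (X 45 (x45))) = 1) :
    Rch (X 32 (x32) * (X 45 (x45))) := by
  have e : nS K g₄ 0 * (X 32 (x32) * (X 45 (x45))) * (nS K g₄ 0)⁻¹ = (X 45 (x45) * (X 43 (x32))) := by
    rw [← MulAut.conj_apply]
    simp only [map_mul, conj_s (i := 0) (r := 32) (r' := 43) (by decide +kernel), conj_s (i := 0) (r := 45) (r' := 45) (by decide +kernel)]
    all_goals normX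
  exact Rch.step (nS_mem_group (by decide)) e h fun h' => n20 hx45 hx32 h'

lemma n113 {x32 x43 : K} (hx32 : x32 ≠ 0) (hx43 : x43 ≠ 0)
    (h : (X 32 (x32) * (X 43 (x43))) * (X 32 (x32) * (X 43 (x43))) = 1) :
    Rch (X 32 (x32) * (X 43 (x43))) := by
  have e : nS K g₄ 1 * (X 32 (x32) * (X 43 (x43))) * (nS K g₄ 1)⁻¹ = (X 32 (x32) * (X 45 (x43))) := by
    rw [← MulAut.conj_apply]
    simp only [map_mul, conj_s (i := 1) (r := 32) (r' := 32) (by decide +kernel), conj_s (i := 1) (r := 43) (r' := 45) (by decide +kernel)]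
    all_goals normX
  exact Rch.step (nS_mem_group (by decide)) e h fun h' => n113_1 hx32 hx43 h'

lemma n114_4 {x40 x39 x45 : K} (hx40 : x40 ≠ 0) (hx39 : x39 ≠ 0) (hx45 : x45 ≠ 0)
    (h : (X 40 (x40) * (X 39 (x39) * (X 45 (x45)))) * (X 40 (x40) * (X 39 (x39) * (X 45 (x45)))) = 1) :
    Rch (X 40 (x40) * (X 39 (x39) * (X 45 (x45)))) := by
  obtain ⟨d, hd⟩ : ∃ d : K, (x39) * d = x40 :=
    exists_lin hx39 _
  have hd : d ≠ 0 ∧ (x39) * d = x40 := ⟨fun e => hx40 (by rw [← hd, e]; simp), hd⟩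
  obtain ⟨hd0, hd⟩ := hd
  have hw : (d * x39 + x40) = 0 := by linear_combination hd + (x40) * CharTwo.two_eq_zero (R := K)
  have e : X 27 d * (X 40 (x40) * (X 39 (x39) * (X 45 (x45)))) * (X 27 d)⁻¹ = (X 40 (d * x39 + x40) * (X 39 (x39) * (X 45 (x45)))) := by
    rw [inv_eq]
    normX
  rw [hw, X_zero] at e
  simp only [one_mul, mul_one] at e
  exact Rch.step (xG_mem_group g₄ 27 d) e h fun h' => n27 hx39 hx45 h'

lemma n114_3 {x40 x39 x43 : K} (hx40 : x40 ≠ 0) (hx39 : x39 ≠ 0) (hx43 : x43 ≠ 0)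
    (h : (X 40 (x40) * (X 39 (x39) * (X 43 (x43)))) * (X 40 (x40) * (X 39 (x39) * (X 43 (x43)))) = 1) :
    Rch (X 40 (x40) * (X 39 (x39) * (X 43 (x43)))) := by
  have e : nS K g₄ 1 * (X 40 (x40) * (X 39 (x39) * (X 43 (x43)))) * (nS K g₄ 1)⁻¹ = (X 40 (x39) * (X 39 (x40) * (X 45 (x43)))) := by
    rw [← MulAut.conj_apply]
    simp only [map_mul, conj_s (i := 1) (r := 40) (r' := 39) (by decide +kernel), conj_s (i := 1) (r := 39) (r' := 40) (by decide +kernel), conj_s (i := 1) (r := 43) (r' := 45) (by decide +kernel)]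
    all_goals normX
  exact Rch.step (nS_mem_group (by decide)) e h fun h' => n114_4 hx39 hx40 hx43 h'

lemma n114_2 {x32 x39 x44 : K} (hx32 : x32 ≠ 0) (hx39 : x39 ≠ 0) (hx44 : x44 ≠ 0)
    (h : (X 32 (x32) * (X 39 (x39) * (X 44 (x44)))) * (X 32 (x32) * (X 39 (x39) * (X 44 (x44)))) = 1) :
    Rch (X 32 (x32) * (X 39 (x39) * (X 44 (x44)))) := by
  have e : nS K g₄ 0 * (X 32 (x32) * (X 39 (x39) * (X 44 (x44)))) * (nS K g₄ 0)⁻¹ = (X 40 (x44) * (X 39 (x39) * (X 43 (x32)))) := by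
    rw [← MulAut.conj_apply]
    simp only [map_mul, conj_s (i := 0) (r := 32) (r' := 43) (by decide +kernel), conj_s (i := 0) (r := 39) (r' := 39) (by decide +kernel), conj_s (i := 0) (r := 44) (r' := 40) (by decide +kernel)]
    all_goals normX
  exact Rch.step (nS_mem_group (by decide)) e h fun h' => n114_3 hx44 hx39 hx32 h'

lemma n114_1 {x32 x44 x43 : K} (hx32 : x32 ≠ 0) (hx44 : x44 ≠ 0) (hx43 : x43 ≠ 0)
    (h : (X 32 (x32) * (X 44 (x44) * (X 43 (x43)))) * (X 32 (x32) * (X 44 (x44) * (X 43 (x43)))) = 1) :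
    Rch (X 32 (x32) * (X 44 (x44) * (X 43 (x43)))) := by
  obtain ⟨d, hd⟩ : ∃ d : K, (x32) * d ^ 2 = x43 :=
    exists_sq hx32 _
  have hd : d ≠ 0 ∧ (x32) * d ^ 2 = x43 := ⟨fun e => hx43 (by rw [← hd, e]; simp), hd⟩
  obtain ⟨hd0, hd⟩ := hd
  have hw : (d ^ 2 * x32 + x43) = 0 := by linear_combination hd + (x43) * CharTwo.two_eq_zero (R := K)
  have e : X 33 d * (X 32 (x32) * (X 44 (x44) * (X 43 (x43)))) * (X 33 d)⁻¹ = (X 32 (x32) * (X 39 (d * x32) * (X 44 (x44) * (X 43 (d ^ 2 * x32 + x43))))) := by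
    rw [inv_eq]
    normX
  rw [hw, X_zero] at e
  simp only [one_mul, mul_one] at e
  exact Rch.step (xG_mem_group g₄ 33 d) e h fun h' => n114_2 hx32 (mul_ne_zero hd0 hx32) hx44 h'

lemma n114 {x32 x45 x43 : K} (hx32 : x32 ≠ 0) (hx45 : x45 ≠ 0) (hx43 : x43 ≠ 0)
    (h : (X 32 (x32) * (X 45 (x45) * (X 43 (x43)))) * (X 32 (x32) * (X 45 (x45) * (X 43 (x43)))) = 1) :
    Rch (X 32 (x32) * (X 45 (x45) * (X 43 (x43)))) := by
  obtain ⟨d, hd⟩ : ∃ d : K, (x43) * d ^ 2 = x45 :=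
    exists_sq hx43 _
  have hd : d ≠ 0 ∧ (x43) * d ^ 2 = x45 := ⟨fun e => hx45 (by rw [← hd, e]; simp), hd⟩
  obtain ⟨hd0, hd⟩ := hd
  have hw : (d ^ 2 * x43 + x45) = 0 := by linear_combination hd + (x45) * CharTwo.two_eq_zero (R := K)
  have e : X 27 d * (X 32 (x32) * (X 45 (x45) * (X 43 (x43)))) * (X 27 d)⁻¹ = (X 32 (x32) * (X 45 (d ^ 2 * x43 + x45) * (X 44 (d * x43) * (X 43 (x43))))) := by
    rw [inv_eq]
    normX
  rw [hw, X_zero] at e
  simp only [one_mul, mul_one] at e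
  exact Rch.step (xG_mem_group g₄ 27 d) e h fun h' => n114_1 hx32 (mul_ne_zero hd0 hx43) hx43 h'

end CfsgLib.Chev.F4Inv
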