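/-
Reduction of the involutions in the unipotent subgroup of type F4: cases, part 3.
-/
import Cfsg.Agent.Lib.Chev.F4Invol.Red2

set_option autoImplicit false
set_option maxRecDepth 100000
set_option maxHeartbeats 4000000
set_option linter.unusedSimpArgs false
set_option linter.unusedVariables false
set_option linter.unusedSectionVars false

namespace CfsgLib.Chev.F4Inv

open Cfsg.Lie Matrix CfsgLib.Chev CfsgLib.Chev.F42Invol

variable {K : Type*} [Field K] [CharP K 2] [Fintype K]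

local notation "g₄" => stdF4.good

lemma n115 {x32 x45 x43 : K} (hx32 : x32 ≠ 0) (hx43 : x43 ≠ 0)
    (h : (X 32 (x32) * (X 45 (x45) * (X 43 (x43)))) * (X 32 (x32) * (X 45 (x45) * (X 43 (x43)))) = 1) :
    Rch (X 32 (x32) * (X 45 (x45) * (X 43 (x43)))) := by
  rcases eq_or_ne x45 0 with rfl | hx45
  · simp only [X_zero, one_mul, mul_one] at h ⊢
    exact n113 hx32 hx43 h
  · exact n114 hx32 hx45 hx43 h

lemma n116 {x32 x45 x44 x43 : K} (hx32 : x32 ≠ 0) (hx43 : x43 ≠ 0)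
    (h : (X 32 (x32) * (X 45 (x45) * (X 44 (x44) * (X 43 (x43))))) * (X 32 (x32) * (X 45 (x45) * (X 44 (x44) * (X 43 (x43))))) = 1) :
    Rch (X 32 (x32) * (X 45 (x45) * (X 44 (x44) * (X 43 (x43))))) := by
  obtain ⟨d, hd⟩ : ∃ d : K, (x43) * d = x44 :=
    exists_lin hx43 _
  have hw : (d * x43 + x44) = 0 := by linear_combination hd + (x44) * CharTwo.two_eq_zero (R := K)
  have e : X 27 d * (X 32 (x32) * (X 45 (x45) * (X 44 (x44) * (X 43 (x43))))) * (X 27 d)⁻¹ = (X 32 (x32) * (X 45 (d ^ 2 * x43 + x45) * (X 44 (d * x43 + x44) * (X 43 (x43))))) := by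
    rw [inv_eq]
    normX
  rw [hw, X_zero] at e
  simp only [one_mul, mul_one] at e
  exact Rch.step (xG_mem_group g₄ 27 d) e h fun h' => n115 hx32 hx43 h'

lemma n117 {x32 x45 x44 x43 : K} (hx32 : x32 ≠ 0)
    (h : (X 32 (x32) * (X 45 (x45) * (X 44 (x44) * (X 43 (x43))))) * (X 32 (x32) * (X 45 (x45) * (X 44 (x44) * (X 43 (x43))))) = 1) :
    Rch (X 32 (x32) * (X 45 (x45) * (X 44 (x44) * (X 43 (x43))))) := by
  rcases eq_or_ne x43 0 with rfl | hx43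
  · simp only [X_zero, one_mul, mul_one] at h ⊢
    exact n112 hx32 h
  · exact n116 hx32 hx43 h

lemma n118_3 {x40 x46 x42 : K} (hx40 : x40 ≠ 0) (hx42 : x42 ≠ 0)
    (h : (X 40 (x40) * (X 46 (x46) * (X 42 (x42)))) * (X 40 (x40) * (X 46 (x46) * (X 42 (x42)))) = 1) :
    Rch (X 40 (x40) * (X 46 (x46) * (X 42 (x42)))) := by
  have e : nS K g₄ 2 * (X 40 (x40) * (X 46 (x46) * (X 42 (x42)))) * (nS K g₄ 2)⁻¹ = (X 40 (x40) * (X 45 (x46) * (X 43 (x42)))) := by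
    rw [← MulAut.conj_apply]
    simp only [map_mul, conj_s (i := 2) (r := 40) (r' := 40) (by decide +kernel), conj_s (i := 2) (r := 46) (r' := 45) (by decide +kernel), conj_s (i := 2) (r := 42) (r' := 43) (by decide +kernel)]
    all_goals normX
  exact Rch.step (nS_mem_group (by decide)) e h fun h' => n30 hx40 hx42 h'

lemma n118_2 {x46 x39 x42 : K} (hx39 : x39 ≠ 0) (hx42 : x42 ≠ 0)
    (h : (X 46 (x46) * (X 39 (x39) * (X 42 (x42)))) * (X 46 (x46) * (X 39 (x39) * (X 42 (x42)))) = 1) :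
    Rch (X 46 (x46) * (X 39 (x39) * (X 42 (x42)))) := by
  have e : nS K g₄ 1 * (X 46 (x46) * (X 39 (x39) * (X 42 (x42)))) * (nS K g₄ 1)⁻¹ = (X 40 (x39) * (X 46 (x46) * (X 42 (x42)))) := by
    rw [← MulAut.conj_apply]
    simp only [map_mul, conj_s (i := 1) (r := 46) (r' := 46) (by decide +kernel), conj_s (i := 1) (r := 39) (r' := 40) (by decide +kernel), conj_s (i := 1) (r := 42) (r' := 42) (by decide +kernel)]
    all_goals normX
  exact Rch.step (nS_mem_group (by decide)) e h fun h' => n118_3 hx39 hx42 h'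

lemma n118_1 {x45 x38 x43 : K} (hx38 : x38 ≠ 0) (hx43 : x43 ≠ 0)
    (h : (X 45 (x45) * (X 38 (x38) * (X 43 (x43)))) * (X 45 (x45) * (X 38 (x38) * (X 43 (x43)))) = 1) :
    Rch (X 45 (x45) * (X 38 (x38) * (X 43 (x43)))) := by
  have e : nS K g₄ 2 * (X 45 (x45) * (X 38 (x38) * (X 43 (x43)))) * (nS K g₄ 2)⁻¹ = (X 46 (x45) * (X 39 (x38) * (X 42 (x43)))) := by
    rw [← MulAut.conj_apply]
    simp only [map_mul, conj_s (i := 2) (r := 45) (r' := 46) (by decide +kernel), conj_s (i := 2) (r := 38) (r' := 39) (by decide +kernel), conj_s (i := 2) (r := 43) (r' := 42) (by decide +kernel)]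
    all_goals normX
  exact Rch.step (nS_mem_group (by decide)) e h fun h' => n118_2 hx38 hx43 h'

lemma n118 {x32 x45 x38 : K} (hx32 : x32 ≠ 0) (hx38 : x38 ≠ 0)
    (h : (X 32 (x32) * (X 45 (x45) * (X 38 (x38)))) * (X 32 (x32) * (X 45 (x45) * (X 38 (x38)))) = 1) :
    Rch (X 32 (x32) * (X 45 (x45) * (X 38 (x38)))) := by
  have e : nS K g₄ 0 * (X 32 (x32) * (X 45 (x45) * (X 38 (x38)))) * (nS K g₄ 0)⁻¹ = (X 45 (x45) * (X 38 (x38) * (X 43 (x32)))) := by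
    rw [← MulAut.conj_apply]
    simp only [map_mul, conj_s (i := 0) (r := 32) (r' := 43) (by decide +kernel), conj_s (i := 0) (r := 45) (r' := 45) (by decide +kernel), conj_s (i := 0) (r := 38) (r' := 38) (by decide +kernel)]
    all_goals normX
  exact Rch.step (nS_mem_group (by decide)) e h fun h' => n118_1 hx38 hx32 h'

lemma n119_9 {x39 x45 x47 : K} (hx39 : x39 ≠ 0) (hx45 : x45 ≠ 0) (hx47 : x47 ≠ 0)
    (h : (X 39 (x39) * (X 45 (x45) * (X 47 (x47)))) * (X 39 (x39) * (X 45 (x45) * (X 47 (x47)))) = 1) :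
    Rch (X 39 (x39) * (X 45 (x45) * (X 47 (x47)))) := by
  obtain ⟨d, hd⟩ : ∃ d : K, (x45) * d = x47 :=
    exists_lin hx45 _
  have hd : d ≠ 0 ∧ (x45) * d = x47 := ⟨fun e => hx47 (by rw [← hd, e]; simp), hd⟩
  obtain ⟨hd0, hd⟩ := hd
  have hw : (d * x45 + x47) = 0 := by linear_combination hd + (x47) * CharTwo.two_eq_zero (R := K)
  have e : X 26 d * (X 39 (x39) * (X 45 (x45) * (X 47 (x47)))) * (X 26 d)⁻¹ = (X 39 (x39) * (X 45 (x45) * (X 47 (d * x45 + x47)))) := by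
    rw [inv_eq]
    normX
  rw [hw, X_zero] at e
  simp only [one_mul, mul_one] at e
  exact Rch.step (xG_mem_group g₄ 26 d) e h fun h' => n27 hx39 hx45 h'

lemma n119_8 {x46 x47 x38 : K} (hx46 : x46 ≠ 0) (hx47 : x47 ≠ 0) (hx38 : x38 ≠ 0)
    (h : (X 46 (x46) * (X 47 (x47) * (X 38 (x38)))) * (X 46 (x46) * (X 47 (x47) * (X 38 (x38)))) = 1) :
    Rch (X 46 (x46) * (X 47 (x47) * (X 38 (x38)))) := by
  have e : nS K g₄ 2 * (X 46 (x46) * (X 47 (x47) * (X 38 (x38)))) * (nS K g₄ 2)⁻¹ = (X 39 (x38) * (X 45 (x46) * (X 47 (x47)))) := by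
    rw [← MulAut.conj_apply]
    simp only [map_mul, conj_s (i := 2) (r := 46) (r' := 45) (by decide +kernel), conj_s (i := 2) (r := 47) (r' := 47) (by decide +kernel), conj_s (i := 2) (r := 38) (r' := 39) (by decide +kernel)]
    all_goals normX
  exact Rch.step (nS_mem_group (by decide)) e h fun h' => n119_9 hx38 hx46 hx47 h'

lemma n119_7 {x46 x39 x38 : K} (hx46 : x46 ≠ 0) (hx39 : x39 ≠ 0) (hx38 : x38 ≠ 0)
    (h : (X 46 (x46) * (X 39 (x39) * (X 38 (x38)))) * (X 46 (x46) * (X 39 (x39) * (X 38 (x38)))) = 1) :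
    Rch (X 46 (x46) * (X 39 (x39) * (X 38 (x38)))) := by
  obtain ⟨d, hd⟩ : ∃ d : K, (x38) * d = x39 :=
    exists_lin hx38 _
  have hd : d ≠ 0 ∧ (x38) * d = x39 := ⟨fun e => hx39 (by rw [← hd, e]; simp), hd⟩
  obtain ⟨hd0, hd⟩ := hd
  have hw : (d * x38 + x39) = 0 := by linear_combination hd + (x39) * CharTwo.two_eq_zero (R := K)
  have e : X 25 d * (X 46 (x46) * (X 39 (x39) * (X 38 (x38)))) * (X 25 d)⁻¹ = (X 46 (x46) * (X 39 (d * x38 + x39) * (X 47 (d * x38 ^ 2) * (X 38 (x38))))) := by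
    rw [inv_eq]
    normX
  rw [hw, X_zero] at e
  simp only [one_mul, mul_one] at e
  exact Rch.step (xG_mem_group g₄ 25 d) e h fun h' => n119_8 hx46 (mul_ne_zero hd0 (pow_ne_zero 2 hx38)) hx38 h'

lemma n119_6 {x40 x46 x36 : K} (hx40 : x40 ≠ 0) (hx46 : x46 ≠ 0) (hx36 : x36 ≠ 0)
    (h : (X 40 (x40) * (X 46 (x46) * (X 36 (x36)))) * (X 40 (x40) * (X 46 (x46) * (X 36 (x36)))) = 1) :
    Rch (X 40 (x40) * (X 46 (x46) * (X 36 (x36)))) := by
  have e : nS K g₄ 1 * (X 40 (x40) * (X 46 (x46) * (X 36 (x36)))) * (nS K g₄ 1)⁻¹ = (X 46 (x46) * (X 39 (x40) * (X 38 (x36)))) := by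
    rw [← MulAut.conj_apply]
    simp only [map_mul, conj_s (i := 1) (r := 40) (r' := 39) (by decide +kernel), conj_s (i := 1) (r := 46) (r' := 46) (by decide +kernel), conj_s (i := 1) (r := 36) (r' := 38) (by decide +kernel)]
    all_goals normX
  exact Rch.step (nS_mem_group (by decide)) e h fun h' => n119_7 hx46 hx40 hx36 h'

lemma n119_5 {x40 x46 x38 x36 : K} (hx40 : x40 ≠ 0) (hx46 : x46 ≠ 0) (hx38 : x38 ≠ 0) (hx36 : x36 ≠ 0)
    (h : (X 40 (x40) * (X 46 (x46) * (X 38 (x38) * (X 36 (x36))))) * (X 40 (x40) * (X 46 (x46) * (X 38 (x38) * (X 36 (x36))))) = 1) :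
    Rch (X 40 (x40) * (X 46 (x46) * (X 38 (x38) * (X 36 (x36))))) := by
  obtain ⟨d, hd⟩ : ∃ d : K, (x36) * d = x38 :=
    exists_lin hx36 _
  have hd : d ≠ 0 ∧ (x36) * d = x38 := ⟨fun e => hx38 (by rw [← hd, e]; simp), hd⟩
  obtain ⟨hd0, hd⟩ := hd
  have hw : (d * x36 + x38) = 0 := by linear_combination hd + (x38) * CharTwo.two_eq_zero (R := K)
  have e : X 27 d * (X 40 (x40) * (X 46 (x46) * (X 38 (x38) * (X 36 (x36))))) * (X 27 d)⁻¹ = (X 40 (x40) * (X 46 (x46) * (X 38 (d * x36 + x38) * (X 36 (x36))))) := by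
    rw [inv_eq]
    normX
  rw [hw, X_zero] at e
  simp only [one_mul, mul_one] at e
  exact Rch.step (xG_mem_group g₄ 27 d) e h fun h' => n119_6 hx40 hx46 hx36 h'

lemma n119_4 {x40 x39 x45 x36 : K} (hx40 : x40 ≠ 0) (hx39 : x39 ≠ 0) (hx45 : x45 ≠ 0) (hx36 : x36 ≠ 0)
    (h : (X 40 (x40) * (X 39 (x39) * (X 45 (x45) * (X 36 (x36))))) * (X 40 (x40) * (X 39 (x39) * (X 45 (x45) * (X 36 (x36))))) = 1) :
    Rch (X 40 (x40) * (X 39 (x39) * (X 45 (x45) * (X 36 (x36))))) := by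
  have e : nS K g₄ 2 * (X 40 (x40) * (X 39 (x39) * (X 45 (x45) * (X 36 (x36))))) * (nS K g₄ 2)⁻¹ = (X 40 (x40) * (X 46 (x45) * (X 38 (x39) * (X 36 (x36))))) := by
    rw [← MulAut.conj_apply]
    simp only [map_mul, conj_s (i := 2) (r := 40) (r' := 40) (by decide +kernel), conj_s (i := 2) (r := 39) (r' := 38) (by decide +kernel), conj_s (i := 2) (r := 45) (r' := 46) (by decide +kernel), conj_s (i := 2) (r := 36) (r' := 36) (by decide +kernel)]
    all_goals normX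
  exact Rch.step (nS_mem_group (by decide)) e h fun h' => n119_5 hx40 hx45 hx39 hx36 h'

lemma n119_3 {x40 x39 x38 x43 : K} (hx40 : x40 ≠ 0) (hx39 : x39 ≠ 0) (hx38 : x38 ≠ 0) (hx43 : x43 ≠ 0)
    (h : (X 40 (x40) * (X 39 (x39) * (X 38 (x38) * (X 43 (x43))))) * (X 40 (x40) * (X 39 (x39) * (X 38 (x38) * (X 43 (x43))))) = 1) :
    Rch (X 40 (x40) * (X 39 (x39) * (X 38 (x38) * (X 43 (x43))))) := by
  have e : nS K g₄ 1 * (X 40 (x40) * (X 39 (x39) * (X 38 (x38) * (X 43 (x43))))) * (nS K g₄ 1)⁻¹ = (X 40 (x39) * (X 39 (x40) * (X 45 (x43) * (X 36 (x38))))) := by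
    rw [← MulAut.conj_apply]
    simp only [map_mul, conj_s (i := 1) (r := 40) (r' := 39) (by decide +kernel), conj_s (i := 1) (r := 39) (r' := 40) (by decide +kernel), conj_s (i := 1) (r := 38) (r' := 36) (by decide +kernel), conj_s (i := 1) (r := 43) (r' := 45) (by decide +kernel)]
    all_goals normX
  exact Rch.step (nS_mem_group (by decide)) e h fun h' => n119_4 hx39 hx40 hx43 hx38 h'

lemma n119_2 {x32 x39 x44 x38 : K} (hx32 : x32 ≠ 0) (hx39 : x39 ≠ 0) (hx44 : x44 ≠ 0) (hx38 : x38 ≠ 0)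
    (h : (X 32 (x32) * (X 39 (x39) * (X 44 (x44) * (X 38 (x38))))) * (X 32 (x32) * (X 39 (x39) * (X 44 (x44) * (X 38 (x38))))) = 1) :
    Rch (X 32 (x32) * (X 39 (x39) * (X 44 (x44) * (X 38 (x38))))) := by
  have e : nS K g₄ 0 * (X 32 (x32) * (X 39 (x39) * (X 44 (x44) * (X 38 (x38))))) * (nS K g₄ 0)⁻¹ = (X 40 (x44) * (X 39 (x39) * (X 38 (x38) * (X 43 (x32))))) := by
    rw [← MulAut.conj_apply]
    simp only [map_mul, conj_s (i := 0) (r := 32) (r' := 43) (by decide +kernel), conj_s (i := 0) (r := 39) (r' := 39) (by decide +kernel), conj_s (i := 0) (r := 44) (r' := 40) (by decide +kernel), conj_s (i := 0) (r := 38) (r' := 38) (by decide +kernel)]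
    all_goals normX
  exact Rch.step (nS_mem_group (by decide)) e h fun h' => n119_3 hx44 hx39 hx38 hx32 h'

lemma n119_1 {x32 x44 x38 x43 : K} (hx32 : x32 ≠ 0) (hx44 : x44 ≠ 0) (hx38 : x38 ≠ 0) (hx43 : x43 ≠ 0)
    (h : (X 32 (x32) * (X 44 (x44) * (X 38 (x38) * (X 43 (x43))))) * (X 32 (x32) * (X 44 (x44) * (X 38 (x38) * (X 43 (x43))))) = 1) :
    Rch (X 32 (x32) * (X 44 (x44) * (X 38 (x38) * (X 43 (x43))))) := by
  obtain ⟨d, hd⟩ : ∃ d : K, (x32) * d ^ 2 = x43 :=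
    exists_sq hx32 _
  have hd : d ≠ 0 ∧ (x32) * d ^ 2 = x43 := ⟨fun e => hx43 (by rw [← hd, e]; simp), hd⟩
  obtain ⟨hd0, hd⟩ := hd
  have hw : (d ^ 2 * x32 + x43) = 0 := by linear_combination hd + (x43) * CharTwo.two_eq_zero (R := K)
  have e : X 33 d * (X 32 (x32) * (X 44 (x44) * (X 38 (x38) * (X 43 (x43))))) * (X 33 d)⁻¹ = (X 32 (x32) * (X 39 (d * x32) * (X 44 (x44) * (X 38 (x38) * (X 43 (d ^ 2 * x32 + x43)))))) := by
    rw [inv_eq]
    normX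
  rw [hw, X_zero] at e
  simp only [one_mul, mul_one] at e
  exact Rch.step (xG_mem_group g₄ 33 d) e h fun h' => n119_2 hx32 (mul_ne_zero hd0 hx32) hx44 hx38 h'

lemma n119 {x32 x45 x38 x43 : K} (hx32 : x32 ≠ 0) (hx45 : x45 ≠ 0) (hx38 : x38 ≠ 0) (hx43 : x43 ≠ 0)
    (h : (X 32 (x32) * (X 45 (x45) * (X 38 (x38) * (X 43 (x43))))) * (X 32 (x32) * (X 45 (x45) * (X 38 (x38) * (X 43 (x43))))) = 1) :
    Rch (X 32 (x32) * (X 45 (x45) * (X 38 (x38) * (X 43 (x43))))) := by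
  obtain ⟨d, hd⟩ : ∃ d : K, (x43) * d ^ 2 = x45 :=
    exists_sq hx43 _
  have hd : d ≠ 0 ∧ (x43) * d ^ 2 = x45 := ⟨fun e => hx45 (by rw [← hd, e]; simp), hd⟩
  obtain ⟨hd0, hd⟩ := hd
  have hw : (d ^ 2 * x43 + x45) = 0 := by linear_combination hd + (x45) * CharTwo.two_eq_zero (R := K)
  have e : X 27 d * (X 32 (x32) * (X 45 (x45) * (X 38 (x38) * (X 43 (x43))))) * (X 27 d)⁻¹ = (X 32 (x32) * (X 45 (d ^ 2 * x43 + x45) * (X 44 (d * x43) * (X 38 (x38) * (X 43 (x43)))))) := by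
    rw [inv_eq]
    normX
  rw [hw, X_zero] at e
  simp only [one_mul, mul_one] at e
  exact Rch.step (xG_mem_group g₄ 27 d) e h fun h' => n119_1 hx32 (mul_ne_zero hd0 hx43) hx38 hx43 h'

lemma n120 {x32 x45 x38 x43 : K} (hx32 : x32 ≠ 0) (hx38 : x38 ≠ 0) (hx43 : x43 ≠ 0)
    (h : (X 32 (x32) * (X 45 (x45) * (X 38 (x38) * (X 43 (x43))))) * (X 32 (x32) * (X 45 (x45) * (X 38 (x38) * (X 43 (x43))))) = 1) :
    Rch (X 32 (x32) * (X 45 (x45) * (X 38 (x38) * (X 43 (x43))))) := by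
  rcases eq_or_ne x45 0 with rfl | hx45
  · simp only [X_zero, one_mul, mul_one] at h ⊢
    exact n95 hx32 hx38 hx43 h
  · exact n119 hx32 hx45 hx38 hx43 h

lemma n121 {x32 x45 x38 x43 : K} (hx32 : x32 ≠ 0) (hx38 : x38 ≠ 0)
    (h : (X 32 (x32) * (X 45 (x45) * (X 38 (x38) * (X 43 (x43))))) * (X 32 (x32) * (X 45 (x45) * (X 38 (x38) * (X 43 (x43))))) = 1) :
    Rch (X 32 (x32) * (X 45 (x45) * (X 38 (x38) * (X 43 (x43))))) := by
  rcases eq_or_ne x43 0 with rfl | hx43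
  · simp only [X_zero, one_mul, mul_one] at h ⊢
    exact n118 hx32 hx38 h
  · exact n120 hx32 hx38 hx43 h

lemma n122 {x32 x45 x44 x38 x43 : K} (hx32 : x32 ≠ 0) (hx38 : x38 ≠ 0)
    (h : (X 32 (x32) * (X 45 (x45) * (X 44 (x44) * (X 38 (x38) * (X 43 (x43)))))) * (X 32 (x32) * (X 45 (x45) * (X 44 (x44) * (X 38 (x38) * (X 43 (x43)))))) = 1) :
    Rch (X 32 (x32) * (X 45 (x45) * (X 44 (x44) * (X 38 (x38) * (X 43 (x43)))))) := by
  obtain ⟨d, hd⟩ : ∃ d : K, (x38) * d = x44 :=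
    exists_lin hx38 _
  have hw : (d * x38 + x44) = 0 := by linear_combination hd + (x44) * CharTwo.two_eq_zero (R := K)
  have e : X 35 d * (X 32 (x32) * (X 45 (x45) * (X 44 (x44) * (X 38 (x38) * (X 43 (x43)))))) * (X 35 d)⁻¹ = (X 32 (x32) * (X 45 (x45) * (X 44 (d * x38 + x44) * (X 38 (x38) * (X 43 (x43)))))) := by
    rw [inv_eq]
    normX
  rw [hw, X_zero] at e
  simp only [one_mul, mul_one] at e
  exact Rch.step (xG_mem_group g₄ 35 d) e h fun h' => n121 hx32 hx38 h'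

lemma n123 {x32 x45 x44 x38 x43 : K} (hx32 : x32 ≠ 0)
    (h : (X 32 (x32) * (X 45 (x45) * (X 44 (x44) * (X 38 (x38) * (X 43 (x43)))))) * (X 32 (x32) * (X 45 (x45) * (X 44 (x44) * (X 38 (x38) * (X 43 (x43)))))) = 1) :
    Rch (X 32 (x32) * (X 45 (x45) * (X 44 (x44) * (X 38 (x38) * (X 43 (x43)))))) := by
  rcases eq_or_ne x38 0 with rfl | hx38
  · simp only [X_zero, one_mul, mul_one] at h ⊢
    exact n117 hx32 h
  · exact n122 hx32 hx38 h

lemma n124 {x37 x32 x45 x44 x43 : K} (hx37 : x37 ≠ 0) (hx32 : x32 ≠ 0)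
    (h : (X 37 (x37) * (X 32 (x32) * (X 45 (x45) * (X 44 (x44) * (X 43 (x43)))))) * (X 37 (x37) * (X 32 (x32) * (X 45 (x45) * (X 44 (x44) * (X 43 (x43)))))) = 1) :
    Rch (X 37 (x37) * (X 32 (x32) * (X 45 (x45) * (X 44 (x44) * (X 43 (x43)))))) := by
  have e : nS K g₄ 3 * (X 37 (x37) * (X 32 (x32) * (X 45 (x45) * (X 44 (x44) * (X 43 (x43)))))) * (nS K g₄ 3)⁻¹ = (X 32 (x32) * (X 45 (x45) * (X 44 (x44) * (X 38 (x37) * (X 43 (x43)))))) := by
    rw [← MulAut.conj_apply]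
    simp only [map_mul, conj_s (i := 3) (r := 37) (r' := 38) (by decide +kernel), conj_s (i := 3) (r := 32) (r' := 32) (by decide +kernel), conj_s (i := 3) (r := 45) (r' := 45) (by decide +kernel), conj_s (i := 3) (r := 44) (r' := 44) (by decide +kernel), conj_s (i := 3) (r := 43) (r' := 43) (by decide +kernel)]
    all_goals normX
  exact Rch.step (nS_mem_group (by decide)) e h fun h' => n122 hx32 hx37 h'

lemma n125 {x37 x32 x45 x44 x38 x43 : K} (hx37 : x37 ≠ 0) (hx32 : x32 ≠ 0)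
    (h : (X 37 (x37) * (X 32 (x32) * (X 45 (x45) * (X 44 (x44) * (X 38 (x38) * (X 43 (x43))))))) * (X 37 (x37) * (X 32 (x32) * (X 45 (x45) * (X 44 (x44) * (X 38 (x38) * (X 43 (x43))))))) = 1) :
    Rch (X 37 (x37) * (X 32 (x32) * (X 45 (x45) * (X 44 (x44) * (X 38 (x38) * (X 43 (x43))))))) := by
  obtain ⟨d, hd⟩ : ∃ d : K, (x37) * d = x38 :=
    exists_lin hx37 _
  have hw : (d * x37 + x38) = 0 := by linear_combination hd + (x38) * CharTwo.two_eq_zero (R := K)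
  have e : X 24 d * (X 37 (x37) * (X 32 (x32) * (X 45 (x45) * (X 44 (x44) * (X 38 (x38) * (X 43 (x43))))))) * (X 24 d)⁻¹ = (X 37 (x37) * (X 32 (x32) * (X 45 (d * x37 ^ 2 + x45) * (X 44 (x44) * (X 38 (d * x37 + x38) * (X 43 (x43))))))) := by
    rw [inv_eq]
    normX
  rw [hw, X_zero] at e
  simp only [one_mul, mul_one] at e
  exact Rch.step (xG_mem_group g₄ 24 d) e h fun h' => n124 hx37 hx32 h'

lemma n126 {x37 x32 x45 x44 x38 x43 : K} (hx32 : x32 ≠ 0)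
    (h : (X 37 (x37) * (X 32 (x32) * (X 45 (x45) * (X 44 (x44) * (X 38 (x38) * (X 43 (x43))))))) * (X 37 (x37) * (X 32 (x32) * (X 45 (x45) * (X 44 (x44) * (X 38 (x38) * (X 43 (x43))))))) = 1) :
    Rch (X 37 (x37) * (X 32 (x32) * (X 45 (x45) * (X 44 (x44) * (X 38 (x38) * (X 43 (x43))))))) := by
  rcases eq_or_ne x37 0 with rfl | hx37
  · simp only [X_zero, one_mul, mul_one] at h ⊢
    exact n123 hx32 h
  · exact n125 hx37 hx32 h

lemma n127 {x32 x45 x44 x43 x36 : K} (hx32 : x32 ≠ 0) (hx36 : x36 ≠ 0)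
    (h : (X 32 (x32) * (X 45 (x45) * (X 44 (x44) * (X 43 (x43) * (X 36 (x36)))))) * (X 32 (x32) * (X 45 (x45) * (X 44 (x44) * (X 43 (x43) * (X 36 (x36)))))) = 1) :
    Rch (X 32 (x32) * (X 45 (x45) * (X 44 (x44) * (X 43 (x43) * (X 36 (x36)))))) := by
  have e : nS K g₄ 1 * (X 32 (x32) * (X 45 (x45) * (X 44 (x44) * (X 43 (x43) * (X 36 (x36)))))) * (nS K g₄ 1)⁻¹ = (X 32 (x32) * (X 45 (x43) * (X 44 (x44) * (X 38 (x36) * (X 43 (x45)))))) := by
    rw [← MulAut.conj_apply]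
    simp only [map_mul, conj_s (i := 1) (r := 32) (r' := 32) (by decide +kernel), conj_s (i := 1) (r := 45) (r' := 43) (by decide +kernel), conj_s (i := 1) (r := 44) (r' := 44) (by decide +kernel), conj_s (i := 1) (r := 43) (r' := 45) (by decide +kernel), conj_s (i := 1) (r := 36) (r' := 38) (by decide +kernel)]
    all_goals normX
  exact Rch.step (nS_mem_group (by decide)) e h fun h' => n122 hx32 hx36 h'

lemma n128 {x32 x45 x44 x38 x43 x36 : K} (hx32 : x32 ≠ 0) (hx36 : x36 ≠ 0)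
    (h : (X 32 (x32) * (X 45 (x45) * (X 44 (x44) * (X 38 (x38) * (X 43 (x43) * (X 36 (x36))))))) * (X 32 (x32) * (X 45 (x45) * (X 44 (x44) * (X 38 (x38) * (X 43 (x43) * (X 36 (x36))))))) = 1) :
    Rch (X 32 (x32) * (X 45 (x45) * (X 44 (x44) * (X 38 (x38) * (X 43 (x43) * (X 36 (x36))))))) := by
  obtain ⟨d, hd⟩ : ∃ d : K, (x36) * d = x38 :=
    exists_lin hx36 _
  have hw : (d * x36 + x38) = 0 := by linear_combination hd + (x38) * CharTwo.two_eq_zero (R := K)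
  have e : X 27 d * (X 32 (x32) * (X 45 (x45) * (X 44 (x44) * (X 38 (x38) * (X 43 (x43) * (X 36 (x36))))))) * (X 27 d)⁻¹ = (X 32 (x32) * (X 45 (d ^ 2 * x43 + x45) * (X 44 (d * x43 + x44) * (X 38 (d * x36 + x38) * (X 43 (x43) * (X 36 (x36))))))) := by
    rw [inv_eq]
    normX
  rw [hw, X_zero] at e
  simp only [one_mul, mul_one] at e
  exact Rch.step (xG_mem_group g₄ 27 d) e h fun h' => n127 hx32 hx36 h'

lemma n129 {x37 x32 x45 x44 x38 x43 x36 : K} (hx32 : x32 ≠ 0) (hx36 : x36 ≠ 0)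
    (h : (X 37 (x37) * (X 32 (x32) * (X 45 (x45) * (X 44 (x44) * (X 38 (x38) * (X 43 (x43) * (X 36 (x36)))))))) * (X 37 (x37) * (X 32 (x32) * (X 45 (x45) * (X 44 (x44) * (X 38 (x38) * (X 43 (x43) * (X 36 (x36)))))))) = 1) :
    Rch (X 37 (x37) * (X 32 (x32) * (X 45 (x45) * (X 44 (x44) * (X 38 (x38) * (X 43 (x43) * (X 36 (x36)))))))) := by
  have e : (X 37 (x37) * (X 32 (x32) * (X 45 (x45) * (X 44 (x44) * (X 38 (x38) * (X 43 (x43) * (X 36 (x36)))))))) * (X 37 (x37) * (X 32 (x32) * (X 45 (x45) * (X 44 (x44) * (X 38 (x38) * (X 43 (x43) * (X 36 (x36)))))))) = Z (0, 0) (0, 0) (0, 0) (0, 0) (0, 0) (0, 0) (0, 0) (x36 * x37, 0) (0, 0) (0, 0) (0, 0) (0, 0) := by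
    unfold Z
    normX
  have e' := Z_inj (e.symm.trans (h.trans one_Z))
  obtain ⟨-, -, -, -, -, -, -, e7, -, -, -, -⟩ := e'
  have z37 : x37 = 0 := zero_of (congrArg Prod.fst e7) fun hx37 =>
    (mul_ne_zero hx36 hx37)
  subst z37
  simp only [X_zero, one_mul, mul_one] at h ⊢
  exact n128 hx32 hx36 h

lemma n130 {x37 x32 x45 x44 x38 x43 x36 : K} (hx32 : x32 ≠ 0)
    (h : (X 37 (x37) * (X 32 (x32) * (X 45 (x45) * (X 44 (x44) * (X 38 (x38) * (X 43 (x43) * (X 36 (x36)))))))) * (X 37 (x37) * (X 32 (x32) * (X 45 (x45) * (X 44 (x44) * (X 38 (x38) * (X 43 (x43) * (X 36 (x36)))))))) = 1) :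
    Rch (X 37 (x37) * (X 32 (x32) * (X 45 (x45) * (X 44 (x44) * (X 38 (x38) * (X 43 (x43) * (X 36 (x36)))))))) := by
  rcases eq_or_ne x36 0 with rfl | hx36
  · simp only [X_zero, one_mul, mul_one] at h ⊢
    exact n126 hx32 h
  · exact n129 hx32 hx36 h

lemma n131 {x37 x32 x35 x45 x44 x43 : K} (hx32 : x32 ≠ 0) (hx35 : x35 ≠ 0)
    (h : (X 37 (x37) * (X 32 (x32) * (X 35 (x35) * (X 45 (x45) * (X 44 (x44) * (X 43 (x43))))))) * (X 37 (x37) * (X 32 (x32) * (X 35 (x35) * (X 45 (x45) * (X 44 (x44) * (X 43 (x43))))))) = 1) :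
    Rch (X 37 (x37) * (X 32 (x32) * (X 35 (x35) * (X 45 (x45) * (X 44 (x44) * (X 43 (x43))))))) := by
  have e : nS K g₄ 3 * (X 37 (x37) * (X 32 (x32) * (X 35 (x35) * (X 45 (x45) * (X 44 (x44) * (X 43 (x43))))))) * (nS K g₄ 3)⁻¹ = (X 32 (x32) * (X 45 (x45) * (X 44 (x44) * (X 38 (x37) * (X 43 (x43) * (X 36 (x35))))))) := by
    rw [← MulAut.conj_apply]
    simp only [map_mul, conj_s (i := 3) (r := 37) (r' := 38) (by decide +kernel), conj_s (i := 3) (r := 32) (r' := 32) (by decide +kernel), conj_s (i := 3) (r := 35) (r' := 36) (by decide +kernel), conj_s (i := 3) (r := 45) (r' := 45) (by decide +kernel), conj_s (i := 3) (r := 44) (r' := 44) (by decide +kernel), conj_s (i := 3) (r := 43) (r' := 43) (by decide +kernel)]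
    all_goals normX
  exact Rch.step (nS_mem_group (by decide)) e h fun h' => n128 hx32 hx35 h'

lemma n132 {x37 x32 x35 x45 x44 x38 x43 : K} (hx32 : x32 ≠ 0) (hx35 : x35 ≠ 0)
    (h : (X 37 (x37) * (X 32 (x32) * (X 35 (x35) * (X 45 (x45) * (X 44 (x44) * (X 38 (x38) * (X 43 (x43)))))))) * (X 37 (x37) * (X 32 (x32) * (X 35 (x35) * (X 45 (x45) * (X 44 (x44) * (X 38 (x38) * (X 43 (x43)))))))) = 1) :
    Rch (X 37 (x37) * (X 32 (x32) * (X 35 (x35) * (X 45 (x45) * (X 44 (x44) * (X 38 (x38) * (X 43 (x43)))))))) := by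
  have e : (X 37 (x37) * (X 32 (x32) * (X 35 (x35) * (X 45 (x45) * (X 44 (x44) * (X 38 (x38) * (X 43 (x43)))))))) * (X 37 (x37) * (X 32 (x32) * (X 35 (x35) * (X 45 (x45) * (X 44 (x44) * (X 38 (x38) * (X 43 (x43)))))))) = Z (0, 0) (0, 0) (0, 0) (0, 0) (0, 0) (0, 0) (0, 0) (x35 * x38, 0) (0, 0) (0, 0) (0, 0) (0, 0) := by
    unfold Z
    normX
  have e' := Z_inj (e.symm.trans (h.trans one_Z))
  obtain ⟨-, -, -, -, -, -, -, e7, -, -, -, -⟩ := e'
  have z38 : x38 = 0 := zero_of (congrArg Prod.fst e7) fun hx38 =>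
    (mul_ne_zero hx35 hx38)
  subst z38
  simp only [X_zero, one_mul, mul_one] at h ⊢
  exact n131 hx32 hx35 h

lemma n133 {x37 x32 x35 x45 x44 x38 x43 x36 : K} (hx32 : x32 ≠ 0) (hx35 : x35 ≠ 0)
    (h : (X 37 (x37) * (X 32 (x32) * (X 35 (x35) * (X 45 (x45) * (X 44 (x44) * (X 38 (x38) * (X 43 (x43) * (X 36 (x36))))))))) * (X 37 (x37) * (X 32 (x32) * (X 35 (x35) * (X 45 (x45) * (X 44 (x44) * (X 38 (x38) * (X 43 (x43) * (X 36 (x36))))))))) = 1) :
    Rch (X 37 (x37) * (X 32 (x32) * (X 35 (x35) * (X 45 (x45) * (X 44 (x44) * (X 38 (x38) * (X 43 (x43) * (X 36 (x36))))))))) := by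
  obtain ⟨d, hd⟩ : ∃ d : K, (x35) * d = x36 :=
    exists_lin hx35 _
  have hw : (d * x35 + x36) = 0 := by linear_combination hd + (x36) * CharTwo.two_eq_zero (R := K)
  have e : X 24 d * (X 37 (x37) * (X 32 (x32) * (X 35 (x35) * (X 45 (x45) * (X 44 (x44) * (X 38 (x38) * (X 43 (x43) * (X 36 (x36))))))))) * (X 24 d)⁻¹ = (X 37 (x37) * (X 32 (x32) * (X 35 (x35) * (X 45 (d * x37 ^ 2 + x45) * (X 44 (d * x35 * x37 + x44) * (X 38 (d * x37 + x38) * (X 43 (d * x35 ^ 2 + x43) * (X 36 (d * x35 + x36))))))))) := by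
    rw [inv_eq]
    normX
  rw [hw, X_zero] at e
  simp only [one_mul, mul_one] at e
  exact Rch.step (xG_mem_group g₄ 24 d) e h fun h' => n132 hx32 hx35 h'

lemma n134 {x37 x32 x35 x45 x44 x38 x43 x36 : K} (hx32 : x32 ≠ 0)
    (h : (X 37 (x37) * (X 32 (x32) * (X 35 (x35) * (X 45 (x45) * (X 44 (x44) * (X 38 (x38) * (X 43 (x43) * (X 36 (x36))))))))) * (X 37 (x37) * (X 32 (x32) * (X 35 (x35) * (X 45 (x45) * (X 44 (x44) * (X 38 (x38) * (X 43 (x43) * (X 36 (x36))))))))) = 1) :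
    Rch (X 37 (x37) * (X 32 (x32) * (X 35 (x35) * (X 45 (x45) * (X 44 (x44) * (X 38 (x38) * (X 43 (x43) * (X 36 (x36))))))))) := by
  rcases eq_or_ne x35 0 with rfl | hx35
  · simp only [X_zero, one_mul, mul_one] at h ⊢
    exact n130 hx32 h
  · exact n133 hx32 hx35 h

lemma n135 {x37 x32 x35 x45 x44 x47 x38 x43 x36 : K} (hx32 : x32 ≠ 0)
    (h : (X 37 (x37) * (X 32 (x32) * (X 35 (x35) * (X 45 (x45) * (X 44 (x44) * (X 47 (x47) * (X 38 (x38) * (X 43 (x43) * (X 36 (x36)))))))))) * (X 37 (x37) * (X 32 (x32) * (X 35 (x35) * (X 45 (x45) * (X 44 (x44) * (X 47 (x47) * (X 38 (x38) * (X 43 (x43) * (X 36 (x36)))))))))) = 1) :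
    Rch (X 37 (x37) * (X 32 (x32) * (X 35 (x35) * (X 45 (x45) * (X 44 (x44) * (X 47 (x47) * (X 38 (x38) * (X 43 (x43) * (X 36 (x36)))))))))) := by
  obtain ⟨d, hd⟩ : ∃ d : K, (x32) * d = x47 :=
    exists_lin hx32 _
  have hw : (d * x32 + x47) = 0 := by linear_combination hd + (x47) * CharTwo.two_eq_zero (R := K)
  have e : X 42 d * (X 37 (x37) * (X 32 (x32) * (X 35 (x35) * (X 45 (x45) * (X 44 (x44) * (X 47 (x47) * (X 38 (x38) * (X 43 (x43) * (X 36 (x36)))))))))) * (X 42 d)⁻¹ = (X 37 (x37) * (X 32 (x32) * (X 35 (x35) * (X 45 (x45) * (X 44 (x44) * (X 47 (d * x32 + x47) * (X 38 (x38) * (X 43 (x43) * (X 36 (x36)))))))))) := by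
    rw [inv_eq]
    normX
  rw [hw, X_zero] at e
  simp only [one_mul, mul_one] at e
  exact Rch.step (xG_mem_group g₄ 42 d) e h fun h' => n134 hx32 h'

lemma n136 {x37 x32 x35 x46 x45 x44 x47 x38 x43 x36 : K} (hx32 : x32 ≠ 0)
    (h : (X 37 (x37) * (X 32 (x32) * (X 35 (x35) * (X 46 (x46) * (X 45 (x45) * (X 44 (x44) * (X 47 (x47) * (X 38 (x38) * (X 43 (x43) * (X 36 (x36))))))))))) * (X 37 (x37) * (X 32 (x32) * (X 35 (x35) * (X 46 (x46) * (X 45 (x45) * (X 44 (x44) * (X 47 (x47) * (X 38 (x38) * (X 43 (x43) * (X 36 (x36))))))))))) = 1) :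
    Rch (X 37 (x37) * (X 32 (x32) * (X 35 (x35) * (X 46 (x46) * (X 45 (x45) * (X 44 (x44) * (X 47 (x47) * (X 38 (x38) * (X 43 (x43) * (X 36 (x36))))))))))) := by
  obtain ⟨d, hd⟩ : ∃ d : K, (x32) * d = x46 :=
    exists_lin hx32 _
  have hw : (d * x32 + x46) = 0 := by linear_combination hd + (x46) * CharTwo.two_eq_zero (R := K)
  have e : X 41 d * (X 37 (x37) * (X 32 (x32) * (X 35 (x35) * (X 46 (x46) * (X 45 (x45) * (X 44 (x44) * (X 47 (x47) * (X 38 (x38) * (X 43 (x43) * (X 36 (x36))))))))))) * (X 41 d)⁻¹ = (X 37 (x37) * (X 32 (x32) * (X 35 (x35) * (X 46 (d * x32 + x46) * (X 45 (x45) * (X 44 (x44) * (X 47 (x47) * (X 38 (x38) * (X 43 (x43) * (X 36 (x36))))))))))) := by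
    rw [inv_eq]
    normX
  rw [hw, X_zero] at e
  simp only [one_mul, mul_one] at e
  exact Rch.step (xG_mem_group g₄ 41 d) e h fun h' => n135 hx32 h'

lemma n137 {x37 x32 x35 x40 x46 x45 x44 x47 x38 x43 x36 : K} (hx32 : x32 ≠ 0)
    (h : (X 37 (x37) * (X 32 (x32) * (X 35 (x35) * (X 40 (x40) * (X 46 (x46) * (X 45 (x45) * (X 44 (x44) * (X 47 (x47) * (X 38 (x38) * (X 43 (x43) * (X 36 (x36)))))))))))) * (X 37 (x37) * (X 32 (x32) * (X 35 (x35) * (X 40 (x40) * (X 46 (x46) * (X 45 (x45) * (X 44 (x44) * (X 47 (x47) * (X 38 (x38) * (X 43 (x43) * (X 36 (x36)))))))))))) = 1) :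
    Rch (X 37 (x37) * (X 32 (x32) * (X 35 (x35) * (X 40 (x40) * (X 46 (x46) * (X 45 (x45) * (X 44 (x44) * (X 47 (x47) * (X 38 (x38) * (X 43 (x43) * (X 36 (x36)))))))))))) := by
  obtain ⟨d, hd⟩ : ∃ d : K, (x32) * d = x40 :=
    exists_lin hx32 _
  have hw : (d * x32 + x40) = 0 := by linear_combination hd + (x40) * CharTwo.two_eq_zero (R := K)
  have e : X 34 d * (X 37 (x37) * (X 32 (x32) * (X 35 (x35) * (X 40 (x40) * (X 46 (x46) * (X 45 (x45) * (X 44 (x44) * (X 47 (x47) * (X 38 (x38) * (X 43 (x43) * (X 36 (x36)))))))))))) * (X 34 d)⁻¹ = (X 37 (x37) * (X 32 (x32) * (X 35 (x35) * (X 40 (d * x32 + x40) * (X 46 (x46) * (X 45 (d ^ 2 * x32 + x45) * (X 44 (x44) * (X 47 (x47) * (X 38 (x38) * (X 43 (x43) * (X 36 (x36)))))))))))) := by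
    rw [inv_eq]
    normX
  rw [hw, X_zero] at e
  simp only [one_mul, mul_one] at e
  exact Rch.step (xG_mem_group g₄ 34 d) e h fun h' => n136 hx32 h'

lemma n138 {x37 x32 x35 x40 x46 x39 x45 x44 x47 x38 x43 x36 : K} (hx32 : x32 ≠ 0)
    (h : (X 37 (x37) * (X 32 (x32) * (X 35 (x35) * (X 40 (x40) * (X 46 (x46) * (X 39 (x39) * (X 45 (x45) * (X 44 (x44) * (X 47 (x47) * (X 38 (x38) * (X 43 (x43) * (X 36 (x36))))))))))))) * (X 37 (x37) * (X 32 (x32) * (X 35 (x35) * (X 40 (x40) * (X 46 (x46) * (X 39 (x39) * (X 45 (x45) * (X 44 (x44) * (X 47 (x47) * (X 38 (x38) * (X 43 (x43) * (X 36 (x36))))))))))))) = 1) :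
    Rch (X 37 (x37) * (X 32 (x32) * (X 35 (x35) * (X 40 (x40) * (X 46 (x46) * (X 39 (x39) * (X 45 (x45) * (X 44 (x44) * (X 47 (x47) * (X 38 (x38) * (X 43 (x43) * (X 36 (x36))))))))))))) := by
  obtain ⟨d, hd⟩ : ∃ d : K, (x32) * d = x39 :=
    exists_lin hx32 _
  have hw : (d * x32 + x39) = 0 := by linear_combination hd + (x39) * CharTwo.two_eq_zero (R := K)
  have e : X 33 d * (X 37 (x37) * (X 32 (x32) * (X 35 (x35) * (X 40 (x40) * (X 46 (x46) * (X 39 (x39) * (X 45 (x45) * (X 44 (x44) * (X 47 (x47) * (X 38 (x38) * (X 43 (x43) * (X 36 (x36))))))))))))) * (X 33 d)⁻¹ = (X 37 (x37) * (X 32 (x32) * (X 35 (x35) * (X 40 (x40) * (X 46 (x46) * (X 39 (d * x32 + x39) * (X 45 (x45) * (X 44 (d * x40 + x44) * (X 47 (x47) * (X 38 (x38) * (X 43 (d ^ 2 * x32 + x43) * (X 36 (x36))))))))))))) := by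
    rw [inv_eq]
    normX
  rw [hw, X_zero] at e
  simp only [one_mul, mul_one] at e
  exact Rch.step (xG_mem_group g₄ 33 d) e h fun h' => n137 hx32 h'

lemma n139 {x37 x31 x40 x46 x39 x45 x44 x47 x38 x34 x36 x42 : K} (hx31 : x31 ≠ 0)
    (h : (X 37 (x37) * (X 31 (x31) * (X 40 (x40) * (X 46 (x46) * (X 39 (x39) * (X 45 (x45) * (X 44 (x44) * (X 47 (x47) * (X 38 (x38) * (X 34 (x34) * (X 36 (x36) * (X 42 (x42))))))))))))) * (X 37 (x37) * (X 31 (x31) * (X 40 (x40) * (X 46 (x46) * (X 39 (x39) * (X 45 (x45) * (X 44 (x44) * (X 47 (x47) * (X 38 (x38) * (X 34 (x34) * (X 36 (x36) * (X 42 (x42))))))))))))) = 1) :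
    Rch (X 37 (x37) * (X 31 (x31) * (X 40 (x40) * (X 46 (x46) * (X 39 (x39) * (X 45 (x45) * (X 44 (x44) * (X 47 (x47) * (X 38 (x38) * (X 34 (x34) * (X 36 (x36) * (X 42 (x42))))))))))))) := by
  have e : nS K g₄ 2 * (X 37 (x37) * (X 31 (x31) * (X 40 (x40) * (X 46 (x46) * (X 39 (x39) * (X 45 (x45) * (X 44 (x44) * (X 47 (x47) * (X 38 (x38) * (X 34 (x34) * (X 36 (x36) * (X 42 (x42))))))))))))) * (nS K g₄ 2)⁻¹ = (X 37 (x37) * (X 32 (x31) * (X 35 (x34) * (X 40 (x40) * (X 46 (x45) * (X 39 (x38) * (X 45 (x46) * (X 44 (x34 * x39 + x44) * (X 47 (x47) * (X 38 (x39) * (X 43 (x42) * (X 36 (x36))))))))))))) := by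
    rw [← MulAut.conj_apply]
    simp only [map_mul, conj_s (i := 2) (r := 37) (r' := 37) (by decide +kernel), conj_s (i := 2) (r := 31) (r' := 32) (by decide +kernel), conj_s (i := 2) (r := 40) (r' := 40) (by decide +kernel), conj_s (i := 2) (r := 46) (r' := 45) (by decide +kernel), conj_s (i := 2) (r := 39) (r' := 38) (by decide +kernel), conj_s (i := 2) (r := 45) (r' := 46) (by decide +kernel), conj_s (i := 2) (r := 44) (r' := 44) (by decide +kernel), conj_s (i := 2) (r := 47) (r' := 47) (by decide +kernel), conj_s (i := 2) (r := 38) (r' := 39) (by decide +kernel), conj_s (i := 2) (r := 34) (r' := 35) (by decide +kernel), conj_s (i := 2) (r := 36) (r' := 36) (by decide +kernel), conj_s (i := 2) (r := 42) (r' := 43) (by decide +kernel)]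
    all_goals normX
  exact Rch.step (nS_mem_group (by decide)) e h fun h' => n138 hx31 h'

lemma n140 {x40 x47 : K} (hx40 : x40 ≠ 0) (hx47 : x47 ≠ 0)
    (h : (X 40 (x40) * (X 47 (x47))) * (X 40 (x40) * (X 47 (x47))) = 1) :
    Rch (X 40 (x40) * (X 47 (x47))) := by
  have e : nS K g₄ 0 * (X 40 (x40) * (X 47 (x47))) * (nS K g₄ 0)⁻¹ = (X 44 (x40) * (X 47 (x47))) := by
    rw [← MulAut.conj_apply]
    simp only [map_mul, conj_s (i := 0) (r := 40) (r' := 44) (by decide +kernel), conj_s (i := 0) (r := 47) (r' := 47) (by decide +kernel)]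
    all_goals normX
  exact Rch.step (nS_mem_group (by decide)) e h fun h' => n10 hx40 hx47 h'

lemma n141 {x40 x47 x43 : K} (hx40 : x40 ≠ 0) (hx47 : x47 ≠ 0) (hx43 : x43 ≠ 0)
    (h : (X 40 (x40) * (X 47 (x47) * (X 43 (x43)))) * (X 40 (x40) * (X 47 (x47) * (X 43 (x43)))) = 1) :
    Rch (X 40 (x40) * (X 47 (x47) * (X 43 (x43)))) := by
  obtain ⟨d, hd⟩ : ∃ d : K, (x43) * d = x47 :=
    exists_lin hx43 _
  have hd : d ≠ 0 ∧ (x43) * d = x47 := ⟨fun e => hx47 (by rw [← hd, e]; simp), hd⟩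
  obtain ⟨hd0, hd⟩ := hd
  have hw : (d * x43 + x47) = 0 := by linear_combination hd + (x47) * CharTwo.two_eq_zero (R := K)
  have e : X 31 d * (X 40 (x40) * (X 47 (x47) * (X 43 (x43)))) * (X 31 d)⁻¹ = (X 40 (x40) * (X 47 (d * x43 + x47) * (X 43 (x43)))) := by
    rw [inv_eq]
    normX
  rw [hw, X_zero] at e
  simp only [one_mul, mul_one] at e
  exact Rch.step (xG_mem_group g₄ 31 d) e h fun h' => n28 hx40 hx43 h'

lemma n142 {x40 x47 x43 : K} (hx40 : x40 ≠ 0) (hx47 : x47 ≠ 0)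
    (h : (X 40 (x40) * (X 47 (x47) * (X 43 (x43)))) * (X 40 (x40) * (X 47 (x47) * (X 43 (x43)))) = 1) :
    Rch (X 40 (x40) * (X 47 (x47) * (X 43 (x43)))) := by
  rcases eq_or_ne x43 0 with rfl | hx43
  · simp only [X_zero, one_mul, mul_one] at h ⊢
    exact n140 hx40 hx47 h
  · exact n141 hx40 hx47 hx43 h

lemma n143 {x40 x46 x43 : K} (hx40 : x40 ≠ 0) (hx46 : x46 ≠ 0)
    (h : (X 40 (x40) * (X 46 (x46) * (X 43 (x43)))) * (X 40 (x40) * (X 46 (x46) * (X 43 (x43)))) = 1) :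
    Rch (X 40 (x40) * (X 46 (x46) * (X 43 (x43)))) := by
  have e : nS K g₄ 3 * (X 40 (x40) * (X 46 (x46) * (X 43 (x43)))) * (nS K g₄ 3)⁻¹ = (X 40 (x40) * (X 47 (x46) * (X 43 (x43)))) := by
    rw [← MulAut.conj_apply]
    simp only [map_mul, conj_s (i := 3) (r := 40) (r' := 40) (by decide +kernel), conj_s (i := 3) (r := 46) (r' := 47) (by decide +kernel), conj_s (i := 3) (r := 43) (r' := 43) (by decide +kernel)]
    all_goals normX
  exact Rch.step (nS_mem_group (by decide)) e h fun h' => n142 hx40 hx46 h'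

lemma n144 {x40 x46 x42 : K} (hx40 : x40 ≠ 0) (hx46 : x46 ≠ 0) (hx42 : x42 ≠ 0)
    (h : (X 40 (x40) * (X 46 (x46) * (X 42 (x42)))) * (X 40 (x40) * (X 46 (x46) * (X 42 (x42)))) = 1) :
    Rch (X 40 (x40) * (X 46 (x46) * (X 42 (x42)))) := by
  have e : nS K g₄ 2 * (X 40 (x40) * (X 46 (x46) * (X 42 (x42)))) * (nS K g₄ 2)⁻¹ = (X 40 (x40) * (X 45 (x46) * (X 43 (x42)))) := by
    rw [← MulAut.conj_apply]
    simp only [map_mul, conj_s (i := 2) (r := 40) (r' := 40) (by decide +kernel), conj_s (i := 2) (r := 46) (r' := 45) (by decide +kernel), conj_s (i := 2) (r := 42) (r' := 43) (by decide +kernel)]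
    all_goals normX
  exact Rch.step (nS_mem_group (by decide)) e h fun h' => n29 hx40 hx46 hx42 h'

lemma n145 {x40 x46 x43 x42 : K} (hx40 : x40 ≠ 0) (hx46 : x46 ≠ 0) (hx42 : x42 ≠ 0)
    (h : (X 40 (x40) * (X 46 (x46) * (X 43 (x43) * (X 42 (x42))))) * (X 40 (x40) * (X 46 (x46) * (X 43 (x43) * (X 42 (x42))))) = 1) :
    Rch (X 40 (x40) * (X 46 (x46) * (X 43 (x43) * (X 42 (x42))))) := by
  obtain ⟨d, hd⟩ : ∃ d : K, (x42) * d = x43 :=
    exists_lin hx42 _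
  have hw : (d * x42 + x43) = 0 := by linear_combination hd + (x43) * CharTwo.two_eq_zero (R := K)
  have e : X 25 d * (X 40 (x40) * (X 46 (x46) * (X 43 (x43) * (X 42 (x42))))) * (X 25 d)⁻¹ = (X 40 (x40) * (X 46 (x46) * (X 43 (d * x42 + x43) * (X 42 (x42))))) := by
    rw [inv_eq]
    normX
  rw [hw, X_zero] at e
  simp only [one_mul, mul_one] at e
  exact Rch.step (xG_mem_group g₄ 25 d) e h fun h' => n144 hx40 hx46 hx42 h'

lemma n146 {x40 x46 x43 x42 : K} (hx40 : x40 ≠ 0) (hx46 : x46 ≠ 0)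
    (h : (X 40 (x40) * (X 46 (x46) * (X 43 (x43) * (X 42 (x42))))) * (X 40 (x40) * (X 46 (x46) * (X 43 (x43) * (X 42 (x42))))) = 1) :
    Rch (X 40 (x40) * (X 46 (x46) * (X 43 (x43) * (X 42 (x42))))) := by
  rcases eq_or_ne x42 0 with rfl | hx42
  · simp only [X_zero, one_mul, mul_one] at h ⊢
    exact n143 hx40 hx46 h
  · exact n145 hx40 hx46 hx42 h

lemma n147_1 {x46 x39 x45 x42 : K} (hx46 : x46 ≠ 0) (hx39 : x39 ≠ 0)
    (h : (X 46 (x46) * (X 39 (x39) * (X 45 (x45) * (X 42 (x42))))) * (X 46 (x46) * (X 39 (x39) * (X 45 (x45) * (X 42 (x42))))) = 1) :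
    Rch (X 46 (x46) * (X 39 (x39) * (X 45 (x45) * (X 42 (x42))))) := by
  have e : nS K g₄ 1 * (X 46 (x46) * (X 39 (x39) * (X 45 (x45) * (X 42 (x42))))) * (nS K g₄ 1)⁻¹ = (X 40 (x39) * (X 46 (x46) * (X 43 (x45) * (X 42 (x42))))) := by
    rw [← MulAut.conj_apply]
    simp only [map_mul, conj_s (i := 1) (r := 46) (r' := 46) (by decide +kernel), conj_s (i := 1) (r := 39) (r' := 40) (by decide +kernel), conj_s (i := 1) (r := 45) (r' := 43) (by decide +kernel), conj_s (i := 1) (r := 42) (r' := 42) (by decide +kernel)]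
    all_goals normX
  exact Rch.step (nS_mem_group (by decide)) e h fun h' => n146 hx39 hx46 h'

lemma n147 {x46 x45 x38 x43 : K} (hx45 : x45 ≠ 0) (hx38 : x38 ≠ 0)
    (h : (X 46 (x46) * (X 45 (x45) * (X 38 (x38) * (X 43 (x43))))) * (X 46 (x46) * (X 45 (x45) * (X 38 (x38) * (X 43 (x43))))) = 1) :
    Rch (X 46 (x46) * (X 45 (x45) * (X 38 (x38) * (X 43 (x43))))) := by
  have e : nS K g₄ 2 * (X 46 (x46) * (X 45 (x45) * (X 38 (x38) * (X 43 (x43))))) * (nS K g₄ 2)⁻¹ = (X 46 (x45) * (X 39 (x38) * (X 45 (x46) * (X 42 (x43))))) := by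
    rw [← MulAut.conj_apply]
    simp only [map_mul, conj_s (i := 2) (r := 46) (r' := 45) (by decide +kernel), conj_s (i := 2) (r := 45) (r' := 46) (by decide +kernel), conj_s (i := 2) (r := 38) (r' := 39) (by decide +kernel), conj_s (i := 2) (r := 43) (r' := 42) (by decide +kernel)]
    all_goals normX
  exact Rch.step (nS_mem_group (by decide)) e h fun h' => n147_1 hx45 hx38 h'

lemma n148_3 {x40 x46 x42 : K} (hx40 : x40 ≠ 0) (hx46 : x46 ≠ 0) (hx42 : x42 ≠ 0)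
    (h : (X 40 (x40) * (X 46 (x46) * (X 42 (x42)))) * (X 40 (x40) * (X 46 (x46) * (X 42 (x42)))) = 1) :
    Rch (X 40 (x40) * (X 46 (x46) * (X 42 (x42)))) := by
  have e : nS K g₄ 2 * (X 40 (x40) * (X 46 (x46) * (X 42 (x42)))) * (nS K g₄ 2)⁻¹ = (X 40 (x40) * (X 45 (x46) * (X 43 (x42)))) := by
    rw [← MulAut.conj_apply]
    simp only [map_mul, conj_s (i := 2) (r := 40) (r' := 40) (by decide +kernel), conj_s (i := 2) (r := 46) (r' := 45) (by decide +kernel), conj_s (i := 2) (r := 42) (r' := 43) (by decide +kernel)]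
    all_goals normX
  exact Rch.step (nS_mem_group (by decide)) e h fun h' => n29 hx40 hx46 hx42 h'

lemma n148_2 {x46 x39 x42 : K} (hx46 : x46 ≠ 0) (hx39 : x39 ≠ 0) (hx42 : x42 ≠ 0)
    (h : (X 46 (x46) * (X 39 (x39) * (X 42 (x42)))) * (X 46 (x46) * (X 39 (x39) * (X 42 (x42)))) = 1) :
    Rch (X 46 (x46) * (X 39 (x39) * (X 42 (x42)))) := by
  have e : nS K g₄ 1 * (X 46 (x46) * (X 39 (x39) * (X 42 (x42)))) * (nS K g₄ 1)⁻¹ = (X 40 (x39) * (X 46 (x46) * (X 42 (x42)))) := by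
    rw [← MulAut.conj_apply]
    simp only [map_mul, conj_s (i := 1) (r := 46) (r' := 46) (by decide +kernel), conj_s (i := 1) (r := 39) (r' := 40) (by decide +kernel), conj_s (i := 1) (r := 42) (r' := 42) (by decide +kernel)]
    all_goals normX
  exact Rch.step (nS_mem_group (by decide)) e h fun h' => n148_3 hx39 hx46 hx42 h'

lemma n148_1 {x45 x38 x43 : K} (hx45 : x45 ≠ 0) (hx38 : x38 ≠ 0) (hx43 : x43 ≠ 0)
    (h : (X 45 (x45) * (X 38 (x38) * (X 43 (x43)))) * (X 45 (x45) * (X 38 (x38) * (X 43 (x43)))) = 1) :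
    Rch (X 45 (x45) * (X 38 (x38) * (X 43 (x43)))) := by
  have e : nS K g₄ 2 * (X 45 (x45) * (X 38 (x38) * (X 43 (x43)))) * (nS K g₄ 2)⁻¹ = (X 46 (x45) * (X 39 (x38) * (X 42 (x43)))) := by
    rw [← MulAut.conj_apply]
    simp only [map_mul, conj_s (i := 2) (r := 45) (r' := 46) (by decide +kernel), conj_s (i := 2) (r := 38) (r' := 39) (by decide +kernel), conj_s (i := 2) (r := 43) (r' := 42) (by decide +kernel)]
    all_goals normX
  exact Rch.step (nS_mem_group (by decide)) e h fun h' => n148_2 hx45 hx38 hx43 h'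

lemma n148 {x32 x45 x38 : K} (hx32 : x32 ≠ 0) (hx45 : x45 ≠ 0) (hx38 : x38 ≠ 0)
    (h : (X 32 (x32) * (X 45 (x45) * (X 38 (x38)))) * (X 32 (x32) * (X 45 (x45) * (X 38 (x38)))) = 1) :
    Rch (X 32 (x32) * (X 45 (x45) * (X 38 (x38)))) := by
  have e : nS K g₄ 0 * (X 32 (x32) * (X 45 (x45) * (X 38 (x38)))) * (nS K g₄ 0)⁻¹ = (X 45 (x45) * (X 38 (x38) * (X 43 (x32)))) := by
    rw [← MulAut.conj_apply]
    simp only [map_mul, conj_s (i := 0) (r := 32) (r' := 43) (by decide +kernel), conj_s (i := 0) (r := 45) (r' := 45) (by decide +kernel), conj_s (i := 0) (r := 38) (r' := 38) (by decide +kernel)]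
    all_goals normX
  exact Rch.step (nS_mem_group (by decide)) e h fun h' => n148_1 hx45 hx38 hx32 h'

lemma n149 {x32 x45 x38 x43 : K} (hx32 : x32 ≠ 0) (hx45 : x45 ≠ 0) (hx38 : x38 ≠ 0)
    (h : (X 32 (x32) * (X 45 (x45) * (X 38 (x38) * (X 43 (x43))))) * (X 32 (x32) * (X 45 (x45) * (X 38 (x38) * (X 43 (x43))))) = 1) :
    Rch (X 32 (x32) * (X 45 (x45) * (X 38 (x38) * (X 43 (x43))))) := by
  rcases eq_or_ne x43 0 with rfl | hx43
  · simp only [X_zero, one_mul, mul_one] at h ⊢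
    exact n148 hx32 hx45 hx38 h
  · exact n119 hx32 hx45 hx38 hx43 h

lemma n150 {x32 x46 x45 x38 x43 : K} (hx32 : x32 ≠ 0) (hx45 : x45 ≠ 0) (hx38 : x38 ≠ 0)
    (h : (X 32 (x32) * (X 46 (x46) * (X 45 (x45) * (X 38 (x38) * (X 43 (x43)))))) * (X 32 (x32) * (X 46 (x46) * (X 45 (x45) * (X 38 (x38) * (X 43 (x43)))))) = 1) :
    Rch (X 32 (x32) * (X 46 (x46) * (X 45 (x45) * (X 38 (x38) * (X 43 (x43)))))) := by
  obtain ⟨d, hd⟩ : ∃ d : K, (x32) * d = x46 :=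
    exists_lin hx32 _
  have hw : (d * x32 + x46) = 0 := by linear_combination hd + (x46) * CharTwo.two_eq_zero (R := K)
  have e : X 41 d * (X 32 (x32) * (X 46 (x46) * (X 45 (x45) * (X 38 (x38) * (X 43 (x43)))))) * (X 41 d)⁻¹ = (X 32 (x32) * (X 46 (d * x32 + x46) * (X 45 (x45) * (X 38 (x38) * (X 43 (x43)))))) := by
    rw [inv_eq]
    normX
  rw [hw, X_zero] at e
  simp only [one_mul, mul_one] at e
  exact Rch.step (xG_mem_group g₄ 41 d) e h fun h' => n149 hx32 hx45 hx38 h'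

lemma n151 {x32 x46 x45 x38 x43 : K} (hx45 : x45 ≠ 0) (hx38 : x38 ≠ 0)
    (h : (X 32 (x32) * (X 46 (x46) * (X 45 (x45) * (X 38 (x38) * (X 43 (x43)))))) * (X 32 (x32) * (X 46 (x46) * (X 45 (x45) * (X 38 (x38) * (X 43 (x43)))))) = 1) :
    Rch (X 32 (x32) * (X 46 (x46) * (X 45 (x45) * (X 38 (x38) * (X 43 (x43)))))) := by
  rcases eq_or_ne x32 0 with rfl | hx32
  · simp only [X_zero, one_mul, mul_one] at h ⊢
    exact n147 hx45 hx38 h
  · exact n150 hx32 hx45 hx38 h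

lemma n152 {x32 x46 x45 x47 x38 x43 : K} (hx45 : x45 ≠ 0) (hx38 : x38 ≠ 0)
    (h : (X 32 (x32) * (X 46 (x46) * (X 45 (x45) * (X 47 (x47) * (X 38 (x38) * (X 43 (x43))))))) * (X 32 (x32) * (X 46 (x46) * (X 45 (x45) * (X 47 (x47) * (X 38 (x38) * (X 43 (x43))))))) = 1) :
    Rch (X 32 (x32) * (X 46 (x46) * (X 45 (x45) * (X 47 (x47) * (X 38 (x38) * (X 43 (x43))))))) := by
  obtain ⟨d, hd⟩ : ∃ d : K, (x45) * d = x47 :=
    exists_lin hx45 _
  have hw : (d * x45 + x47) = 0 := by linear_combination hd + (x47) * CharTwo.two_eq_zero (R := K)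
  have e : X 26 d * (X 32 (x32) * (X 46 (x46) * (X 45 (x45) * (X 47 (x47) * (X 38 (x38) * (X 43 (x43))))))) * (X 26 d)⁻¹ = (X 32 (x32) * (X 46 (x46) * (X 45 (x45) * (X 47 (d * x45 + x47) * (X 38 (x38) * (X 43 (x43))))))) := by
    rw [inv_eq]
    normX
  rw [hw, X_zero] at e
  simp only [one_mul, mul_one] at e
  exact Rch.step (xG_mem_group g₄ 26 d) e h fun h' => n151 hx45 hx38 h'

lemma n153 {x32 x46 x45 x44 x47 x38 x43 : K} (hx45 : x45 ≠ 0) (hx38 : x38 ≠ 0)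
    (h : (X 32 (x32) * (X 46 (x46) * (X 45 (x45) * (X 44 (x44) * (X 47 (x47) * (X 38 (x38) * (X 43 (x43)))))))) * (X 32 (x32) * (X 46 (x46) * (X 45 (x45) * (X 44 (x44) * (X 47 (x47) * (X 38 (x38) * (X 43 (x43)))))))) = 1) :
    Rch (X 32 (x32) * (X 46 (x46) * (X 45 (x45) * (X 44 (x44) * (X 47 (x47) * (X 38 (x38) * (X 43 (x43)))))))) := by
  obtain ⟨d, hd⟩ : ∃ d : K, (x38) * d = x44 :=
    exists_lin hx38 _
  have hw : (d * x38 + x44) = 0 := by linear_combination hd + (x44) * CharTwo.two_eq_zero (R := K)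
  have e : X 35 d * (X 32 (x32) * (X 46 (x46) * (X 45 (x45) * (X 44 (x44) * (X 47 (x47) * (X 38 (x38) * (X 43 (x43)))))))) * (X 35 d)⁻¹ = (X 32 (x32) * (X 46 (x46) * (X 45 (x45) * (X 44 (d * x38 + x44) * (X 47 (x47) * (X 38 (x38) * (X 43 (x43)))))))) := by
    rw [inv_eq]
    normX
  rw [hw, X_zero] at e
  simp only [one_mul, mul_one] at e
  exact Rch.step (xG_mem_group g₄ 35 d) e h fun h' => n152 hx45 hx38 h'

lemma n154 {x32 x40 x46 x45 x44 x47 x38 x43 : K} (hx45 : x45 ≠ 0) (hx38 : x38 ≠ 0)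
    (h : (X 32 (x32) * (X 40 (x40) * (X 46 (x46) * (X 45 (x45) * (X 44 (x44) * (X 47 (x47) * (X 38 (x38) * (X 43 (x43))))))))) * (X 32 (x32) * (X 40 (x40) * (X 46 (x46) * (X 45 (x45) * (X 44 (x44) * (X 47 (x47) * (X 38 (x38) * (X 43 (x43))))))))) = 1) :
    Rch (X 32 (x32) * (X 40 (x40) * (X 46 (x46) * (X 45 (x45) * (X 44 (x44) * (X 47 (x47) * (X 38 (x38) * (X 43 (x43))))))))) := by
  obtain ⟨d, hd⟩ : ∃ d : K, (x38) * d = x40 :=
    exists_lin hx38 _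
  have hw : (d * x38 + x40) = 0 := by linear_combination hd + (x40) * CharTwo.two_eq_zero (R := K)
  have e : X 28 d * (X 32 (x32) * (X 40 (x40) * (X 46 (x46) * (X 45 (x45) * (X 44 (x44) * (X 47 (x47) * (X 38 (x38) * (X 43 (x43))))))))) * (X 28 d)⁻¹ = (X 32 (x32) * (X 40 (d * x38 + x40) * (X 46 (x46) * (X 45 (x45) * (X 44 (x44) * (X 47 (x47) * (X 38 (x38) * (X 43 (x43))))))))) := by
    rw [inv_eq]
    normX
  rw [hw, X_zero] at e
  simp only [one_mul, mul_one] at e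
  exact Rch.step (xG_mem_group g₄ 28 d) e h fun h' => n153 hx45 hx38 h'

lemma n155 {x32 x40 x46 x39 x45 x44 x47 x38 x43 : K} (hx45 : x45 ≠ 0) (hx38 : x38 ≠ 0)
    (h : (X 32 (x32) * (X 40 (x40) * (X 46 (x46) * (X 39 (x39) * (X 45 (x45) * (X 44 (x44) * (X 47 (x47) * (X 38 (x38) * (X 43 (x43)))))))))) * (X 32 (x32) * (X 40 (x40) * (X 46 (x46) * (X 39 (x39) * (X 45 (x45) * (X 44 (x44) * (X 47 (x47) * (X 38 (x38) * (X 43 (x43)))))))))) = 1) :
    Rch (X 32 (x32) * (X 40 (x40) * (X 46 (x46) * (X 39 (x39) * (X 45 (x45) * (X 44 (x44) * (X 47 (x47) * (X 38 (x38) * (X 43 (x43)))))))))) := by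
  obtain ⟨d, hd⟩ : ∃ d : K, (x38) * d = x39 :=
    exists_lin hx38 _
  have hw : (d * x38 + x39) = 0 := by linear_combination hd + (x39) * CharTwo.two_eq_zero (R := K)
  have e : X 25 d * (X 32 (x32) * (X 40 (x40) * (X 46 (x46) * (X 39 (x39) * (X 45 (x45) * (X 44 (x44) * (X 47 (x47) * (X 38 (x38) * (X 43 (x43)))))))))) * (X 25 d)⁻¹ = (X 32 (x32) * (X 40 (x40) * (X 46 (d * x45 + x46) * (X 39 (d * x38 + x39) * (X 45 (x45) * (X 44 (x44) * (X 47 (d * x38 ^ 2 + x47) * (X 38 (x38) * (X 43 (x43)))))))))) := by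
    rw [inv_eq]
    normX
  rw [hw, X_zero] at e
  simp only [one_mul, mul_one] at e
  exact Rch.step (xG_mem_group g₄ 25 d) e h fun h' => n154 hx45 hx38 h'

lemma n156 {x32 x40 x46 x39 x45 x44 x47 x43 x36 : K} (hx43 : x43 ≠ 0) (hx36 : x36 ≠ 0)
    (h : (X 32 (x32) * (X 40 (x40) * (X 46 (x46) * (X 39 (x39) * (X 45 (x45) * (X 44 (x44) * (X 47 (x47) * (X 43 (x43) * (X 36 (x36)))))))))) * (X 32 (x32) * (X 40 (x40) * (X 46 (x46) * (X 39 (x39) * (X 45 (x45) * (X 44 (x44) * (X 47 (x47) * (X 43 (x43) * (X 36 (x36)))))))))) = 1) :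
    Rch (X 32 (x32) * (X 40 (x40) * (X 46 (x46) * (X 39 (x39) * (X 45 (x45) * (X 44 (x44) * (X 47 (x47) * (X 43 (x43) * (X 36 (x36)))))))))) := by
  have e : nS K g₄ 1 * (X 32 (x32) * (X 40 (x40) * (X 46 (x46) * (X 39 (x39) * (X 45 (x45) * (X 44 (x44) * (X 47 (x47) * (X 43 (x43) * (X 36 (x36)))))))))) * (nS K g₄ 1)⁻¹ = (X 32 (x32) * (X 40 (x39) * (X 46 (x46) * (X 39 (x40) * (X 45 (x43) * (X 44 (x44) * (X 47 (x47) * (X 38 (x36) * (X 43 (x45)))))))))) := by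
    rw [← MulAut.conj_apply]
    simp only [map_mul, conj_s (i := 1) (r := 32) (r' := 32) (by decide +kernel), conj_s (i := 1) (r := 40) (r' := 39) (by decide +kernel), conj_s (i := 1) (r := 46) (r' := 46) (by decide +kernel), conj_s (i := 1) (r := 39) (r' := 40) (by decide +kernel), conj_s (i := 1) (r := 45) (r' := 43) (by decide +kernel), conj_s (i := 1) (r := 44) (r' := 44) (by decide +kernel), conj_s (i := 1) (r := 47) (r' := 47) (by decide +kernel), conj_s (i := 1) (r := 43) (r' := 45) (by decide +kernel), conj_s (i := 1) (r := 36) (r' := 38) (by decide +kernel)]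
    all_goals normX
  exact Rch.step (nS_mem_group (by decide)) e h fun h' => n155 hx43 hx36 h'

lemma n157 {x32 x40 x46 x39 x45 x44 x47 x38 x43 x36 : K} (hx43 : x43 ≠ 0) (hx36 : x36 ≠ 0)
    (h : (X 32 (x32) * (X 40 (x40) * (X 46 (x46) * (X 39 (x39) * (X 45 (x45) * (X 44 (x44) * (X 47 (x47) * (X 38 (x38) * (X 43 (x43) * (X 36 (x36))))))))))) * (X 32 (x32) * (X 40 (x40) * (X 46 (x46) * (X 39 (x39) * (X 45 (x45) * (X 44 (x44) * (X 47 (x47) * (X 38 (x38) * (X 43 (x43) * (X 36 (x36))))))))))) = 1) :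
    Rch (X 32 (x32) * (X 40 (x40) * (X 46 (x46) * (X 39 (x39) * (X 45 (x45) * (X 44 (x44) * (X 47 (x47) * (X 38 (x38) * (X 43 (x43) * (X 36 (x36))))))))))) := by
  obtain ⟨d, hd⟩ : ∃ d : K, (x36) * d = x38 :=
    exists_lin hx36 _
  have hw : (d * x36 + x38) = 0 := by linear_combination hd + (x38) * CharTwo.two_eq_zero (R := K)
  have e : X 27 d * (X 32 (x32) * (X 40 (x40) * (X 46 (x46) * (X 39 (x39) * (X 45 (x45) * (X 44 (x44) * (X 47 (x47) * (X 38 (x38) * (X 43 (x43) * (X 36 (x36))))))))))) * (X 27 d)⁻¹ = (X 32 (x32) * (X 40 (d * x39 + x40) * (X 46 (x46) * (X 39 (x39) * (X 45 (d ^ 2 * x43 + x45) * (X 44 (d * x43 + x44) * (X 47 (x47) * (X 38 (d * x36 + x38) * (X 43 (x43) * (X 36 (x36))))))))))) := by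
    rw [inv_eq]
    normX
  rw [hw, X_zero] at e
  simp only [one_mul, mul_one] at e
  exact Rch.step (xG_mem_group g₄ 27 d) e h fun h' => n156 hx43 hx36 h'

lemma n158 {x32 x40 x46 x39 x45 x29 x44 x47 x38 x43 : K} (hx32 : x32 ≠ 0) (hx29 : x29 ≠ 0)
    (h : (X 32 (x32) * (X 40 (x40) * (X 46 (x46) * (X 39 (x39) * (X 45 (x45) * (X 29 (x29) * (X 44 (x44) * (X 47 (x47) * (X 38 (x38) * (X 43 (x43))))))))))) * (X 32 (x32) * (X 40 (x40) * (X 46 (x46) * (X 39 (x39) * (X 45 (x45) * (X 29 (x29) * (X 44 (x44) * (X 47 (x47) * (X 38 (x38) * (X 43 (x43))))))))))) = 1) :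
    Rch (X 32 (x32) * (X 40 (x40) * (X 46 (x46) * (X 39 (x39) * (X 45 (x45) * (X 29 (x29) * (X 44 (x44) * (X 47 (x47) * (X 38 (x38) * (X 43 (x43))))))))))) := by
  have e : nS K g₄ 0 * (X 32 (x32) * (X 40 (x40) * (X 46 (x46) * (X 39 (x39) * (X 45 (x45) * (X 29 (x29) * (X 44 (x44) * (X 47 (x47) * (X 38 (x38) * (X 43 (x43))))))))))) * (nS K g₄ 0)⁻¹ = (X 32 (x43) * (X 40 (x44) * (X 46 (x46) * (X 39 (x39) * (X 45 (x45) * (X 44 (x40) * (X 47 (x47) * (X 38 (x38) * (X 43 (x32) * (X 36 (x29))))))))))) := by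
    rw [← MulAut.conj_apply]
    simp only [map_mul, conj_s (i := 0) (r := 32) (r' := 43) (by decide +kernel), conj_s (i := 0) (r := 40) (r' := 44) (by decide +kernel), conj_s (i := 0) (r := 46) (r' := 46) (by decide +kernel), conj_s (i := 0) (r := 39) (r' := 39) (by decide +kernel), conj_s (i := 0) (r := 45) (r' := 45) (by decide +kernel), conj_s (i := 0) (r := 29) (r' := 36) (by decide +kernel), conj_s (i := 0) (r := 44) (r' := 40) (by decide +kernel), conj_s (i := 0) (r := 47) (r' := 47) (by decide +kernel), conj_s (i := 0) (r := 38) (r' := 38) (by decide +kernel), conj_s (i := 0) (r := 43) (r' := 32) (by decide +kernel)]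
    all_goals normX
  exact Rch.step (nS_mem_group (by decide)) e h fun h' => n157 hx32 hx29 h'

lemma n159 {x32 x40 x46 x39 x45 x29 x44 x47 x38 x43 x36 : K} (hx32 : x32 ≠ 0) (hx29 : x29 ≠ 0)
    (h : (X 32 (x32) * (X 40 (x40) * (X 46 (x46) * (X 39 (x39) * (X 45 (x45) * (X 29 (x29) * (X 44 (x44) * (X 47 (x47) * (X 38 (x38) * (X 43 (x43) * (X 36 (x36)))))))))))) * (X 32 (x32) * (X 40 (x40) * (X 46 (x46) * (X 39 (x39) * (X 45 (x45) * (X 29 (x29) * (X 44 (x44) * (X 47 (x47) * (X 38 (x38) * (X 43 (x43) * (X 36 (x36)))))))))))) = 1) :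
    Rch (X 32 (x32) * (X 40 (x40) * (X 46 (x46) * (X 39 (x39) * (X 45 (x45) * (X 29 (x29) * (X 44 (x44) * (X 47 (x47) * (X 38 (x38) * (X 43 (x43) * (X 36 (x36)))))))))))) := by
  obtain ⟨d, hd⟩ : ∃ d : K, (x29) * d = x36 :=
    exists_lin hx29 _
  have hw : (d * x29 + x36) = 0 := by linear_combination hd + (x36) * CharTwo.two_eq_zero (R := K)
  have e : X 33 d * (X 32 (x32) * (X 40 (x40) * (X 46 (x46) * (X 39 (x39) * (X 45 (x45) * (X 29 (x29) * (X 44 (x44) * (X 47 (x47) * (X 38 (x38) * (X 43 (x43) * (X 36 (x36)))))))))))) * (X 33 d)⁻¹ = (X 32 (x32) * (X 40 (x40) * (X 46 (x46) * (X 39 (d * x32 + x39) * (X 45 (x45) * (X 29 (x29) * (X 44 (d * x40 + x44) * (X 47 (x47) * (X 38 (x38) * (X 43 (d ^ 2 * x32 + x43) * (X 36 (d * x29 + x36)))))))))))) := by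
    rw [inv_eq]
    normX
  rw [hw, X_zero] at e
  simp only [one_mul, mul_one] at e
  exact Rch.step (xG_mem_group g₄ 33 d) e h fun h' => n158 hx32 hx29 h'

lemma n160 {x31 x40 x46 x39 x45 x29 x44 x47 x38 x36 x42 : K} (hx31 : x31 ≠ 0) (hx29 : x29 ≠ 0)
    (h : (X 31 (x31) * (X 40 (x40) * (X 46 (x46) * (X 39 (x39) * (X 45 (x45) * (X 29 (x29) * (X 44 (x44) * (X 47 (x47) * (X 38 (x38) * (X 36 (x36) * (X 42 (x42)))))))))))) * (X 31 (x31) * (X 40 (x40) * (X 46 (x46) * (X 39 (x39) * (X 45 (x45) * (X 29 (x29) * (X 44 (x44) * (X 47 (x47) * (X 38 (x38) * (X 36 (x36) * (X 42 (x42)))))))))))) = 1) :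
    Rch (X 31 (x31) * (X 40 (x40) * (X 46 (x46) * (X 39 (x39) * (X 45 (x45) * (X 29 (x29) * (X 44 (x44) * (X 47 (x47) * (X 38 (x38) * (X 36 (x36) * (X 42 (x42)))))))))))) := by
  have e : nS K g₄ 2 * (X 31 (x31) * (X 40 (x40) * (X 46 (x46) * (X 39 (x39) * (X 45 (x45) * (X 29 (x29) * (X 44 (x44) * (X 47 (x47) * (X 38 (x38) * (X 36 (x36) * (X 42 (x42)))))))))))) * (nS K g₄ 2)⁻¹ = (X 32 (x31) * (X 40 (x40) * (X 46 (x45) * (X 39 (x38) * (X 45 (x46) * (X 29 (x29) * (X 44 (x44) * (X 47 (x47) * (X 38 (x39) * (X 43 (x42) * (X 36 (x36)))))))))))) := by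
    rw [← MulAut.conj_apply]
    simp only [map_mul, conj_s (i := 2) (r := 31) (r' := 32) (by decide +kernel), conj_s (i := 2) (r := 40) (r' := 40) (by decide +kernel), conj_s (i := 2) (r := 46) (r' := 45) (by decide +kernel), conj_s (i := 2) (r := 39) (r' := 38) (by decide +kernel), conj_s (i := 2) (r := 45) (r' := 46) (by decide +kernel), conj_s (i := 2) (r := 29) (r' := 29) (by decide +kernel), conj_s (i := 2) (r := 44) (r' := 44) (by decide +kernel), conj_s (i := 2) (r := 47) (r' := 47) (by decide +kernel), conj_s (i := 2) (r := 38) (r' := 39) (by decide +kernel), conj_s (i := 2) (r := 36) (r' := 36) (by decide +kernel), conj_s (i := 2) (r := 42) (r' := 43) (by decide +kernel)]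
    all_goals normX
  exact Rch.step (nS_mem_group (by decide)) e h fun h' => n159 hx31 hx29 h'

lemma n161 {x37 x31 x40 x46 x39 x45 x29 x44 x47 x38 x34 x36 x42 : K} (hx31 : x31 ≠ 0) (hx29 : x29 ≠ 0)
    (h : (X 37 (x37) * (X 31 (x31) * (X 40 (x40) * (X 46 (x46) * (X 39 (x39) * (X 45 (x45) * (X 29 (x29) * (X 44 (x44) * (X 47 (x47) * (X 38 (x38) * (X 34 (x34) * (X 36 (x36) * (X 42 (x42)))))))))))))) * (X 37 (x37) * (X 31 (x31) * (X 40 (x40) * (X 46 (x46) * (X 39 (x39) * (X 45 (x45) * (X 29 (x29) * (X 44 (x44) * (X 47 (x47) * (X 38 (x38) * (X 34 (x34) * (X 36 (x36) * (X 42 (x42)))))))))))))) = 1) :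
    Rch (X 37 (x37) * (X 31 (x31) * (X 40 (x40) * (X 46 (x46) * (X 39 (x39) * (X 45 (x45) * (X 29 (x29) * (X 44 (x44) * (X 47 (x47) * (X 38 (x38) * (X 34 (x34) * (X 36 (x36) * (X 42 (x42)))))))))))))) := by
  have e : (X 37 (x37) * (X 31 (x31) * (X 40 (x40) * (X 46 (x46) * (X 39 (x39) * (X 45 (x45) * (X 29 (x29) * (X 44 (x44) * (X 47 (x47) * (X 38 (x38) * (X 34 (x34) * (X 36 (x36) * (X 42 (x42)))))))))))))) * (X 37 (x37) * (X 31 (x31) * (X 40 (x40) * (X 46 (x46) * (X 39 (x39) * (X 45 (x45) * (X 29 (x29) * (X 44 (x44) * (X 47 (x47) * (X 38 (x38) * (X 34 (x34) * (X 36 (x36) * (X 42 (x42)))))))))))))) = Z (0, 0) (0, 0) (0, 0) (0, 0) (x29 * x37, 0) (0, 0) (0, 0) (x34 * x39 + x36 * x37, 0) (x29 * x34, 0) (0, 0) (0, 0) (0, 0) := by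
    unfold Z
    normX
  have e' := Z_inj (e.symm.trans (h.trans one_Z))
  obtain ⟨-, -, -, -, e4, -, -, -, e8, -, -, -⟩ := e'
  have z37 : x37 = 0 := zero_of (congrArg Prod.fst e4) fun hx37 =>
    (mul_ne_zero hx29 hx37)
  have z34 : x34 = 0 := zero_of (congrArg Prod.fst e8) fun hx34 =>
    (mul_ne_zero hx29 hx34)
  subst z37 z34
  simp only [X_zero, one_mul, mul_one] at h ⊢
  exact n160 hx31 hx29 h

lemma n162 {x37 x31 x40 x46 x39 x45 x29 x44 x47 x38 x34 x36 x42 : K} (hx31 : x31 ≠ 0)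
    (h : (X 37 (x37) * (X 31 (x31) * (X 40 (x40) * (X 46 (x46) * (X 39 (x39) * (X 45 (x45) * (X 29 (x29) * (X 44 (x44) * (X 47 (x47) * (X 38 (x38) * (X 34 (x34) * (X 36 (x36) * (X 42 (x42)))))))))))))) * (X 37 (x37) * (X 31 (x31) * (X 40 (x40) * (X 46 (x46) * (X 39 (x39) * (X 45 (x45) * (X 29 (x29) * (X 44 (x44) * (X 47 (x47) * (X 38 (x38) * (X 34 (x34) * (X 36 (x36) * (X 42 (x42)))))))))))))) = 1) :
    Rch (X 37 (x37) * (X 31 (x31) * (X 40 (x40) * (X 46 (x46) * (X 39 (x39) * (X 45 (x45) * (X 29 (x29) * (X 44 (x44) * (X 47 (x47) * (X 38 (x38) * (X 34 (x34) * (X 36 (x36) * (X 42 (x42)))))))))))))) := by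
  rcases eq_or_ne x29 0 with rfl | hx29
  · simp only [X_zero, one_mul, mul_one] at h ⊢
    exact n139 hx31 h
  · exact n161 hx31 hx29 h

lemma n163 {x37 x31 x40 x46 x39 x45 x29 x44 x47 x38 x43 x34 x36 x42 : K} (hx31 : x31 ≠ 0)
    (h : (X 37 (x37) * (X 31 (x31) * (X 40 (x40) * (X 46 (x46) * (X 39 (x39) * (X 45 (x45) * (X 29 (x29) * (X 44 (x44) * (X 47 (x47) * (X 38 (x38) * (X 43 (x43) * (X 34 (x34) * (X 36 (x36) * (X 42 (x42))))))))))))))) * (X 37 (x37) * (X 31 (x31) * (X 40 (x40) * (X 46 (x46) * (X 39 (x39) * (X 45 (x45) * (X 29 (x29) * (X 44 (x44) * (X 47 (x47) * (X 38 (x38) * (X 43 (x43) * (X 34 (x34) * (X 36 (x36) * (X 42 (x42))))))))))))))) = 1) :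
    Rch (X 37 (x37) * (X 31 (x31) * (X 40 (x40) * (X 46 (x46) * (X 39 (x39) * (X 45 (x45) * (X 29 (x29) * (X 44 (x44) * (X 47 (x47) * (X 38 (x38) * (X 43 (x43) * (X 34 (x34) * (X 36 (x36) * (X 42 (x42))))))))))))))) := by
  have e : (X 37 (x37) * (X 31 (x31) * (X 40 (x40) * (X 46 (x46) * (X 39 (x39) * (X 45 (x45) * (X 29 (x29) * (X 44 (x44) * (X 47 (x47) * (X 38 (x38) * (X 43 (x43) * (X 34 (x34) * (X 36 (x36) * (X 42 (x42))))))))))))))) * (X 37 (x37) * (X 31 (x31) * (X 40 (x40) * (X 46 (x46) * (X 39 (x39) * (X 45 (x45) * (X 29 (x29) * (X 44 (x44) * (X 47 (x47) * (X 38 (x38) * (X 43 (x43) * (X 34 (x34) * (X 36 (x36) * (X 42 (x42))))))))))))))) = Z (0, 0) (0, 0) (0, 0) (0, 0) (x29 * x37, 0) (0, 0) (0, 0) (x34 * x39 + x36 * x37, x31 * x43) (x29 * x34, 0) (0, 0) (0, 0) (0, 0) := by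
    unfold Z
    normX
  have e' := Z_inj (e.symm.trans (h.trans one_Z))
  obtain ⟨-, -, -, -, -, -, -, e7, -, -, -, -⟩ := e'
  have z43 : x43 = 0 := zero_of (congrArg Prod.snd e7) fun hx43 =>
    (mul_ne_zero hx31 hx43)
  subst z43
  simp only [X_zero, one_mul, mul_one] at h ⊢
  exact n162 hx31 h

lemma n164 {x37 x35 x31 x40 x46 x39 x45 x29 x41 x44 x47 x38 x43 x34 x36 x42 x33 : K} (hx31 : x31 ≠ 0)
    (h : (X 37 (x37) * (X 35 (x35) * (X 31 (x31) * (X 40 (x40) * (X 46 (x46) * (X 39 (x39) * (X 45 (x45) * (X 29 (x29) * (X 41 (x41) * (X 44 (x44) * (X 47 (x47) * (X 38 (x38) * (X 43 (x43) * (X 34 (x34) * (X 36 (x36) * (X 42 (x42) * (X 33 (x33)))))))))))))))))) * (X 37 (x37) * (X 35 (x35) * (X 31 (x31) * (X 40 (x40) * (X 46 (x46) * (X 39 (x39) * (X 45 (x45) * (X 29 (x29) * (X 41 (x41) * (X 44 (x44) * (X 47 (x47) * (X 38 (x38) * (X 43 (x43) * (X 34 (x34) * (X 36 (x36) * (X 42 (x42) * (X 33 (x33))))))))))))))))))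 = 1) :
    Rch (X 37 (x37) * (X 35 (x35) * (X 31 (x31) * (X 40 (x40) * (X 46 (x46) * (X 39 (x39) * (X 45 (x45) * (X 29 (x29) * (X 41 (x41) * (X 44 (x44) * (X 47 (x47) * (X 38 (x38) * (X 43 (x43) * (X 34 (x34) * (X 36 (x36) * (X 42 (x42) * (X 33 (x33)))))))))))))))))) := by
  have e : (X 37 (x37) * (X 35 (x35) * (X 31 (x31) * (X 40 (x40) * (X 46 (x46) * (X 39 (x39) * (X 45 (x45) * (X 29 (x29) * (X 41 (x41) * (X 44 (x44) * (X 47 (x47) * (X 38 (x38) * (X 43 (x43) * (X 34 (x34) * (X 36 (x36) * (X 42 (x42) * (X 33 (x33)))))))))))))))))) * (X 37 (x37) * (X 35 (x35) * (X 31 (x31) * (X 40 (x40) * (X 46 (x46) * (X 39 (x39) * (X 45 (x45) * (X 29 (x29) * (X 41 (x41) * (X 44 (x44) * (X 47 (x47) * (X 38 (x38) * (X 43 (x43) * (X 34 (x34) * (X 36 (x36) * (X 42 (x42) * (X 33 (x33)))))))))))))))))) = Z (0, 0) (0, 0) (0, 0) (0, 0) (x29 * x37 + x31 * x35, x31 * x35 ^ 2) (x29 * x35, x31 * x41) (0, 0) (x29 *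 x41 + x33 * x40 + x34 * x39 + x35 * x38 + x36 * x37, x29 ^ 2 * x41 + x31 * x43) (x29 * x34 + x31 * x33, 0) (0, 0) (x29 * x33, x31 * x33 ^ 2) (0, 0) := by
    unfold Z
    normX
  have e' := Z_inj (e.symm.trans (h.trans one_Z))
  obtain ⟨-, -, -, -, e4, e5, -, -, -, -, e10, -⟩ := e'
  have z35 : x35 = 0 := zero_of (congrArg Prod.snd e4) fun hx35 =>
    (mul_ne_zero hx31 (pow_ne_zero 2 hx35))
  have z41 : x41 = 0 := zero_of (congrArg Prod.snd e5) fun hx41 =>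
    (mul_ne_zero hx31 hx41)
  have z33 : x33 = 0 := zero_of (congrArg Prod.snd e10) fun hx33 =>
    (mul_ne_zero hx31 (pow_ne_zero 2 hx33))
  subst z35 z41 z33
  simp only [X_zero, one_mul, mul_one] at h ⊢
  exact n163 hx31 h

lemma n165 {x37 x35 x31 x40 x46 x39 x45 x29 x41 x44 x47 x38 x43 x34 x36 x42 x33 : K}
    (h : (X 37 (x37) * (X 35 (x35) * (X 31 (x31) * (X 40 (x40) * (X 46 (x46) * (X 39 (x39) * (X 45 (x45) * (X 29 (x29) * (X 41 (x41) * (X 44 (x44) * (X 47 (x47) * (X 38 (x38) * (X 43 (x43) * (X 34 (x34) * (X 36 (x36) * (X 42 (x42) * (X 33 (x33)))))))))))))))))) * (X 37 (x37) * (X 35 (x35) * (X 31 (x31) * (X 40 (x40) * (X 46 (x46) * (X 39 (x39) * (X 45 (x45) * (X 29 (x29) * (X 41 (x41) * (X 44 (x44) * (X 47 (x47) * (X 38 (x38) * (X 43 (x43) * (X 34 (x34) * (X 36 (x36) * (X 42 (x42) * (X 33 (x33)))))))))))))))))) = 1) :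
    Rch (X 37 (x37) * (X 35 (x35) * (X 31 (x31) * (X 40 (x40) * (X 46 (x46) * (X 39 (x39) * (X 45 (x45) * (X 29 (x29) * (X 41 (x41) * (X 44 (x44) * (X 47 (x47) * (X 38 (x38) * (X 43 (x43) * (X 34 (x34) * (X 36 (x36) * (X 42 (x42) * (X 33 (x33)))))))))))))))))) := by
  rcases eq_or_ne x31 0 with rfl | hx31
  · simp only [X_zero, one_mul, mul_one] at h ⊢
    exact n111 h
  · exact n164 hx31 h

lemma n166 {x37 x35 x31 x40 x46 x39 x45 x41 x44 x47 x38 x43 x34 x36 x42 : K} (hx31 : x31 ≠ 0)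
    (h : (X 37 (x37) * (X 35 (x35) * (X 31 (x31) * (X 40 (x40) * (X 46 (x46) * (X 39 (x39) * (X 45 (x45) * (X 41 (x41) * (X 44 (x44) * (X 47 (x47) * (X 38 (x38) * (X 43 (x43) * (X 34 (x34) * (X 36 (x36) * (X 42 (x42)))))))))))))))) * (X 37 (x37) * (X 35 (x35) * (X 31 (x31) * (X 40 (x40) * (X 46 (x46) * (X 39 (x39) * (X 45 (x45) * (X 41 (x41) * (X 44 (x44) * (X 47 (x47) * (X 38 (x38) * (X 43 (x43) * (X 34 (x34) * (X 36 (x36) * (X 42 (x42)))))))))))))))) = 1) :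
    Rch (X 37 (x37) * (X 35 (x35) * (X 31 (x31) * (X 40 (x40) * (X 46 (x46) * (X 39 (x39) * (X 45 (x45) * (X 41 (x41) * (X 44 (x44) * (X 47 (x47) * (X 38 (x38) * (X 43 (x43) * (X 34 (x34) * (X 36 (x36) * (X 42 (x42)))))))))))))))) := by
  have e : (X 37 (x37) * (X 35 (x35) * (X 31 (x31) * (X 40 (x40) * (X 46 (x46) * (X 39 (x39) * (X 45 (x45) * (X 41 (x41) * (X 44 (x44) * (X 47 (x47) * (X 38 (x38) * (X 43 (x43) * (X 34 (x34) * (X 36 (x36) * (X 42 (x42)))))))))))))))) * (X 37 (x37) * (X 35 (x35) * (X 31 (x31) * (X 40 (x40) * (X 46 (x46) * (X 39 (x39) * (X 45 (x45) * (X 41 (x41) * (X 44 (x44) * (X 47 (x47) * (X 38 (x38) * (X 43 (x43) * (X 34 (x34) * (X 36 (x36) * (X 42 (x42)))))))))))))))) = Z (0, 0) (0, 0) (0, 0) (0, 0) (x31 * x35, x31 * x35 ^ 2) (0, x31 * x41) (0, 0) (x34 * x39 + x35 * x38 + x36 * x37, x31 * x43) (0, 0) (0, 0) (0, 0) (0, 0) := by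
    unfold Z
    normX
  have e' := Z_inj (e.symm.trans (h.trans one_Z))
  obtain ⟨-, -, -, -, e4, e5, -, e7, -, -, -, -⟩ := e'
  have z35 : x35 = 0 := zero_of (congrArg Prod.fst e4) fun hx35 =>
    (mul_ne_zero hx31 hx35)
  have z41 : x41 = 0 := zero_of (congrArg Prod.snd e5) fun hx41 =>
    (mul_ne_zero hx31 hx41)
  have z43 : x43 = 0 := zero_of (congrArg Prod.snd e7) fun hx43 =>
    (mul_ne_zero hx31 hx43)
  subst z35 z41 z43
  simp only [X_zero, one_mul, mul_one] at h ⊢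
  exact n139 hx31 h

lemma n167 {x37 x32 x35 x31 x40 x46 x39 x45 x41 x44 x47 x38 x43 x34 x36 x42 : K} (hx31 : x31 ≠ 0)
    (h : (X 37 (x37) * (X 32 (x32) * (X 35 (x35) * (X 31 (x31) * (X 40 (x40) * (X 46 (x46) * (X 39 (x39) * (X 45 (x45) * (X 41 (x41) * (X 44 (x44) * (X 47 (x47) * (X 38 (x38) * (X 43 (x43) * (X 34 (x34) * (X 36 (x36) * (X 42 (x42))))))))))))))))) * (X 37 (x37) * (X 32 (x32) * (X 35 (x35) * (X 31 (x31) * (X 40 (x40) * (X 46 (x46) * (X 39 (x39) * (X 45 (x45) * (X 41 (x41) * (X 44 (x44) * (X 47 (x47) * (X 38 (x38) * (X 43 (x43) * (X 34 (x34) * (X 36 (x36) * (X 42 (x42))))))))))))))))) = 1) :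
    Rch (X 37 (x37) * (X 32 (x32) * (X 35 (x35) * (X 31 (x31) * (X 40 (x40) * (X 46 (x46) * (X 39 (x39) * (X 45 (x45) * (X 41 (x41) * (X 44 (x44) * (X 47 (x47) * (X 38 (x38) * (X 43 (x43) * (X 34 (x34) * (X 36 (x36) * (X 42 (x42))))))))))))))))) := by
  obtain ⟨d, hd⟩ : ∃ d : K, (x31) * d = x32 :=
    exists_lin hx31 _
  have hw : (d * x31 + x32) = 0 := by linear_combination hd + (x32) * CharTwo.two_eq_zero (R := K)
  have e : X 25 d * (X 37 (x37) * (X 32 (x32) * (X 35 (x35) * (X 31 (x31) * (X 40 (x40) * (X 46 (x46) * (X 39 (x39) * (X 45 (x45) * (X 41 (x41) * (X 44 (x44) * (X 47 (x47) * (X 38 (x38) * (X 43 (x43) * (X 34 (x34) * (X 36 (x36) * (X 42 (x42))))))))))))))))) * (X 25 d)⁻¹ = (X 37 (x37) * (X 32 (d * x31 + x32) * (X 35 (d * x34 + x35) * (X 31 (x31) * (X 40 (d * x31 * x34 + x40) * (X 46 (d * x45 + d ^ 2 * x31 * x34 ^ 2 + x46) * (X 39 (d * x38 + x39) * (X 45 (x45) * (X 41 (d * x34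 ^ 2 + x41) * (X 44 (d * x34 * x38 + x44) * (X 47 (d * x38 ^ 2 + x47) * (X 38 (x38) * (X 43 (d * x42 + x43) * (X 34 (x34) * (X 36 (x36) * (X 42 (x42))))))))))))))))) := by
    rw [inv_eq]
    normX
  rw [hw, X_zero] at e
  simp only [one_mul, mul_one] at e
  exact Rch.step (xG_mem_group g₄ 25 d) e h fun h' => n166 hx31 h'

lemma n168 {x37 x32 x35 x31 x40 x46 x39 x45 x41 x44 x47 x38 x43 x34 x36 x42 : K} (hx32 : x32 ≠ 0)
    (h : (X 37 (x37) * (X 32 (x32) * (X 35 (x35) * (X 31 (x31) * (X 40 (x40) * (X 46 (x46) * (X 39 (x39) * (X 45 (x45) * (X 41 (x41) * (X 44 (x44) * (X 47 (x47) * (X 38 (x38) * (X 43 (x43) * (X 34 (x34) * (X 36 (x36) * (X 42 (x42))))))))))))))))) * (X 37 (x37) * (X 32 (x32) * (X 35 (x35) * (X 31 (x31) * (X 40 (x40) * (X 46 (x46) * (X 39 (x39) * (X 45 (x45) * (X 41 (x41) * (X 44 (x44) * (X 47 (x47) * (X 38 (x38) * (X 43 (x43) * (X 34 (x34) * (X 36 (x36) * (X 42 (x42)))))))))))))))))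 = 1) :
    Rch (X 37 (x37) * (X 32 (x32) * (X 35 (x35) * (X 31 (x31) * (X 40 (x40) * (X 46 (x46) * (X 39 (x39) * (X 45 (x45) * (X 41 (x41) * (X 44 (x44) * (X 47 (x47) * (X 38 (x38) * (X 43 (x43) * (X 34 (x34) * (X 36 (x36) * (X 42 (x42))))))))))))))))) := by
  have e : nS K g₄ 2 * (X 37 (x37) * (X 32 (x32) * (X 35 (x35) * (X 31 (x31) * (X 40 (x40) * (X 46 (x46) * (X 39 (x39) * (X 45 (x45) * (X 41 (x41) * (X 44 (x44) * (X 47 (x47) * (X 38 (x38) * (X 43 (x43) * (X 34 (x34) * (X 36 (x36) * (X 42 (x42))))))))))))))))) * (nS K g₄ 2)⁻¹ = (X 37 (x37) * (X 32 (x31) * (X 35 (x34) * (X 31 (x32) * (X 40 (x31 * x35 + x32 * x34 + x40) * (X 46 (x32 * x34 ^ 2 + x45) * (X 39 (x38) * (X 45 (x31 * x35 ^ 2 + x46) * (X 41 (x41) * (X 44 (x34 * x39 + x35 * x38 + x44) * (X 47 (x47) * (X 38 (x39) * (X 43 (x42) * (X 34 (x35) * (X 36 (x36) * (X 42 (x43))))))))))))))))) := by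
    rw [← MulAut.conj_apply]
    simp only [map_mul, conj_s (i := 2) (r := 37) (r' := 37) (by decide +kernel), conj_s (i := 2) (r := 32) (r' := 31) (by decide +kernel), conj_s (i := 2) (r := 35) (r' := 34) (by decide +kernel), conj_s (i := 2) (r := 31) (r' := 32) (by decide +kernel), conj_s (i := 2) (r := 40) (r' := 40) (by decide +kernel), conj_s (i := 2) (r := 46) (r' := 45) (by decide +kernel), conj_s (i := 2) (r := 39) (r' := 38) (by decide +kernel), conj_s (i := 2) (r := 45) (r' := 46) (by decide +kernel), conj_s (i := 2) (r := 41) (r' := 41) (by decide +kernel), conj_s (i := 2) (r := 44) (r' := 44) (by decide +kernel), conj_s (i := 2) (r := 47) (r' := 47) (by decide +kernel), conj_s (i := 2) (r := 38) (r' := 39) (by decide +kernel), conj_s (i := 2) (r := 43) (r' := 42) (by decide +kernel), conj_s (i := 2) (r := 34) (r' := 35) (by decide +kernel), conj_s (i := 2) (r := 36) (r' := 36)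 (by decide +kernel), conj_s (i := 2) (r := 42) (r' := 43) (by decide +kernel)]
    all_goals normX
  exact Rch.step (nS_mem_group (by decide)) e h fun h' => n167 hx32 h'

end CfsgLib.Chev.F4Inv
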