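/-
Reduction of the involutions in the unipotent subgroup of type F4: cases, part 4.
-/
import Cfsg.Agent.Lib.Chev.F4Invol.Red3

set_option autoImplicit false
set_option maxRecDepth 100000
set_option maxHeartbeats 4000000
set_option linter.unusedSimpArgs false
set_option linter.unusedVariables false
set_option linter.unusedSectionVars false

namespace CfsgLib.Chev.F4Inv

open Cfsg.Lie Matrix CfsgLib.Chev CfsgLib.Chev.F42Invol

variable {K : Type*} [Field K] [CharP K 2] [Fintype K]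

local notation "g₄" => stdF4.good

lemma n169_1 {x32 x46 x45 x44 x47 x43 x36 : K} (hx43 : x43 ≠ 0) (hx36 : x36 ≠ 0)
    (h : (X 32 (x32) * (X 46 (x46) * (X 45 (x45) * (X 44 (x44) * (X 47 (x47) * (X 43 (x43) * (X 36 (x36)))))))) * (X 32 (x32) * (X 46 (x46) * (X 45 (x45) * (X 44 (x44) * (X 47 (x47) * (X 43 (x43) * (X 36 (x36)))))))) = 1) :
    Rch (X 32 (x32) * (X 46 (x46) * (X 45 (x45) * (X 44 (x44) * (X 47 (x47) * (X 43 (x43) * (X 36 (x36)))))))) := by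
  have e : nS K g₄ 1 * (X 32 (x32) * (X 46 (x46) * (X 45 (x45) * (X 44 (x44) * (X 47 (x47) * (X 43 (x43) * (X 36 (x36)))))))) * (nS K g₄ 1)⁻¹ = (X 32 (x32) * (X 46 (x46) * (X 45 (x43) * (X 44 (x44) * (X 47 (x47) * (X 38 (x36) * (X 43 (x45)))))))) := by
    rw [← MulAut.conj_apply]
    simp only [map_mul, conj_s (i := 1) (r := 32) (r' := 32) (by decide +kernel), conj_s (i := 1) (r := 46) (r' := 46) (by decide +kernel), conj_s (i := 1) (r := 45) (r' := 43) (by decide +kernel), conj_s (i := 1) (r := 44) (r' := 44) (by decide +kernel), conj_s (i := 1) (r := 47) (r' := 47) (by decide +kernel), conj_s (i := 1) (r := 43) (r' := 45) (by decide +kernel), conj_s (i := 1) (r := 36) (r' := 38) (by decide +kernel)]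
    all_goals normX
  exact Rch.step (nS_mem_group (by decide)) e h fun h' => n153 hx43 hx36 h'

lemma n169 {x31 x46 x45 x44 x47 x36 x42 : K} (hx36 : x36 ≠ 0) (hx42 : x42 ≠ 0)
    (h : (X 31 (x31) * (X 46 (x46) * (X 45 (x45) * (X 44 (x44) * (X 47 (x47) * (X 36 (x36) * (X 42 (x42)))))))) * (X 31 (x31) * (X 46 (x46) * (X 45 (x45) * (X 44 (x44) * (X 47 (x47) * (X 36 (x36) * (X 42 (x42)))))))) = 1) :
    Rch (X 31 (x31) * (X 46 (x46) * (X 45 (x45) * (X 44 (x44) * (X 47 (x47) * (X 36 (x36) * (X 42 (x42)))))))) := by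
  have e : nS K g₄ 2 * (X 31 (x31) * (X 46 (x46) * (X 45 (x45) * (X 44 (x44) * (X 47 (x47) * (X 36 (x36) * (X 42 (x42)))))))) * (nS K g₄ 2)⁻¹ = (X 32 (x31) * (X 46 (x45) * (X 45 (x46) * (X 44 (x44) * (X 47 (x47) * (X 43 (x42) * (X 36 (x36)))))))) := by
    rw [← MulAut.conj_apply]
    simp only [map_mul, conj_s (i := 2) (r := 31) (r' := 32) (by decide +kernel), conj_s (i := 2) (r := 46) (r' := 45) (by decide +kernel), conj_s (i := 2) (r := 45) (r' := 46) (by decide +kernel), conj_s (i := 2) (r := 44) (r' := 44) (by decide +kernel), conj_s (i := 2) (r := 47) (r' := 47) (by decide +kernel), conj_s (i := 2) (r := 36) (r' := 36) (by decide +kernel), conj_s (i := 2) (r := 42) (r' := 43) (by decide +kernel)]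
    all_goals normX
  exact Rch.step (nS_mem_group (by decide)) e h fun h' => n169_1 hx42 hx36 h'

lemma n170 {x32 x31 x46 x45 x44 x47 x36 x42 : K} (hx36 : x36 ≠ 0) (hx42 : x42 ≠ 0)
    (h : (X 32 (x32) * (X 31 (x31) * (X 46 (x46) * (X 45 (x45) * (X 44 (x44) * (X 47 (x47) * (X 36 (x36) * (X 42 (x42))))))))) * (X 32 (x32) * (X 31 (x31) * (X 46 (x46) * (X 45 (x45) * (X 44 (x44) * (X 47 (x47) * (X 36 (x36) * (X 42 (x42))))))))) = 1) :
    Rch (X 32 (x32) * (X 31 (x31) * (X 46 (x46) * (X 45 (x45) * (X 44 (x44) * (X 47 (x47) * (X 36 (x36) * (X 42 (x42))))))))) := by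
  have e : (X 32 (x32) * (X 31 (x31) * (X 46 (x46) * (X 45 (x45) * (X 44 (x44) * (X 47 (x47) * (X 36 (x36) * (X 42 (x42))))))))) * (X 32 (x32) * (X 31 (x31) * (X 46 (x46) * (X 45 (x45) * (X 44 (x44) * (X 47 (x47) * (X 36 (x36) * (X 42 (x42))))))))) = Z (0, 0) (0, 0) (0, 0) (0, 0) (0, 0) (0, 0) (0, 0) (0, x32 * x42) (0, 0) (0, 0) (0, 0) (0, 0) := by
    unfold Z
    normX
  have e' := Z_inj (e.symm.trans (h.trans one_Z))
  obtain ⟨-, -, -, -, -, -, -, e7, -, -, -, -⟩ := e'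
  have z32 : x32 = 0 := zero_of (congrArg Prod.snd e7) fun hx32 =>
    (mul_ne_zero hx32 hx42)
  subst z32
  simp only [X_zero, one_mul, mul_one] at h ⊢
  exact n169 hx36 hx42 h

lemma n171 {x32 x31 x46 x45 x44 x47 x43 x36 x42 : K} (hx36 : x36 ≠ 0) (hx42 : x42 ≠ 0)
    (h : (X 32 (x32) * (X 31 (x31) * (X 46 (x46) * (X 45 (x45) * (X 44 (x44) * (X 47 (x47) * (X 43 (x43) * (X 36 (x36) * (X 42 (x42)))))))))) * (X 32 (x32) * (X 31 (x31) * (X 46 (x46) * (X 45 (x45) * (X 44 (x44) * (X 47 (x47) * (X 43 (x43) * (X 36 (x36) * (X 42 (x42)))))))))) = 1) :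
    Rch (X 32 (x32) * (X 31 (x31) * (X 46 (x46) * (X 45 (x45) * (X 44 (x44) * (X 47 (x47) * (X 43 (x43) * (X 36 (x36) * (X 42 (x42)))))))))) := by
  obtain ⟨d, hd⟩ : ∃ d : K, (x42) * d = x43 :=
    exists_lin hx42 _
  have hw : (d * x42 + x43) = 0 := by linear_combination hd + (x43) * CharTwo.two_eq_zero (R := K)
  have e : X 25 d * (X 32 (x32) * (X 31 (x31) * (X 46 (x46) * (X 45 (x45) * (X 44 (x44) * (X 47 (x47) * (X 43 (x43) * (X 36 (x36) * (X 42 (x42)))))))))) * (X 25 d)⁻¹ = (X 32 (d * x31 + x32) * (X 31 (x31) * (X 46 (d * x45 + x46) * (X 45 (x45) * (X 44 (x44) * (X 47 (x47) * (X 43 (d * x42 + x43) * (X 36 (x36) * (X 42 (x42)))))))))) := by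
    rw [inv_eq]
    normX
  rw [hw, X_zero] at e
  simp only [one_mul, mul_one] at e
  exact Rch.step (xG_mem_group g₄ 25 d) e h fun h' => n170 hx36 hx42 h'

lemma n172 {x32 x31 x40 x46 x45 x44 x47 x43 x36 x42 : K} (hx36 : x36 ≠ 0) (hx42 : x42 ≠ 0)
    (h : (X 32 (x32) * (X 31 (x31) * (X 40 (x40) * (X 46 (x46) * (X 45 (x45) * (X 44 (x44) * (X 47 (x47) * (X 43 (x43) * (X 36 (x36) * (X 42 (x42))))))))))) * (X 32 (x32) * (X 31 (x31) * (X 40 (x40) * (X 46 (x46) * (X 45 (x45) * (X 44 (x44) * (X 47 (x47) * (X 43 (x43) * (X 36 (x36) * (X 42 (x42))))))))))) = 1) :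
    Rch (X 32 (x32) * (X 31 (x31) * (X 40 (x40) * (X 46 (x46) * (X 45 (x45) * (X 44 (x44) * (X 47 (x47) * (X 43 (x43) * (X 36 (x36) * (X 42 (x42))))))))))) := by
  obtain ⟨d, hd⟩ : ∃ d : K, (x36) * d = x40 :=
    exists_lin hx36 _
  have hw : (d * x36 + x40) = 0 := by linear_combination hd + (x40) * CharTwo.two_eq_zero (R := K)
  have e : X 30 d * (X 32 (x32) * (X 31 (x31) * (X 40 (x40) * (X 46 (x46) * (X 45 (x45) * (X 44 (x44) * (X 47 (x47) * (X 43 (x43) * (X 36 (x36) * (X 42 (x42))))))))))) * (X 30 d)⁻¹ = (X 32 (x32) * (X 31 (x31) * (X 40 (d * x36 + x40) * (X 46 (d * x43 + x46) * (X 45 (d * x42 + x45) * (X 44 (x44) * (X 47 (d * x36 ^ 2 + x47) * (X 43 (x43) * (X 36 (x36) * (X 42 (x42))))))))))) := by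
    rw [inv_eq]
    normX
  rw [hw, X_zero] at e
  simp only [one_mul, mul_one] at e
  exact Rch.step (xG_mem_group g₄ 30 d) e h fun h' => n171 hx36 hx42 h'

lemma n173 {x32 x31 x40 x46 x39 x45 x44 x47 x43 x36 x42 : K} (hx36 : x36 ≠ 0) (hx42 : x42 ≠ 0)
    (h : (X 32 (x32) * (X 31 (x31) * (X 40 (x40) * (X 46 (x46) * (X 39 (x39) * (X 45 (x45) * (X 44 (x44) * (X 47 (x47) * (X 43 (x43) * (X 36 (x36) * (X 42 (x42)))))))))))) * (X 32 (x32) * (X 31 (x31) * (X 40 (x40) * (X 46 (x46) * (X 39 (x39) * (X 45 (x45) * (X 44 (x44) * (X 47 (x47) * (X 43 (x43) * (X 36 (x36) * (X 42 (x42)))))))))))) = 1) :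
    Rch (X 32 (x32) * (X 31 (x31) * (X 40 (x40) * (X 46 (x46) * (X 39 (x39) * (X 45 (x45) * (X 44 (x44) * (X 47 (x47) * (X 43 (x43) * (X 36 (x36) * (X 42 (x42)))))))))))) := by
  obtain ⟨d, hd⟩ : ∃ d : K, (x36) * d = x39 :=
    exists_lin hx36 _
  have hw : (d * x36 + x39) = 0 := by linear_combination hd + (x39) * CharTwo.two_eq_zero (R := K)
  have e : X 28 d * (X 32 (x32) * (X 31 (x31) * (X 40 (x40) * (X 46 (x46) * (X 39 (x39) * (X 45 (x45) * (X 44 (x44) * (X 47 (x47) * (X 43 (x43) * (X 36 (x36) * (X 42 (x42)))))))))))) * (X 28 d)⁻¹ = (X 32 (x32) * (X 31 (x31) * (X 40 (x40) * (X 46 (d ^ 2 * x42 + x46) * (X 39 (d * x36 + x39) * (X 45 (x45) * (X 44 (d * x42 + x44) * (X 47 (x47) * (X 43 (x43) * (X 36 (x36) * (X 42 (x42)))))))))))) := by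
    rw [inv_eq]
    normX
  rw [hw, X_zero] at e
  simp only [one_mul, mul_one] at e
  exact Rch.step (xG_mem_group g₄ 28 d) e h fun h' => n172 hx36 hx42 h'

lemma n174 {x32 x31 x40 x46 x39 x45 x44 x47 x38 x43 x36 x42 : K} (hx36 : x36 ≠ 0) (hx42 : x42 ≠ 0)
    (h : (X 32 (x32) * (X 31 (x31) * (X 40 (x40) * (X 46 (x46) * (X 39 (x39) * (X 45 (x45) * (X 44 (x44) * (X 47 (x47) * (X 38 (x38) * (X 43 (x43) * (X 36 (x36) * (X 42 (x42))))))))))))) * (X 32 (x32) * (X 31 (x31) * (X 40 (x40) * (X 46 (x46) * (X 39 (x39) * (X 45 (x45) * (X 44 (x44) * (X 47 (x47) * (X 38 (x38) * (X 43 (x43) * (X 36 (x36) * (X 42 (x42))))))))))))) = 1) :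
    Rch (X 32 (x32) * (X 31 (x31) * (X 40 (x40) * (X 46 (x46) * (X 39 (x39) * (X 45 (x45) * (X 44 (x44) * (X 47 (x47) * (X 38 (x38) * (X 43 (x43) * (X 36 (x36) * (X 42 (x42))))))))))))) := by
  obtain ⟨d, hd⟩ : ∃ d : K, (x36) * d = x38 :=
    exists_lin hx36 _
  have hw : (d * x36 + x38) = 0 := by linear_combination hd + (x38) * CharTwo.two_eq_zero (R := K)
  have e : X 27 d * (X 32 (x32) * (X 31 (x31) * (X 40 (x40) * (X 46 (x46) * (X 39 (x39) * (X 45 (x45) * (X 44 (x44) * (X 47 (x47) * (X 38 (x38) * (X 43 (x43) * (X 36 (x36) * (X 42 (x42))))))))))))) * (X 27 d)⁻¹ = (X 32 (x32) * (X 31 (x31) * (X 40 (d * x39 + x40) * (X 46 (x46) * (X 39 (x39) * (X 45 (d ^ 2 * x43 + x45) * (X 44 (d * x43 + x44) * (X 47 (x47) * (X 38 (d * x36 + x38) * (X 43 (x43) * (X 36 (x36) * (X 42 (x42))))))))))))) := by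
    rw [inv_eq]
    normX
  rw [hw, X_zero] at e
  simp only [one_mul, mul_one] at e
  exact Rch.step (xG_mem_group g₄ 27 d) e h fun h' => n173 hx36 hx42 h'

lemma n175 {x32 x31 x40 x46 x39 x45 x29 x44 x47 x38 x43 x42 : K} (hx31 : x31 ≠ 0) (hx29 : x29 ≠ 0)
    (h : (X 32 (x32) * (X 31 (x31) * (X 40 (x40) * (X 46 (x46) * (X 39 (x39) * (X 45 (x45) * (X 29 (x29) * (X 44 (x44) * (X 47 (x47) * (X 38 (x38) * (X 43 (x43) * (X 42 (x42))))))))))))) * (X 32 (x32) * (X 31 (x31) * (X 40 (x40) * (X 46 (x46) * (X 39 (x39) * (X 45 (x45) * (X 29 (x29) * (X 44 (x44) * (X 47 (x47) * (X 38 (x38) * (X 43 (x43) * (X 42 (x42))))))))))))) = 1) :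
    Rch (X 32 (x32) * (X 31 (x31) * (X 40 (x40) * (X 46 (x46) * (X 39 (x39) * (X 45 (x45) * (X 29 (x29) * (X 44 (x44) * (X 47 (x47) * (X 38 (x38) * (X 43 (x43) * (X 42 (x42))))))))))))) := by
  have e : nS K g₄ 0 * (X 32 (x32) * (X 31 (x31) * (X 40 (x40) * (X 46 (x46) * (X 39 (x39) * (X 45 (x45) * (X 29 (x29) * (X 44 (x44) * (X 47 (x47) * (X 38 (x38) * (X 43 (x43) * (X 42 (x42))))))))))))) * (nS K g₄ 0)⁻¹ = (X 32 (x43) * (X 31 (x42) * (X 40 (x44) * (X 46 (x46) * (X 39 (x39) * (X 45 (x45) * (X 44 (x40) * (X 47 (x31 * x43 + x32 * x42 + x47) * (X 38 (x38) * (X 43 (x32) * (X 36 (x29) * (X 42 (x31))))))))))))) := by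
    rw [← MulAut.conj_apply]
    simp only [map_mul, conj_s (i := 0) (r := 32) (r' := 43) (by decide +kernel), conj_s (i := 0) (r := 31) (r' := 42) (by decide +kernel), conj_s (i := 0) (r := 40) (r' := 44) (by decide +kernel), conj_s (i := 0) (r := 46) (r' := 46) (by decide +kernel), conj_s (i := 0) (r := 39) (r' := 39) (by decide +kernel), conj_s (i := 0) (r := 45) (r' := 45) (by decide +kernel), conj_s (i := 0) (r := 29) (r' := 36) (by decide +kernel), conj_s (i := 0) (r := 44) (r' := 40) (by decide +kernel), conj_s (i := 0) (r := 47) (r' := 47) (by decide +kernel), conj_s (i := 0) (r := 38) (r' := 38) (by decide +kernel), conj_s (i := 0) (r := 43) (r' := 32) (by decide +kernel), conj_s (i := 0) (r := 42) (r' := 31) (by decide +kernel)]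
    all_goals normX
  exact Rch.step (nS_mem_group (by decide)) e h fun h' => n174 hx29 hx31 h'

lemma n176 {x32 x31 x40 x46 x39 x45 x29 x44 x47 x38 x43 x36 x42 : K} (hx31 : x31 ≠ 0) (hx29 : x29 ≠ 0)
    (h : (X 32 (x32) * (X 31 (x31) * (X 40 (x40) * (X 46 (x46) * (X 39 (x39) * (X 45 (x45) * (X 29 (x29) * (X 44 (x44) * (X 47 (x47) * (X 38 (x38) * (X 43 (x43) * (X 36 (x36) * (X 42 (x42)))))))))))))) * (X 32 (x32) * (X 31 (x31) * (X 40 (x40) * (X 46 (x46) * (X 39 (x39) * (X 45 (x45) * (X 29 (x29) * (X 44 (x44) * (X 47 (x47) * (X 38 (x38) * (X 43 (x43) * (X 36 (x36) * (X 42 (x42)))))))))))))) = 1) :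
    Rch (X 32 (x32) * (X 31 (x31) * (X 40 (x40) * (X 46 (x46) * (X 39 (x39) * (X 45 (x45) * (X 29 (x29) * (X 44 (x44) * (X 47 (x47) * (X 38 (x38) * (X 43 (x43) * (X 36 (x36) * (X 42 (x42)))))))))))))) := by
  obtain ⟨d, hd⟩ : ∃ d : K, (x29) * d = x36 :=
    exists_lin hx29 _
  have hw : (d * x29 + x36) = 0 := by linear_combination hd + (x36) * CharTwo.two_eq_zero (R := K)
  have e : X 33 d * (X 32 (x32) * (X 31 (x31) * (X 40 (x40) * (X 46 (x46) * (X 39 (x39) * (X 45 (x45) * (X 29 (x29) * (X 44 (x44) * (X 47 (x47) * (X 38 (x38) * (X 43 (x43) * (X 36 (x36) * (X 42 (x42)))))))))))))) * (X 33 d)⁻¹ = (X 32 (x32) * (X 31 (x31) * (X 40 (x40) * (X 46 (x46) * (X 39 (d * x32 + x39) * (X 45 (x45) * (X 29 (x29) * (X 44 (d * x40 + x44) * (X 47 (d ^ 2 * x31 * x32 + x47) * (X 38 (d * x31 + x38) * (X 43 (d ^ 2 * x32 + x43) * (X 36 (d * x29 + x36) * (X 42 (d ^ 2 * x31 + x42)))))))))))))) := by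
    rw [inv_eq]
    normX
  rw [hw, X_zero] at e
  simp only [one_mul, mul_one] at e
  exact Rch.step (xG_mem_group g₄ 33 d) e h fun h' => n175 hx31 hx29 h'

lemma n177 {x32 x31 x40 x46 x39 x45 x29 x44 x47 x38 x43 x36 x42 : K} (hx32 : x32 ≠ 0) (hx29 : x29 ≠ 0)
    (h : (X 32 (x32) * (X 31 (x31) * (X 40 (x40) * (X 46 (x46) * (X 39 (x39) * (X 45 (x45) * (X 29 (x29) * (X 44 (x44) * (X 47 (x47) * (X 38 (x38) * (X 43 (x43) * (X 36 (x36) * (X 42 (x42)))))))))))))) * (X 32 (x32) * (X 31 (x31) * (X 40 (x40) * (X 46 (x46) * (X 39 (x39) * (X 45 (x45) * (X 29 (x29) * (X 44 (x44) * (X 47 (x47) * (X 38 (x38) * (X 43 (x43) * (X 36 (x36) * (X 42 (x42)))))))))))))) = 1) :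
    Rch (X 32 (x32) * (X 31 (x31) * (X 40 (x40) * (X 46 (x46) * (X 39 (x39) * (X 45 (x45) * (X 29 (x29) * (X 44 (x44) * (X 47 (x47) * (X 38 (x38) * (X 43 (x43) * (X 36 (x36) * (X 42 (x42)))))))))))))) := by
  have e : nS K g₄ 2 * (X 32 (x32) * (X 31 (x31) * (X 40 (x40) * (X 46 (x46) * (X 39 (x39) * (X 45 (x45) * (X 29 (x29) * (X 44 (x44) * (X 47 (x47) * (X 38 (x38) * (X 43 (x43) * (X 36 (x36) * (X 42 (x42)))))))))))))) * (nS K g₄ 2)⁻¹ = (X 32 (x31) * (X 31 (x32) * (X 40 (x40) * (X 46 (x45) * (X 39 (x38) * (X 45 (x46) * (X 29 (x29) * (X 44 (x44) * (X 47 (x47) * (X 38 (x39) * (X 43 (x42) * (X 36 (x36) * (X 42 (x43)))))))))))))) := by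
    rw [← MulAut.conj_apply]
    simp only [map_mul, conj_s (i := 2) (r := 32) (r' := 31) (by decide +kernel), conj_s (i := 2) (r := 31) (r' := 32) (by decide +kernel), conj_s (i := 2) (r := 40) (r' := 40) (by decide +kernel), conj_s (i := 2) (r := 46) (r' := 45) (by decide +kernel), conj_s (i := 2) (r := 39) (r' := 38) (by decide +kernel), conj_s (i := 2) (r := 45) (r' := 46) (by decide +kernel), conj_s (i := 2) (r := 29) (r' := 29) (by decide +kernel), conj_s (i := 2) (r := 44) (r' := 44) (by decide +kernel), conj_s (i := 2) (r := 47) (r' := 47) (by decide +kernel), conj_s (i := 2) (r := 38) (r' := 39) (by decide +kernel), conj_s (i := 2) (r := 43) (r' := 42) (by decide +kernel), conj_s (i := 2) (r := 36) (r' := 36) (by decide +kernel), conj_s (i := 2) (r := 42) (r' := 43) (by decide +kernel)]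
    all_goals normX
  exact Rch.step (nS_mem_group (by decide)) e h fun h' => n176 hx32 hx29 h'

lemma n178 {x37 x32 x31 x40 x46 x39 x45 x29 x41 x44 x47 x38 x43 x36 x42 : K} (hx32 : x32 ≠ 0) (hx29 : x29 ≠ 0)
    (h : (X 37 (x37) * (X 32 (x32) * (X 31 (x31) * (X 40 (x40) * (X 46 (x46) * (X 39 (x39) * (X 45 (x45) * (X 29 (x29) * (X 41 (x41) * (X 44 (x44) * (X 47 (x47) * (X 38 (x38) * (X 43 (x43) * (X 36 (x36) * (X 42 (x42)))))))))))))))) * (X 37 (x37) * (X 32 (x32) * (X 31 (x31) * (X 40 (x40) * (X 46 (x46) * (X 39 (x39) * (X 45 (x45) * (X 29 (x29) * (X 41 (x41) * (X 44 (x44) * (X 47 (x47) * (X 38 (x38) * (X 43 (x43) * (X 36 (x36) * (X 42 (x42)))))))))))))))) = 1) :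
    Rch (X 37 (x37) * (X 32 (x32) * (X 31 (x31) * (X 40 (x40) * (X 46 (x46) * (X 39 (x39) * (X 45 (x45) * (X 29 (x29) * (X 41 (x41) * (X 44 (x44) * (X 47 (x47) * (X 38 (x38) * (X 43 (x43) * (X 36 (x36) * (X 42 (x42)))))))))))))))) := by
  have e : (X 37 (x37) * (X 32 (x32) * (X 31 (x31) * (X 40 (x40) * (X 46 (x46) * (X 39 (x39) * (X 45 (x45) * (X 29 (x29) * (X 41 (x41) * (X 44 (x44) * (X 47 (x47) * (X 38 (x38) * (X 43 (x43) * (X 36 (x36) * (X 42 (x42)))))))))))))))) * (X 37 (x37) * (X 32 (x32) * (X 31 (x31) * (X 40 (x40) * (X 46 (x46) * (X 39 (x39) * (X 45 (x45) * (X 29 (x29) * (X 41 (x41) * (X 44 (x44) * (X 47 (x47) * (X 38 (x38) * (X 43 (x43) * (X 36 (x36) * (X 42 (x42)))))))))))))))) = Z (0, 0) (0, 0) (0, 0) (0, 0) (x29 * x37, x32 * x41) (0, x31 * x41) (0, 0) (x29 * x41 + x36 * x37, x29 ^ 2 * x41 + x31 * x43 + x32 * x42) (0, 0) (0, 0) (0, 0) (0, 0) := by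
    unfold Z
    normX
  have e' := Z_inj (e.symm.trans (h.trans one_Z))
  obtain ⟨-, -, -, -, e4, -, -, -, -, -, -, -⟩ := e'
  have z37 : x37 = 0 := zero_of (congrArg Prod.fst e4) fun hx37 =>
    (mul_ne_zero hx29 hx37)
  have z41 : x41 = 0 := zero_of (congrArg Prod.snd e4) fun hx41 =>
    (mul_ne_zero hx32 hx41)
  subst z37 z41
  simp only [X_zero, one_mul, mul_one] at h ⊢
  exact n177 hx32 hx29 h

lemma n179 {x37 x32 x35 x31 x40 x46 x39 x45 x29 x41 x44 x47 x38 x43 x34 x36 x42 : K} (hx32 : x32 ≠ 0) (hx29 : x29 ≠ 0)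
    (h : (X 37 (x37) * (X 32 (x32) * (X 35 (x35) * (X 31 (x31) * (X 40 (x40) * (X 46 (x46) * (X 39 (x39) * (X 45 (x45) * (X 29 (x29) * (X 41 (x41) * (X 44 (x44) * (X 47 (x47) * (X 38 (x38) * (X 43 (x43) * (X 34 (x34) * (X 36 (x36) * (X 42 (x42)))))))))))))))))) * (X 37 (x37) * (X 32 (x32) * (X 35 (x35) * (X 31 (x31) * (X 40 (x40) * (X 46 (x46) * (X 39 (x39) * (X 45 (x45) * (X 29 (x29) * (X 41 (x41) * (X 44 (x44) * (X 47 (x47) * (X 38 (x38) * (X 43 (x43) * (X 34 (x34) * (X 36 (x36) * (X 42 (x42)))))))))))))))))) = 1) :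
    Rch (X 37 (x37) * (X 32 (x32) * (X 35 (x35) * (X 31 (x31) * (X 40 (x40) * (X 46 (x46) * (X 39 (x39) * (X 45 (x45) * (X 29 (x29) * (X 41 (x41) * (X 44 (x44) * (X 47 (x47) * (X 38 (x38) * (X 43 (x43) * (X 34 (x34) * (X 36 (x36) * (X 42 (x42)))))))))))))))))) := by
  have e : (X 37 (x37) * (X 32 (x32) * (X 35 (x35) * (X 31 (x31) * (X 40 (x40) * (X 46 (x46) * (X 39 (x39) * (X 45 (x45) * (X 29 (x29) * (X 41 (x41) * (X 44 (x44) * (X 47 (x47) * (X 38 (x38) * (X 43 (x43) * (X 34 (x34) * (X 36 (x36) * (X 42 (x42)))))))))))))))))) * (X 37 (x37) * (X 32 (x32) * (X 35 (x35) * (X 31 (x31) * (X 40 (x40) * (X 46 (x46) * (X 39 (x39) * (X 45 (x45) * (X 29 (x29) * (X 41 (x41) * (X 44 (x44) * (X 47 (x47) * (X 38 (x38) * (X 43 (x43) * (X 34 (x34) * (X 36 (x36) * (X 42 (x42)))))))))))))))))) = Z (0, 0) (0, 0) (0, 0) (0, 0) (x29 * x37 + x31 * x35 + x32 * x34, x31 * x35 ^ 2 + x32 * x41) (x29 * x35, x31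 * x41 + x32 * x34 ^ 2) (0, 0) (x29 * x41 + x34 * x39 + x35 * x38 + x36 * x37, x29 ^ 2 * x41 + x31 * x43 + x32 * x42) (x29 * x34, 0) (0, 0) (0, 0) (0, 0) := by
    unfold Z
    normX
  have e' := Z_inj (e.symm.trans (h.trans one_Z))
  obtain ⟨-, -, -, -, -, e5, -, -, e8, -, -, -⟩ := e'
  have z35 : x35 = 0 := zero_of (congrArg Prod.fst e5) fun hx35 =>
    (mul_ne_zero hx29 hx35)
  have z34 : x34 = 0 := zero_of (congrArg Prod.fst e8) fun hx34 =>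
    (mul_ne_zero hx29 hx34)
  subst z35 z34
  simp only [X_zero, one_mul, mul_one] at h ⊢
  exact n178 hx32 hx29 h

lemma n180 {x37 x32 x35 x31 x40 x46 x39 x45 x29 x41 x44 x47 x38 x43 x34 x36 x42 : K} (hx32 : x32 ≠ 0)
    (h : (X 37 (x37) * (X 32 (x32) * (X 35 (x35) * (X 31 (x31) * (X 40 (x40) * (X 46 (x46) * (X 39 (x39) * (X 45 (x45) * (X 29 (x29) * (X 41 (x41) * (X 44 (x44) * (X 47 (x47) * (X 38 (x38) * (X 43 (x43) * (X 34 (x34) * (X 36 (x36) * (X 42 (x42)))))))))))))))))) * (X 37 (x37) * (X 32 (x32) * (X 35 (x35) * (X 31 (x31) * (X 40 (x40) * (X 46 (x46) * (X 39 (x39) * (X 45 (x45) * (X 29 (x29) * (X 41 (x41) * (X 44 (x44) * (X 47 (x47) * (X 38 (x38) * (X 43 (x43) * (X 34 (x34) * (X 36 (x36) * (X 42 (x42)))))))))))))))))) = 1) :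
    Rch (X 37 (x37) * (X 32 (x32) * (X 35 (x35) * (X 31 (x31) * (X 40 (x40) * (X 46 (x46) * (X 39 (x39) * (X 45 (x45) * (X 29 (x29) * (X 41 (x41) * (X 44 (x44) * (X 47 (x47) * (X 38 (x38) * (X 43 (x43) * (X 34 (x34) * (X 36 (x36) * (X 42 (x42)))))))))))))))))) := by
  rcases eq_or_ne x29 0 with rfl | hx29
  · simp only [X_zero, one_mul, mul_one] at h ⊢
    exact n168 hx32 h
  · exact n179 hx32 hx29 h

lemma n181 {x37 x32 x35 x31 x40 x46 x39 x45 x29 x41 x44 x47 x38 x43 x34 x36 x42 x33 : K} (hx32 : x32 ≠ 0)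
    (h : (X 37 (x37) * (X 32 (x32) * (X 35 (x35) * (X 31 (x31) * (X 40 (x40) * (X 46 (x46) * (X 39 (x39) * (X 45 (x45) * (X 29 (x29) * (X 41 (x41) * (X 44 (x44) * (X 47 (x47) * (X 38 (x38) * (X 43 (x43) * (X 34 (x34) * (X 36 (x36) * (X 42 (x42) * (X 33 (x33))))))))))))))))))) * (X 37 (x37) * (X 32 (x32) * (X 35 (x35) * (X 31 (x31) * (X 40 (x40) * (X 46 (x46) * (X 39 (x39) * (X 45 (x45) * (X 29 (x29) * (X 41 (x41) * (X 44 (x44) * (X 47 (x47) * (X 38 (x38) * (X 43 (x43) * (X 34 (x34) * (X 36 (x36) * (X 42 (x42) * (X 33 (x33))))))))))))))))))) = 1) :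
    Rch (X 37 (x37) * (X 32 (x32) * (X 35 (x35) * (X 31 (x31) * (X 40 (x40) * (X 46 (x46) * (X 39 (x39) * (X 45 (x45) * (X 29 (x29) * (X 41 (x41) * (X 44 (x44) * (X 47 (x47) * (X 38 (x38) * (X 43 (x43) * (X 34 (x34) * (X 36 (x36) * (X 42 (x42) * (X 33 (x33))))))))))))))))))) := by
  have e : (X 37 (x37) * (X 32 (x32) * (X 35 (x35) * (X 31 (x31) * (X 40 (x40) * (X 46 (x46) * (X 39 (x39) * (X 45 (x45) * (X 29 (x29) * (X 41 (x41) * (X 44 (x44) * (X 47 (x47) * (X 38 (x38) * (X 43 (x43) * (X 34 (x34) * (X 36 (x36) * (X 42 (x42) * (X 33 (x33))))))))))))))))))) * (X 37 (x37) * (X 32 (x32) * (X 35 (x35) * (X 31 (x31) * (X 40 (x40) * (X 46 (x46) * (X 39 (x39) * (X 45 (x45) * (X 29 (x29) * (X 41 (x41) * (X 44 (x44) * (X 47 (x47) * (X 38 (x38) * (X 43 (x43) * (X 34 (x34) * (X 36 (x36) * (X 42 (x42) * (X 33 (x33))))))))))))))))))) = Z (0, 0) (0, 0) (0, 0) (0, 0) (x29 * x37 + x31 * x35 + x32 * x34,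 x31 * x35 ^ 2 + x32 * x41) (x29 * x35 + x32 * x33, x31 * x41 + x32 * x34 ^ 2) (0, 0) (x29 * x41 + x32 * x33 * x34 + x33 * x40 + x34 * x39 + x35 * x38 + x36 * x37, x29 ^ 2 * x41 + x31 * x32 * x33 ^ 2 + x31 * x43 + x32 * x42) (x29 * x34 + x31 * x33, x32 * x33 ^ 2) (0, 0) (x29 * x33, x31 * x33 ^ 2) (0, 0) := by
    unfold Z
    normX
  have e' := Z_inj (e.symm.trans (h.trans one_Z))
  obtain ⟨-, -, -, -, -, -, -, -, e8, -, -, -⟩ := e'
  have z33 : x33 = 0 := zero_of (congrArg Prod.snd e8) fun hx33 =>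
    (mul_ne_zero hx32 (pow_ne_zero 2 hx33))
  subst z33
  simp only [X_zero, one_mul, mul_one] at h ⊢
  exact n180 hx32 h

lemma n182 {x37 x32 x35 x31 x40 x46 x39 x45 x29 x41 x44 x47 x38 x43 x34 x36 x42 x33 : K}
    (h : (X 37 (x37) * (X 32 (x32) * (X 35 (x35) * (X 31 (x31) * (X 40 (x40) * (X 46 (x46) * (X 39 (x39) * (X 45 (x45) * (X 29 (x29) * (X 41 (x41) * (X 44 (x44) * (X 47 (x47) * (X 38 (x38) * (X 43 (x43) * (X 34 (x34) * (X 36 (x36) * (X 42 (x42) * (X 33 (x33))))))))))))))))))) * (X 37 (x37) * (X 32 (x32) * (X 35 (x35) * (X 31 (x31) * (X 40 (x40) * (X 46 (x46) * (X 39 (x39) * (X 45 (x45) * (X 29 (x29) * (X 41 (x41) * (X 44 (x44) * (X 47 (x47) * (X 38 (x38) * (X 43 (x43) * (X 34 (x34) * (X 36 (x36) * (X 42 (x42) * (X 33 (x33))))))))))))))))))) = 1) :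
    Rch (X 37 (x37) * (X 32 (x32) * (X 35 (x35) * (X 31 (x31) * (X 40 (x40) * (X 46 (x46) * (X 39 (x39) * (X 45 (x45) * (X 29 (x29) * (X 41 (x41) * (X 44 (x44) * (X 47 (x47) * (X 38 (x38) * (X 43 (x43) * (X 34 (x34) * (X 36 (x36) * (X 42 (x42) * (X 33 (x33))))))))))))))))))) := by
  rcases eq_or_ne x32 0 with rfl | hx32
  · simp only [X_zero, one_mul, mul_one] at h ⊢
    exact n165 h
  · exact n181 hx32 h

lemma n183 {x28 x37 x35 x40 x46 x39 x45 x41 x44 x47 x43 : K} (hx28 : x28 ≠ 0)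
    (h : (X 28 (x28) * (X 37 (x37) * (X 35 (x35) * (X 40 (x40) * (X 46 (x46) * (X 39 (x39) * (X 45 (x45) * (X 41 (x41) * (X 44 (x44) * (X 47 (x47) * (X 43 (x43)))))))))))) * (X 28 (x28) * (X 37 (x37) * (X 35 (x35) * (X 40 (x40) * (X 46 (x46) * (X 39 (x39) * (X 45 (x45) * (X 41 (x41) * (X 44 (x44) * (X 47 (x47) * (X 43 (x43)))))))))))) = 1) :
    Rch (X 28 (x28) * (X 37 (x37) * (X 35 (x35) * (X 40 (x40) * (X 46 (x46) * (X 39 (x39) * (X 45 (x45) * (X 41 (x41) * (X 44 (x44) * (X 47 (x47) * (X 43 (x43)))))))))))) := by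
  have e : nS K g₄ 3 * (X 28 (x28) * (X 37 (x37) * (X 35 (x35) * (X 40 (x40) * (X 46 (x46) * (X 39 (x39) * (X 45 (x45) * (X 41 (x41) * (X 44 (x44) * (X 47 (x47) * (X 43 (x43)))))))))))) * (nS K g₄ 3)⁻¹ = (X 40 (x40) * (X 46 (x47) * (X 39 (x39) * (X 45 (x45) * (X 29 (x28) * (X 44 (x44) * (X 47 (x46) * (X 38 (x37) * (X 43 (x43) * (X 36 (x35) * (X 42 (x41)))))))))))) := by
    rw [← MulAut.conj_apply]
    simp only [map_mul, conj_s (i := 3) (r := 28) (r' := 29) (by decide +kernel), conj_s (i := 3) (r := 37) (r' := 38) (by decide +kernel), conj_s (i := 3) (r := 35) (r' := 36) (by decide +kernel), conj_s (i := 3) (r := 40) (r' := 40) (by decide +kernel), conj_s (i := 3) (r := 46) (r' := 47) (by decide +kernel), conj_s (i := 3) (r := 39) (r' := 39) (by decide +kernel), conj_s (i := 3) (r := 45) (r' := 45) (by decide +kernel), conj_s (i := 3) (r := 41) (r' := 42) (by decide +kernel), conj_s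 (i := 3) (r := 44) (r' := 44) (by decide +kernel), conj_s (i := 3) (r := 47) (r' := 46) (by decide +kernel), conj_s (i := 3) (r := 43) (r' := 43) (by decide +kernel)]
    all_goals normX
  exact Rch.step (nS_mem_group (by decide)) e h fun h' => n109 hx28 h'

lemma n184 {x28 x37 x32 x35 x40 x46 x39 x45 x44 x47 x43 : K} (hx28 : x28 ≠ 0) (hx32 : x32 ≠ 0)
    (h : (X 28 (x28) * (X 37 (x37) * (X 32 (x32) * (X 35 (x35) * (X 40 (x40) * (X 46 (x46) * (X 39 (x39) * (X 45 (x45) * (X 44 (x44) * (X 47 (x47) * (X 43 (x43)))))))))))) * (X 28 (x28) * (X 37 (x37) * (X 32 (x32) * (X 35 (x35) * (X 40 (x40) * (X 46 (x46) * (X 39 (x39) * (X 45 (x45) * (X 44 (x44) * (X 47 (x47) * (X 43 (x43)))))))))))) = 1) :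
    Rch (X 28 (x28) * (X 37 (x37) * (X 32 (x32) * (X 35 (x35) * (X 40 (x40) * (X 46 (x46) * (X 39 (x39) * (X 45 (x45) * (X 44 (x44) * (X 47 (x47) * (X 43 (x43)))))))))))) := by
  have e : nS K g₄ 3 * (X 28 (x28) * (X 37 (x37) * (X 32 (x32) * (X 35 (x35) * (X 40 (x40) * (X 46 (x46) * (X 39 (x39) * (X 45 (x45) * (X 44 (x44) * (X 47 (x47) * (X 43 (x43)))))))))))) * (nS K g₄ 3)⁻¹ = (X 32 (x32) * (X 40 (x40) * (X 46 (x47) * (X 39 (x39) * (X 45 (x45) * (X 29 (x28) * (X 44 (x44) * (X 47 (x46) * (X 38 (x37) * (X 43 (x43) * (X 36 (x35)))))))))))) := by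
    rw [← MulAut.conj_apply]
    simp only [map_mul, conj_s (i := 3) (r := 28) (r' := 29) (by decide +kernel), conj_s (i := 3) (r := 37) (r' := 38) (by decide +kernel), conj_s (i := 3) (r := 32) (r' := 32) (by decide +kernel), conj_s (i := 3) (r := 35) (r' := 36) (by decide +kernel), conj_s (i := 3) (r := 40) (r' := 40) (by decide +kernel), conj_s (i := 3) (r := 46) (r' := 47) (by decide +kernel), conj_s (i := 3) (r := 39) (r' := 39) (by decide +kernel), conj_s (i := 3) (r := 45) (r' := 45) (by decide +kernel), conj_s (i := 3) (r := 44) (r' := 44) (by decide +kernel), conj_s (i := 3) (r := 47) (r' := 46) (by decide +kernel), conj_s (i := 3) (r := 43) (r' := 43) (by decide +kernel)]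
    all_goals normX
  exact Rch.step (nS_mem_group (by decide)) e h fun h' => n159 hx32 hx28 h'

lemma n185 {x28 x37 x32 x35 x40 x46 x39 x45 x41 x44 x47 x43 : K} (hx28 : x28 ≠ 0) (hx32 : x32 ≠ 0)
    (h : (X 28 (x28) * (X 37 (x37) * (X 32 (x32) * (X 35 (x35) * (X 40 (x40) * (X 46 (x46) * (X 39 (x39) * (X 45 (x45) * (X 41 (x41) * (X 44 (x44) * (X 47 (x47) * (X 43 (x43))))))))))))) * (X 28 (x28) * (X 37 (x37) * (X 32 (x32) * (X 35 (x35) * (X 40 (x40) * (X 46 (x46) * (X 39 (x39) * (X 45 (x45) * (X 41 (x41) * (X 44 (x44) * (X 47 (x47) * (X 43 (x43))))))))))))) = 1) :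
    Rch (X 28 (x28) * (X 37 (x37) * (X 32 (x32) * (X 35 (x35) * (X 40 (x40) * (X 46 (x46) * (X 39 (x39) * (X 45 (x45) * (X 41 (x41) * (X 44 (x44) * (X 47 (x47) * (X 43 (x43))))))))))))) := by
  have e : (X 28 (x28) * (X 37 (x37) * (X 32 (x32) * (X 35 (x35) * (X 40 (x40) * (X 46 (x46) * (X 39 (x39) * (X 45 (x45) * (X 41 (x41) * (X 44 (x44) * (X 47 (x47) * (X 43 (x43))))))))))))) * (X 28 (x28) * (X 37 (x37) * (X 32 (x32) * (X 35 (x35) * (X 40 (x40) * (X 46 (x46) * (X 39 (x39) * (X 45 (x45) * (X 41 (x41) * (X 44 (x44) * (X 47 (x47) * (X 43 (x43))))))))))))) = Z (0, 0) (0, 0) (0, 0) (0, 0) (0, x32 * x41) (0, 0) (0, 0) (0, 0) (0, 0) (0, 0) (0, 0) (0, 0) := by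
    unfold Z
    normX
  have e' := Z_inj (e.symm.trans (h.trans one_Z))
  obtain ⟨-, -, -, -, e4, -, -, -, -, -, -, -⟩ := e'
  have z41 : x41 = 0 := zero_of (congrArg Prod.snd e4) fun hx41 =>
    (mul_ne_zero hx32 hx41)
  subst z41
  simp only [X_zero, one_mul, mul_one] at h ⊢
  exact n184 hx28 hx32 h

lemma n186 {x28 x37 x32 x35 x40 x46 x39 x45 x41 x44 x47 x43 : K} (hx28 : x28 ≠ 0)
    (h : (X 28 (x28) * (X 37 (x37) * (X 32 (x32) * (X 35 (x35) * (X 40 (x40) * (X 46 (x46) * (X 39 (x39) * (X 45 (x45) * (X 41 (x41) * (X 44 (x44) * (X 47 (x47) * (X 43 (x43))))))))))))) * (X 28 (x28) * (X 37 (x37) * (X 32 (x32) * (X 35 (x35) * (X 40 (x40) * (X 46 (x46) * (X 39 (x39) * (X 45 (x45) * (X 41 (x41) * (X 44 (x44) * (X 47 (x47) * (X 43 (x43))))))))))))) = 1) :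
    Rch (X 28 (x28) * (X 37 (x37) * (X 32 (x32) * (X 35 (x35) * (X 40 (x40) * (X 46 (x46) * (X 39 (x39) * (X 45 (x45) * (X 41 (x41) * (X 44 (x44) * (X 47 (x47) * (X 43 (x43))))))))))))) := by
  rcases eq_or_ne x32 0 with rfl | hx32
  · simp only [X_zero, one_mul, mul_one] at h ⊢
    exact n183 hx28 h
  · exact n185 hx28 hx32 h

lemma n187 {x28 x37 x32 x35 x40 x46 x39 x45 x41 x44 x47 x43 x42 : K} (hx28 : x28 ≠ 0)
    (h : (X 28 (x28) * (X 37 (x37) * (X 32 (x32) * (X 35 (x35) * (X 40 (x40) * (X 46 (x46) * (X 39 (x39) * (X 45 (x45) * (X 41 (x41) * (X 44 (x44) * (X 47 (x47) * (X 43 (x43) * (X 42 (x42)))))))))))))) * (X 28 (x28) * (X 37 (x37) * (X 32 (x32) * (X 35 (x35) * (X 40 (x40) * (X 46 (x46) * (X 39 (x39) * (X 45 (x45) * (X 41 (x41) * (X 44 (x44) * (X 47 (x47) * (X 43 (x43) * (X 42 (x42)))))))))))))) = 1) :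
    Rch (X 28 (x28) * (X 37 (x37) * (X 32 (x32) * (X 35 (x35) * (X 40 (x40) * (X 46 (x46) * (X 39 (x39) * (X 45 (x45) * (X 41 (x41) * (X 44 (x44) * (X 47 (x47) * (X 43 (x43) * (X 42 (x42)))))))))))))) := by
  have e : (X 28 (x28) * (X 37 (x37) * (X 32 (x32) * (X 35 (x35) * (X 40 (x40) * (X 46 (x46) * (X 39 (x39) * (X 45 (x45) * (X 41 (x41) * (X 44 (x44) * (X 47 (x47) * (X 43 (x43) * (X 42 (x42)))))))))))))) * (X 28 (x28) * (X 37 (x37) * (X 32 (x32) * (X 35 (x35) * (X 40 (x40) * (X 46 (x46) * (X 39 (x39) * (X 45 (x45) * (X 41 (x41) * (X 44 (x44) * (X 47 (x47) * (X 43 (x43) * (X 42 (x42)))))))))))))) = Z (0, 0) (0, 0) (0, 0) (0, 0) (0, x28 ^ 2 * x42 + x32 * x41) (0, 0) (0, 0) (x28 * x42, x32 * x42) (0, 0) (0, 0) (0, 0) (0, 0) := by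
    unfold Z
    normX
  have e' := Z_inj (e.symm.trans (h.trans one_Z))
  obtain ⟨-, -, -, -, -, -, -, e7, -, -, -, -⟩ := e'
  have z42 : x42 = 0 := zero_of (congrArg Prod.fst e7) fun hx42 =>
    (mul_ne_zero hx28 hx42)
  subst z42
  simp only [X_zero, one_mul, mul_one] at h ⊢
  exact n186 hx28 h

lemma n188 {x28 x37 x32 x35 x40 x46 x39 x45 x41 x44 x47 x38 x43 x36 x42 : K} (hx28 : x28 ≠ 0)
    (h : (X 28 (x28) * (X 37 (x37) * (X 32 (x32) * (X 35 (x35) * (X 40 (x40) * (X 46 (x46) * (X 39 (x39) * (X 45 (x45) * (X 41 (x41) * (X 44 (x44) * (X 47 (x47) * (X 38 (x38) * (X 43 (x43) * (X 36 (x36) * (X 42 (x42)))))))))))))))) * (X 28 (x28) * (X 37 (x37) * (X 32 (x32) * (X 35 (x35) * (X 40 (x40) * (X 46 (x46) * (X 39 (x39) * (X 45 (x45) * (X 41 (x41) * (X 44 (x44) * (X 47 (x47) * (X 38 (x38) * (X 43 (x43) * (X 36 (x36) * (X 42 (x42)))))))))))))))) = 1) :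
    Rch (X 28 (x28) * (X 37 (x37) * (X 32 (x32) * (X 35 (x35) * (X 40 (x40) * (X 46 (x46) * (X 39 (x39) * (X 45 (x45) * (X 41 (x41) * (X 44 (x44) * (X 47 (x47) * (X 38 (x38) * (X 43 (x43) * (X 36 (x36) * (X 42 (x42)))))))))))))))) := by
  have e : (X 28 (x28) * (X 37 (x37) * (X 32 (x32) * (X 35 (x35) * (X 40 (x40) * (X 46 (x46) * (X 39 (x39) * (X 45 (x45) * (X 41 (x41) * (X 44 (x44) * (X 47 (x47) * (X 38 (x38) * (X 43 (x43) * (X 36 (x36) * (X 42 (x42)))))))))))))))) * (X 28 (x28) * (X 37 (x37) * (X 32 (x32) * (X 35 (x35) * (X 40 (x40) * (X 46 (x46) * (X 39 (x39) * (X 45 (x45) * (X 41 (x41) * (X 44 (x44) * (X 47 (x47) * (X 38 (x38) * (X 43 (x43) * (X 36 (x36) * (X 42 (x42)))))))))))))))) = Z (0, 0) (0, 0) (0, 0) (0, 0) (x28 * x38, x28 ^ 2 * x42 + x32 * x41) (x28 * x36, 0) (0, 0) (x28 * x42 + x35 * x38 + x36 * x37, x32 * x42) (0, 0) (0, 0) (0, 0) (0, 0) := by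
    unfold Z
    normX
  have e' := Z_inj (e.symm.trans (h.trans one_Z))
  obtain ⟨-, -, -, -, e4, e5, -, -, -, -, -, -⟩ := e'
  have z38 : x38 = 0 := zero_of (congrArg Prod.fst e4) fun hx38 =>
    (mul_ne_zero hx28 hx38)
  have z36 : x36 = 0 := zero_of (congrArg Prod.fst e5) fun hx36 =>
    (mul_ne_zero hx28 hx36)
  subst z38 z36
  simp only [X_zero, one_mul, mul_one] at h ⊢
  exact n187 hx28 h

lemma n189 {x28 x37 x32 x35 x40 x46 x39 x45 x29 x41 x44 x47 x38 x43 x36 x42 : K} (hx28 : x28 ≠ 0)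
    (h : (X 28 (x28) * (X 37 (x37) * (X 32 (x32) * (X 35 (x35) * (X 40 (x40) * (X 46 (x46) * (X 39 (x39) * (X 45 (x45) * (X 29 (x29) * (X 41 (x41) * (X 44 (x44) * (X 47 (x47) * (X 38 (x38) * (X 43 (x43) * (X 36 (x36) * (X 42 (x42))))))))))))))))) * (X 28 (x28) * (X 37 (x37) * (X 32 (x32) * (X 35 (x35) * (X 40 (x40) * (X 46 (x46) * (X 39 (x39) * (X 45 (x45) * (X 29 (x29) * (X 41 (x41) * (X 44 (x44) * (X 47 (x47) * (X 38 (x38) * (X 43 (x43) * (X 36 (x36) * (X 42 (x42))))))))))))))))) = 1) :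
    Rch (X 28 (x28) * (X 37 (x37) * (X 32 (x32) * (X 35 (x35) * (X 40 (x40) * (X 46 (x46) * (X 39 (x39) * (X 45 (x45) * (X 29 (x29) * (X 41 (x41) * (X 44 (x44) * (X 47 (x47) * (X 38 (x38) * (X 43 (x43) * (X 36 (x36) * (X 42 (x42))))))))))))))))) := by
  obtain ⟨d, hd⟩ : ∃ d : K, (x28) * d = x29 :=
    exists_lin hx28 _
  have hw : (d * x28 + x29) = 0 := by linear_combination hd + (x29) * CharTwo.two_eq_zero (R := K)
  have e : X 24 d * (X 28 (x28) * (X 37 (x37) * (X 32 (x32) * (X 35 (x35) * (X 40 (x40) * (X 46 (x46) * (X 39 (x39) * (X 45 (x45) * (X 29 (x29) * (X 41 (x41) * (X 44 (x44) * (X 47 (x47) * (X 38 (x38) * (X 43 (x43) * (X 36 (x36) * (X 42 (x42))))))))))))))))) * (X 24 d)⁻¹ = (X 28 (x28) * (X 37 (x37) * (X 32 (d * x28 ^ 2 + x32) * (X 35 (x35) * (X 40 (d * x28 * x37 + x40) * (X 46 (x46) * (X 39 (d * x28 * x35 + x39) * (X 45 (d * x37 ^ 2 + x45) * (X 29 (d * x28 + x29) * (X 41 (x41)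 * (X 44 (d * x35 * x37 + x44) * (X 47 (d * x46 + x47) * (X 38 (d * x37 + x38) * (X 43 (d * x35 ^ 2 + x43) * (X 36 (d * x35 + x36) * (X 42 (d * x41 + x42))))))))))))))))) := by
    rw [inv_eq]
    normX
  rw [hw, X_zero] at e
  simp only [one_mul, mul_one] at e
  exact Rch.step (xG_mem_group g₄ 24 d) e h fun h' => n188 hx28 h'

lemma n190 {x27 x37 x31 x40 x46 x39 x45 x29 x41 x44 x47 x38 x43 x34 x36 x42 : K} (hx27 : x27 ≠ 0)
    (h : (X 27 (x27) * (X 37 (x37) * (X 31 (x31) * (X 40 (x40) * (X 46 (x46) * (X 39 (x39) * (X 45 (x45) * (X 29 (x29) * (X 41 (x41) * (X 44 (x44) * (X 47 (x47) * (X 38 (x38) * (X 43 (x43) * (X 34 (x34) * (X 36 (x36) * (X 42 (x42))))))))))))))))) * (X 27 (x27) * (X 37 (x37) * (X 31 (x31) * (X 40 (x40) * (X 46 (x46) * (X 39 (x39) * (X 45 (x45) * (X 29 (x29) * (X 41 (x41) * (X 44 (x44) * (X 47 (x47) * (X 38 (x38) * (X 43 (x43) * (X 34 (x34) * (X 36 (x36) * (X 42 (x42)))))))))))))))))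 = 1) :
    Rch (X 27 (x27) * (X 37 (x37) * (X 31 (x31) * (X 40 (x40) * (X 46 (x46) * (X 39 (x39) * (X 45 (x45) * (X 29 (x29) * (X 41 (x41) * (X 44 (x44) * (X 47 (x47) * (X 38 (x38) * (X 43 (x43) * (X 34 (x34) * (X 36 (x36) * (X 42 (x42))))))))))))))))) := by
  have e : nS K g₄ 2 * (X 27 (x27) * (X 37 (x37) * (X 31 (x31) * (X 40 (x40) * (X 46 (x46) * (X 39 (x39) * (X 45 (x45) * (X 29 (x29) * (X 41 (x41) * (X 44 (x44) * (X 47 (x47) * (X 38 (x38) * (X 43 (x43) * (X 34 (x34) * (X 36 (x36) * (X 42 (x42))))))))))))))))) * (nS K g₄ 2)⁻¹ = (X 28 (x27) * (X 37 (x37) * (X 32 (x31) * (X 35 (x34) * (X 40 (x40) * (X 46 (x45) * (X 39 (x29 * x34 + x38) * (X 45 (x46) * (X 29 (x29) * (X 41 (x41) * (X 44 (x34 * x39 + x44) * (X 47 (x47) * (X 38 (x39) * (X 43 (x42) * (X 36 (x36) * (X 42 (x43))))))))))))))))) := by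
    rw [← MulAut.conj_apply]
    simp only [map_mul, conj_s (i := 2) (r := 27) (r' := 28) (by decide +kernel), conj_s (i := 2) (r := 37) (r' := 37) (by decide +kernel), conj_s (i := 2) (r := 31) (r' := 32) (by decide +kernel), conj_s (i := 2) (r := 40) (r' := 40) (by decide +kernel), conj_s (i := 2) (r := 46) (r' := 45) (by decide +kernel), conj_s (i := 2) (r := 39) (r' := 38) (by decide +kernel), conj_s (i := 2) (r := 45) (r' := 46) (by decide +kernel), conj_s (i := 2) (r := 29) (r' := 29) (by decide +kernel), conj_s (i := 2) (r := 41) (r' := 41) (by decide +kernel), conj_s (i := 2) (r := 44) (r' := 44) (by decide +kernel), conj_s (i := 2) (r := 47) (r' := 47) (by decide +kernel), conj_s (i := 2) (r := 38) (r' := 39) (by decide +kernel), conj_s (i := 2) (r := 43) (r' := 42) (by decide +kernel), conj_s (i := 2) (r := 34) (r' := 35) (by decide +kernel), conj_s (i := 2) (r := 36) (r' :=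 36) (by decide +kernel), conj_s (i := 2) (r := 42) (r' := 43) (by decide +kernel)]
    all_goals normX
  exact Rch.step (nS_mem_group (by decide)) e h fun h' => n189 hx27 h'

lemma n191 {x40 x45 x44 x47 x43 : K} (hx40 : x40 ≠ 0) (hx43 : x43 ≠ 0)
    (h : (X 40 (x40) * (X 45 (x45) * (X 44 (x44) * (X 47 (x47) * (X 43 (x43)))))) * (X 40 (x40) * (X 45 (x45) * (X 44 (x44) * (X 47 (x47) * (X 43 (x43)))))) = 1) :
    Rch (X 40 (x40) * (X 45 (x45) * (X 44 (x44) * (X 47 (x47) * (X 43 (x43)))))) := by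
  obtain ⟨d, hd⟩ : ∃ d : K, (x43) * d = x44 :=
    exists_lin hx43 _
  have hw : (d * x43 + x44) = 0 := by linear_combination hd + (x44) * CharTwo.two_eq_zero (R := K)
  have e : X 27 d * (X 40 (x40) * (X 45 (x45) * (X 44 (x44) * (X 47 (x47) * (X 43 (x43)))))) * (X 27 d)⁻¹ = (X 40 (x40) * (X 45 (d ^ 2 * x43 + x45) * (X 44 (d * x43 + x44) * (X 47 (x47) * (X 43 (x43)))))) := by
    rw [inv_eq]
    normX
  rw [hw, X_zero] at e
  simp only [one_mul, mul_one] at e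
  exact Rch.step (xG_mem_group g₄ 27 d) e h fun h' => n31 hx40 hx43 h'

lemma n192 {x40 x46 x44 x47 x42 : K} (hx40 : x40 ≠ 0) (hx42 : x42 ≠ 0)
    (h : (X 40 (x40) * (X 46 (x46) * (X 44 (x44) * (X 47 (x47) * (X 42 (x42)))))) * (X 40 (x40) * (X 46 (x46) * (X 44 (x44) * (X 47 (x47) * (X 42 (x42)))))) = 1) :
    Rch (X 40 (x40) * (X 46 (x46) * (X 44 (x44) * (X 47 (x47) * (X 42 (x42)))))) := by
  have e : nS K g₄ 2 * (X 40 (x40) * (X 46 (x46) * (X 44 (x44) * (X 47 (x47) * (X 42 (x42)))))) * (nS K g₄ 2)⁻¹ = (X 40 (x40) * (X 45 (x46) * (X 44 (x44) * (X 47 (x47) * (X 43 (x42)))))) := by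
    rw [← MulAut.conj_apply]
    simp only [map_mul, conj_s (i := 2) (r := 40) (r' := 40) (by decide +kernel), conj_s (i := 2) (r := 46) (r' := 45) (by decide +kernel), conj_s (i := 2) (r := 44) (r' := 44) (by decide +kernel), conj_s (i := 2) (r := 47) (r' := 47) (by decide +kernel), conj_s (i := 2) (r := 42) (r' := 43) (by decide +kernel)]
    all_goals normX
  exact Rch.step (nS_mem_group (by decide)) e h fun h' => n191 hx40 hx42 h'

lemma n193 {x40 x46 x44 x47 x43 x42 : K} (hx40 : x40 ≠ 0) (hx42 : x42 ≠ 0)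
    (h : (X 40 (x40) * (X 46 (x46) * (X 44 (x44) * (X 47 (x47) * (X 43 (x43) * (X 42 (x42))))))) * (X 40 (x40) * (X 46 (x46) * (X 44 (x44) * (X 47 (x47) * (X 43 (x43) * (X 42 (x42))))))) = 1) :
    Rch (X 40 (x40) * (X 46 (x46) * (X 44 (x44) * (X 47 (x47) * (X 43 (x43) * (X 42 (x42))))))) := by
  obtain ⟨d, hd⟩ : ∃ d : K, (x42) * d = x43 :=
    exists_lin hx42 _
  have hw : (d * x42 + x43) = 0 := by linear_combination hd + (x43) * CharTwo.two_eq_zero (R := K)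
  have e : X 25 d * (X 40 (x40) * (X 46 (x46) * (X 44 (x44) * (X 47 (x47) * (X 43 (x43) * (X 42 (x42))))))) * (X 25 d)⁻¹ = (X 40 (x40) * (X 46 (x46) * (X 44 (x44) * (X 47 (x47) * (X 43 (d * x42 + x43) * (X 42 (x42))))))) := by
    rw [inv_eq]
    normX
  rw [hw, X_zero] at e
  simp only [one_mul, mul_one] at e
  exact Rch.step (xG_mem_group g₄ 25 d) e h fun h' => n192 hx40 hx42 h'

lemma n194 {x46 x39 x45 x44 x47 x42 : K} (hx39 : x39 ≠ 0) (hx42 : x42 ≠ 0)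
    (h : (X 46 (x46) * (X 39 (x39) * (X 45 (x45) * (X 44 (x44) * (X 47 (x47) * (X 42 (x42))))))) * (X 46 (x46) * (X 39 (x39) * (X 45 (x45) * (X 44 (x44) * (X 47 (x47) * (X 42 (x42))))))) = 1) :
    Rch (X 46 (x46) * (X 39 (x39) * (X 45 (x45) * (X 44 (x44) * (X 47 (x47) * (X 42 (x42))))))) := by
  have e : nS K g₄ 1 * (X 46 (x46) * (X 39 (x39) * (X 45 (x45) * (X 44 (x44) * (X 47 (x47) * (X 42 (x42))))))) * (nS K g₄ 1)⁻¹ = (X 40 (x39) * (X 46 (x46) * (X 44 (x44) * (X 47 (x47) * (X 43 (x45) * (X 42 (x42))))))) := by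
    rw [← MulAut.conj_apply]
    simp only [map_mul, conj_s (i := 1) (r := 46) (r' := 46) (by decide +kernel), conj_s (i := 1) (r := 39) (r' := 40) (by decide +kernel), conj_s (i := 1) (r := 45) (r' := 43) (by decide +kernel), conj_s (i := 1) (r := 44) (r' := 44) (by decide +kernel), conj_s (i := 1) (r := 47) (r' := 47) (by decide +kernel), conj_s (i := 1) (r := 42) (r' := 42) (by decide +kernel)]
    all_goals normX
  exact Rch.step (nS_mem_group (by decide)) e h fun h' => n193 hx39 hx42 h'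

lemma n195 {x40 x46 x39 x45 x44 x47 x42 : K} (hx39 : x39 ≠ 0) (hx42 : x42 ≠ 0)
    (h : (X 40 (x40) * (X 46 (x46) * (X 39 (x39) * (X 45 (x45) * (X 44 (x44) * (X 47 (x47) * (X 42 (x42)))))))) * (X 40 (x40) * (X 46 (x46) * (X 39 (x39) * (X 45 (x45) * (X 44 (x44) * (X 47 (x47) * (X 42 (x42)))))))) = 1) :
    Rch (X 40 (x40) * (X 46 (x46) * (X 39 (x39) * (X 45 (x45) * (X 44 (x44) * (X 47 (x47) * (X 42 (x42)))))))) := by
  obtain ⟨d, hd⟩ : ∃ d : K, (x39) * d = x40 :=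
    exists_lin hx39 _
  have hw : (d * x39 + x40) = 0 := by linear_combination hd + (x40) * CharTwo.two_eq_zero (R := K)
  have e : X 27 d * (X 40 (x40) * (X 46 (x46) * (X 39 (x39) * (X 45 (x45) * (X 44 (x44) * (X 47 (x47) * (X 42 (x42)))))))) * (X 27 d)⁻¹ = (X 40 (d * x39 + x40) * (X 46 (x46) * (X 39 (x39) * (X 45 (x45) * (X 44 (x44) * (X 47 (x47) * (X 42 (x42)))))))) := by
    rw [inv_eq]
    normX
  rw [hw, X_zero] at e
  simp only [one_mul, mul_one] at e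
  exact Rch.step (xG_mem_group g₄ 27 d) e h fun h' => n194 hx39 hx42 h'

lemma n196 {x40 x46 x39 x45 x41 x44 x47 : K} (hx39 : x39 ≠ 0) (hx41 : x41 ≠ 0)
    (h : (X 40 (x40) * (X 46 (x46) * (X 39 (x39) * (X 45 (x45) * (X 41 (x41) * (X 44 (x44) * (X 47 (x47)))))))) * (X 40 (x40) * (X 46 (x46) * (X 39 (x39) * (X 45 (x45) * (X 41 (x41) * (X 44 (x44) * (X 47 (x47)))))))) = 1) :
    Rch (X 40 (x40) * (X 46 (x46) * (X 39 (x39) * (X 45 (x45) * (X 41 (x41) * (X 44 (x44) * (X 47 (x47)))))))) := by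
  have e : nS K g₄ 3 * (X 40 (x40) * (X 46 (x46) * (X 39 (x39) * (X 45 (x45) * (X 41 (x41) * (X 44 (x44) * (X 47 (x47)))))))) * (nS K g₄ 3)⁻¹ = (X 40 (x40) * (X 46 (x47) * (X 39 (x39) * (X 45 (x45) * (X 44 (x44) * (X 47 (x46) * (X 42 (x41)))))))) := by
    rw [← MulAut.conj_apply]
    simp only [map_mul, conj_s (i := 3) (r := 40) (r' := 40) (by decide +kernel), conj_s (i := 3) (r := 46) (r' := 47) (by decide +kernel), conj_s (i := 3) (r := 39) (r' := 39) (by decide +kernel), conj_s (i := 3) (r := 45) (r' := 45) (by decide +kernel), conj_s (i := 3) (r := 41) (r' := 42) (by decide +kernel), conj_s (i := 3) (r := 44) (r' := 44) (by decide +kernel), conj_s (i := 3) (r := 47) (r' := 46) (by decide +kernel)]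
    all_goals normX
  exact Rch.step (nS_mem_group (by decide)) e h fun h' => n195 hx39 hx41 h'

lemma n197 {x40 x46 x39 x45 x41 x44 x47 x42 : K} (hx39 : x39 ≠ 0) (hx41 : x41 ≠ 0)
    (h : (X 40 (x40) * (X 46 (x46) * (X 39 (x39) * (X 45 (x45) * (X 41 (x41) * (X 44 (x44) * (X 47 (x47) * (X 42 (x42))))))))) * (X 40 (x40) * (X 46 (x46) * (X 39 (x39) * (X 45 (x45) * (X 41 (x41) * (X 44 (x44) * (X 47 (x47) * (X 42 (x42))))))))) = 1) :
    Rch (X 40 (x40) * (X 46 (x46) * (X 39 (x39) * (X 45 (x45) * (X 41 (x41) * (X 44 (x44) * (X 47 (x47) * (X 42 (x42))))))))) := by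
  obtain ⟨d, hd⟩ : ∃ d : K, (x41) * d = x42 :=
    exists_lin hx41 _
  have hw : (d * x41 + x42) = 0 := by linear_combination hd + (x42) * CharTwo.two_eq_zero (R := K)
  have e : X 24 d * (X 40 (x40) * (X 46 (x46) * (X 39 (x39) * (X 45 (x45) * (X 41 (x41) * (X 44 (x44) * (X 47 (x47) * (X 42 (x42))))))))) * (X 24 d)⁻¹ = (X 40 (x40) * (X 46 (x46) * (X 39 (x39) * (X 45 (x45) * (X 41 (x41) * (X 44 (x44) * (X 47 (d * x46 + x47) * (X 42 (d * x41 + x42))))))))) := by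
    rw [inv_eq]
    normX
  rw [hw, X_zero] at e
  simp only [one_mul, mul_one] at e
  exact Rch.step (xG_mem_group g₄ 24 d) e h fun h' => n196 hx39 hx41 h'

lemma n198 {x40 x46 x45 x41 x44 x47 x38 x43 : K} (hx41 : x41 ≠ 0) (hx38 : x38 ≠ 0)
    (h : (X 40 (x40) * (X 46 (x46) * (X 45 (x45) * (X 41 (x41) * (X 44 (x44) * (X 47 (x47) * (X 38 (x38) * (X 43 (x43))))))))) * (X 40 (x40) * (X 46 (x46) * (X 45 (x45) * (X 41 (x41) * (X 44 (x44) * (X 47 (x47) * (X 38 (x38) * (X 43 (x43))))))))) = 1) :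
    Rch (X 40 (x40) * (X 46 (x46) * (X 45 (x45) * (X 41 (x41) * (X 44 (x44) * (X 47 (x47) * (X 38 (x38) * (X 43 (x43))))))))) := by
  have e : nS K g₄ 2 * (X 40 (x40) * (X 46 (x46) * (X 45 (x45) * (X 41 (x41) * (X 44 (x44) * (X 47 (x47) * (X 38 (x38) * (X 43 (x43))))))))) * (nS K g₄ 2)⁻¹ = (X 40 (x40) * (X 46 (x45) * (X 39 (x38) * (X 45 (x46) * (X 41 (x41) * (X 44 (x44) * (X 47 (x47) * (X 42 (x43))))))))) := by
    rw [← MulAut.conj_apply]
    simp only [map_mul, conj_s (i := 2) (r := 40) (r' := 40) (by decide +kernel), conj_s (i := 2) (r := 46) (r' := 45) (by decide +kernel), conj_s (i := 2) (r := 45) (r' := 46) (by decide +kernel), conj_s (i := 2) (r := 41) (r' := 41) (by decide +kernel), conj_s (i := 2) (r := 44) (r' := 44) (by decide +kernel), conj_s (i := 2) (r := 47) (r' := 47) (by decide +kernel), conj_s (i := 2) (r := 38) (r' := 39) (by decide +kernel), conj_s (i := 2) (r :=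 43) (r' := 42) (by decide +kernel)]
    all_goals normX
  exact Rch.step (nS_mem_group (by decide)) e h fun h' => n197 hx38 hx41 h'

lemma n199 {x40 x46 x39 x45 x41 x44 x47 x38 x43 : K} (hx41 : x41 ≠ 0) (hx38 : x38 ≠ 0)
    (h : (X 40 (x40) * (X 46 (x46) * (X 39 (x39) * (X 45 (x45) * (X 41 (x41) * (X 44 (x44) * (X 47 (x47) * (X 38 (x38) * (X 43 (x43)))))))))) * (X 40 (x40) * (X 46 (x46) * (X 39 (x39) * (X 45 (x45) * (X 41 (x41) * (X 44 (x44) * (X 47 (x47) * (X 38 (x38) * (X 43 (x43)))))))))) = 1) :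
    Rch (X 40 (x40) * (X 46 (x46) * (X 39 (x39) * (X 45 (x45) * (X 41 (x41) * (X 44 (x44) * (X 47 (x47) * (X 38 (x38) * (X 43 (x43)))))))))) := by
  obtain ⟨d, hd⟩ : ∃ d : K, (x38) * d = x39 :=
    exists_lin hx38 _
  have hw : (d * x38 + x39) = 0 := by linear_combination hd + (x39) * CharTwo.two_eq_zero (R := K)
  have e : X 25 d * (X 40 (x40) * (X 46 (x46) * (X 39 (x39) * (X 45 (x45) * (X 41 (x41) * (X 44 (x44) * (X 47 (x47) * (X 38 (x38) * (X 43 (x43)))))))))) * (X 25 d)⁻¹ = (X 40 (x40) * (X 46 (d * x45 + x46) * (X 39 (d * x38 + x39) * (X 45 (x45) * (X 41 (x41) * (X 44 (x44) * (X 47 (d * x38 ^ 2 + x47) * (X 38 (x38) * (X 43 (x43)))))))))) := by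
    rw [inv_eq]
    normX
  rw [hw, X_zero] at e
  simp only [one_mul, mul_one] at e
  exact Rch.step (xG_mem_group g₄ 25 d) e h fun h' => n198 hx41 hx38 h'

lemma n200 {x40 x46 x39 x45 x41 x44 x47 x43 x36 : K} (hx41 : x41 ≠ 0) (hx36 : x36 ≠ 0)
    (h : (X 40 (x40) * (X 46 (x46) * (X 39 (x39) * (X 45 (x45) * (X 41 (x41) * (X 44 (x44) * (X 47 (x47) * (X 43 (x43) * (X 36 (x36)))))))))) * (X 40 (x40) * (X 46 (x46) * (X 39 (x39) * (X 45 (x45) * (X 41 (x41) * (X 44 (x44) * (X 47 (x47) * (X 43 (x43) * (X 36 (x36)))))))))) = 1) :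
    Rch (X 40 (x40) * (X 46 (x46) * (X 39 (x39) * (X 45 (x45) * (X 41 (x41) * (X 44 (x44) * (X 47 (x47) * (X 43 (x43) * (X 36 (x36)))))))))) := by
  have e : nS K g₄ 1 * (X 40 (x40) * (X 46 (x46) * (X 39 (x39) * (X 45 (x45) * (X 41 (x41) * (X 44 (x44) * (X 47 (x47) * (X 43 (x43) * (X 36 (x36)))))))))) * (nS K g₄ 1)⁻¹ = (X 40 (x39) * (X 46 (x46) * (X 39 (x40) * (X 45 (x43) * (X 41 (x41) * (X 44 (x44) * (X 47 (x47) * (X 38 (x36) * (X 43 (x45)))))))))) := by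
    rw [← MulAut.conj_apply]
    simp only [map_mul, conj_s (i := 1) (r := 40) (r' := 39) (by decide +kernel), conj_s (i := 1) (r := 46) (r' := 46) (by decide +kernel), conj_s (i := 1) (r := 39) (r' := 40) (by decide +kernel), conj_s (i := 1) (r := 45) (r' := 43) (by decide +kernel), conj_s (i := 1) (r := 41) (r' := 41) (by decide +kernel), conj_s (i := 1) (r := 44) (r' := 44) (by decide +kernel), conj_s (i := 1) (r := 47) (r' := 47) (by decide +kernel), conj_s (i := 1) (r := 43) (r' := 45) (by decide +kernel), conj_s (i := 1) (r := 36) (r' := 38) (by decide +kernel)]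
    all_goals normX
  exact Rch.step (nS_mem_group (by decide)) e h fun h' => n199 hx41 hx36 h'

lemma n201 {x40 x46 x39 x45 x41 x44 x47 x38 x43 x36 : K} (hx41 : x41 ≠ 0) (hx36 : x36 ≠ 0)
    (h : (X 40 (x40) * (X 46 (x46) * (X 39 (x39) * (X 45 (x45) * (X 41 (x41) * (X 44 (x44) * (X 47 (x47) * (X 38 (x38) * (X 43 (x43) * (X 36 (x36))))))))))) * (X 40 (x40) * (X 46 (x46) * (X 39 (x39) * (X 45 (x45) * (X 41 (x41) * (X 44 (x44) * (X 47 (x47) * (X 38 (x38) * (X 43 (x43) * (X 36 (x36))))))))))) = 1) :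
    Rch (X 40 (x40) * (X 46 (x46) * (X 39 (x39) * (X 45 (x45) * (X 41 (x41) * (X 44 (x44) * (X 47 (x47) * (X 38 (x38) * (X 43 (x43) * (X 36 (x36))))))))))) := by
  obtain ⟨d, hd⟩ : ∃ d : K, (x36) * d = x38 :=
    exists_lin hx36 _
  have hw : (d * x36 + x38) = 0 := by linear_combination hd + (x38) * CharTwo.two_eq_zero (R := K)
  have e : X 27 d * (X 40 (x40) * (X 46 (x46) * (X 39 (x39) * (X 45 (x45) * (X 41 (x41) * (X 44 (x44) * (X 47 (x47) * (X 38 (x38) * (X 43 (x43) * (X 36 (x36))))))))))) * (X 27 d)⁻¹ = (X 40 (d * x39 + x40) * (X 46 (x46) * (X 39 (x39) * (X 45 (d ^ 2 * x43 + x45) * (X 41 (x41) * (X 44 (d * x43 + x44) * (X 47 (x47) * (X 38 (d * x36 + x38) * (X 43 (x43) * (X 36 (x36))))))))))) := by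
    rw [inv_eq]
    normX
  rw [hw, X_zero] at e
  simp only [one_mul, mul_one] at e
  exact Rch.step (xG_mem_group g₄ 27 d) e h fun h' => n200 hx41 hx36 h'

lemma n202 {x30 x32 x40 x46 x39 x45 x29 x44 x47 x38 : K} (hx30 : x30 ≠ 0) (hx29 : x29 ≠ 0)
    (h : (X 30 (x30) * (X 32 (x32) * (X 40 (x40) * (X 46 (x46) * (X 39 (x39) * (X 45 (x45) * (X 29 (x29) * (X 44 (x44) * (X 47 (x47) * (X 38 (x38))))))))))) * (X 30 (x30) * (X 32 (x32) * (X 40 (x40) * (X 46 (x46) * (X 39 (x39) * (X 45 (x45) * (X 29 (x29) * (X 44 (x44) * (X 47 (x47) * (X 38 (x38))))))))))) = 1) :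
    Rch (X 30 (x30) * (X 32 (x32) * (X 40 (x40) * (X 46 (x46) * (X 39 (x39) * (X 45 (x45) * (X 29 (x29) * (X 44 (x44) * (X 47 (x47) * (X 38 (x38))))))))))) := by
  have e : nS K g₄ 0 * (X 30 (x30) * (X 32 (x32) * (X 40 (x40) * (X 46 (x46) * (X 39 (x39) * (X 45 (x45) * (X 29 (x29) * (X 44 (x44) * (X 47 (x47) * (X 38 (x38))))))))))) * (nS K g₄ 0)⁻¹ = (X 40 (x44) * (X 46 (x46) * (X 39 (x39) * (X 45 (x45) * (X 41 (x30) * (X 44 (x40) * (X 47 (x47) * (X 38 (x38) * (X 43 (x32) * (X 36 (x29))))))))))) := by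
    rw [← MulAut.conj_apply]
    simp only [map_mul, conj_s (i := 0) (r := 30) (r' := 41) (by decide +kernel), conj_s (i := 0) (r := 32) (r' := 43) (by decide +kernel), conj_s (i := 0) (r := 40) (r' := 44) (by decide +kernel), conj_s (i := 0) (r := 46) (r' := 46) (by decide +kernel), conj_s (i := 0) (r := 39) (r' := 39) (by decide +kernel), conj_s (i := 0) (r := 45) (r' := 45) (by decide +kernel), conj_s (i := 0) (r := 29) (r' := 36) (by decide +kernel), conj_s (i := 0) (r := 44) (r' := 40) (by decide +kernel), conj_s (i := 0) (r := 47) (r' := 47) (by decide +kernel), conj_s (i := 0) (r := 38) (r' := 38) (by decide +kernel)]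
    all_goals normX
  exact Rch.step (nS_mem_group (by decide)) e h fun h' => n201 hx30 hx29 h'

lemma n203 {x30 x32 x40 x46 x39 x45 x29 x44 x47 x38 x43 : K} (hx30 : x30 ≠ 0) (hx29 : x29 ≠ 0)
    (h : (X 30 (x30) * (X 32 (x32) * (X 40 (x40) * (X 46 (x46) * (X 39 (x39) * (X 45 (x45) * (X 29 (x29) * (X 44 (x44) * (X 47 (x47) * (X 38 (x38) * (X 43 (x43)))))))))))) * (X 30 (x30) * (X 32 (x32) * (X 40 (x40) * (X 46 (x46) * (X 39 (x39) * (X 45 (x45) * (X 29 (x29) * (X 44 (x44) * (X 47 (x47) * (X 38 (x38) * (X 43 (x43)))))))))))) = 1) :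
    Rch (X 30 (x30) * (X 32 (x32) * (X 40 (x40) * (X 46 (x46) * (X 39 (x39) * (X 45 (x45) * (X 29 (x29) * (X 44 (x44) * (X 47 (x47) * (X 38 (x38) * (X 43 (x43)))))))))))) := by
  have e : (X 30 (x30) * (X 32 (x32) * (X 40 (x40) * (X 46 (x46) * (X 39 (x39) * (X 45 (x45) * (X 29 (x29) * (X 44 (x44) * (X 47 (x47) * (X 38 (x38) * (X 43 (x43)))))))))))) * (X 30 (x30) * (X 32 (x32) * (X 40 (x40) * (X 46 (x46) * (X 39 (x39) * (X 45 (x45) * (X 29 (x29) * (X 44 (x44) * (X 47 (x47) * (X 38 (x38) * (X 43 (x43)))))))))))) = Z (0, 0) (0, 0) (0, 0) (0, 0) (0, x30 * x43) (0, 0) (0, 0) (0, 0) (0, 0) (0, 0) (0, 0) (0, 0) := by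
    unfold Z
    normX
  have e' := Z_inj (e.symm.trans (h.trans one_Z))
  obtain ⟨-, -, -, -, e4, -, -, -, -, -, -, -⟩ := e'
  have z43 : x43 = 0 := zero_of (congrArg Prod.snd e4) fun hx43 =>
    (mul_ne_zero hx30 hx43)
  subst z43
  simp only [X_zero, one_mul, mul_one] at h ⊢
  exact n202 hx30 hx29 h

lemma n204 {x30 x37 x32 x40 x46 x39 x45 x29 x41 x44 x47 x38 x43 : K} (hx30 : x30 ≠ 0) (hx29 : x29 ≠ 0)
    (h : (X 30 (x30) * (X 37 (x37) * (X 32 (x32) * (X 40 (x40) * (X 46 (x46) * (X 39 (x39) * (X 45 (x45) * (X 29 (x29) * (X 41 (x41) * (X 44 (x44) * (X 47 (x47) * (X 38 (x38) * (X 43 (x43)))))))))))))) * (X 30 (x30) * (X 37 (x37) * (X 32 (x32) * (X 40 (x40) * (X 46 (x46) * (X 39 (x39) * (X 45 (x45) * (X 29 (x29) * (X 41 (x41) * (X 44 (x44) * (X 47 (x47) * (X 38 (x38) * (X 43 (x43)))))))))))))) = 1) :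
    Rch (X 30 (x30) * (X 37 (x37) * (X 32 (x32) * (X 40 (x40) * (X 46 (x46) * (X 39 (x39) * (X 45 (x45) * (X 29 (x29) * (X 41 (x41) * (X 44 (x44) * (X 47 (x47) * (X 38 (x38) * (X 43 (x43)))))))))))))) := by
  have e : (X 30 (x30) * (X 37 (x37) * (X 32 (x32) * (X 40 (x40) * (X 46 (x46) * (X 39 (x39) * (X 45 (x45) * (X 29 (x29) * (X 41 (x41) * (X 44 (x44) * (X 47 (x47) * (X 38 (x38) * (X 43 (x43)))))))))))))) * (X 30 (x30) * (X 37 (x37) * (X 32 (x32) * (X 40 (x40) * (X 46 (x46) * (X 39 (x39) * (X 45 (x45) * (X 29 (x29) * (X 41 (x41) * (X 44 (x44) * (X 47 (x47) * (X 38 (x38) * (X 43 (x43)))))))))))))) = Z (0, 0) (0, 0) (0, 0) (0, 0) (x29 * x37, x30 * x43 + x32 * x41) (0, 0) (0, 0) (x29 * x41, x29 ^ 2 * x41) (0, 0) (0, 0) (0, 0) (0, 0) := by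
    unfold Z
    normX
  have e' := Z_inj (e.symm.trans (h.trans one_Z))
  obtain ⟨-, -, -, -, e4, -, -, e7, -, -, -, -⟩ := e'
  have z37 : x37 = 0 := zero_of (congrArg Prod.fst e4) fun hx37 =>
    (mul_ne_zero hx29 hx37)
  have z41 : x41 = 0 := zero_of (congrArg Prod.fst e7) fun hx41 =>
    (mul_ne_zero hx29 hx41)
  subst z37 z41
  simp only [X_zero, one_mul, mul_one] at h ⊢
  exact n203 hx30 hx29 h

lemma n205 {x30 x37 x32 x40 x46 x39 x45 x29 x41 x44 x47 x38 x43 x36 : K} (hx30 : x30 ≠ 0) (hx29 : x29 ≠ 0)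
    (h : (X 30 (x30) * (X 37 (x37) * (X 32 (x32) * (X 40 (x40) * (X 46 (x46) * (X 39 (x39) * (X 45 (x45) * (X 29 (x29) * (X 41 (x41) * (X 44 (x44) * (X 47 (x47) * (X 38 (x38) * (X 43 (x43) * (X 36 (x36))))))))))))))) * (X 30 (x30) * (X 37 (x37) * (X 32 (x32) * (X 40 (x40) * (X 46 (x46) * (X 39 (x39) * (X 45 (x45) * (X 29 (x29) * (X 41 (x41) * (X 44 (x44) * (X 47 (x47) * (X 38 (x38) * (X 43 (x43) * (X 36 (x36))))))))))))))) = 1) :
    Rch (X 30 (x30) * (X 37 (x37) * (X 32 (x32) * (X 40 (x40) * (X 46 (x46) * (X 39 (x39) * (X 45 (x45) * (X 29 (x29) * (X 41 (x41) * (X 44 (x44) * (X 47 (x47) * (X 38 (x38) * (X 43 (x43) * (X 36 (x36))))))))))))))) := by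
  obtain ⟨d, hd⟩ : ∃ d : K, (x29) * d = x36 :=
    exists_lin hx29 _
  have hw : (d * x29 + x36) = 0 := by linear_combination hd + (x36) * CharTwo.two_eq_zero (R := K)
  have e : X 33 d * (X 30 (x30) * (X 37 (x37) * (X 32 (x32) * (X 40 (x40) * (X 46 (x46) * (X 39 (x39) * (X 45 (x45) * (X 29 (x29) * (X 41 (x41) * (X 44 (x44) * (X 47 (x47) * (X 38 (x38) * (X 43 (x43) * (X 36 (x36))))))))))))))) * (X 33 d)⁻¹ = (X 30 (x30) * (X 37 (d * x30 + x37) * (X 32 (x32) * (X 40 (x40) * (X 46 (d ^ 2 * x30 * x32 + x46) * (X 39 (d * x32 + x39) * (X 45 (x45) * (X 29 (x29) * (X 41 (d ^ 2 * x30 + x41) * (X 44 (d * x40 + d ^ 2 * x29 * x30 + x44) * (X 47 (d ^ 2 * x29 ^ 2 * x30 + x47) * (X 38 (x38) * (X 43 (d ^ 2 * x32 + x43) * (X 36 (d * x29 + x36))))))))))))))) := by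
    rw [inv_eq]
    normX
  rw [hw, X_zero] at e
  simp only [one_mul, mul_one] at e
  exact Rch.step (xG_mem_group g₄ 33 d) e h fun h' => n204 hx30 hx29 h'

lemma n206 {x28 x37 x32 x35 x31 x40 x46 x39 x45 x44 x47 x38 x43 x42 : K} (hx28 : x28 ≠ 0) (hx31 : x31 ≠ 0)
    (h : (X 28 (x28) * (X 37 (x37) * (X 32 (x32) * (X 35 (x35) * (X 31 (x31) * (X 40 (x40) * (X 46 (x46) * (X 39 (x39) * (X 45 (x45) * (X 44 (x44) * (X 47 (x47) * (X 38 (x38) * (X 43 (x43) * (X 42 (x42))))))))))))))) * (X 28 (x28) * (X 37 (x37) * (X 32 (x32) * (X 35 (x35) * (X 31 (x31) * (X 40 (x40) * (X 46 (x46) * (X 39 (x39) * (X 45 (x45) * (X 44 (x44) * (X 47 (x47) * (X 38 (x38) * (X 43 (x43) * (X 42 (x42))))))))))))))) = 1) :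
    Rch (X 28 (x28) * (X 37 (x37) * (X 32 (x32) * (X 35 (x35) * (X 31 (x31) * (X 40 (x40) * (X 46 (x46) * (X 39 (x39) * (X 45 (x45) * (X 44 (x44) * (X 47 (x47) * (X 38 (x38) * (X 43 (x43) * (X 42 (x42))))))))))))))) := by
  have e : nS K g₄ 3 * (X 28 (x28) * (X 37 (x37) * (X 32 (x32) * (X 35 (x35) * (X 31 (x31) * (X 40 (x40) * (X 46 (x46) * (X 39 (x39) * (X 45 (x45) * (X 44 (x44) * (X 47 (x47) * (X 38 (x38) * (X 43 (x43) * (X 42 (x42))))))))))))))) * (nS K g₄ 3)⁻¹ = (X 30 (x31) * (X 37 (x38) * (X 32 (x32) * (X 40 (x28 * x38 + x31 * x35 + x40) * (X 46 (x47) * (X 39 (x39) * (X 45 (x45) * (X 29 (x28) * (X 41 (x42) * (X 44 (x35 * x38 + x44) * (X 47 (x31 * x35 ^ 2 + x46) * (X 38 (x37) * (X 43 (x43) * (X 36 (x35))))))))))))))) := by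
    rw [← MulAut.conj_apply]
    simp only [map_mul, conj_s (i := 3) (r := 28) (r' := 29) (by decide +kernel), conj_s (i := 3) (r := 37) (r' := 38) (by decide +kernel), conj_s (i := 3) (r := 32) (r' := 32) (by decide +kernel), conj_s (i := 3) (r := 35) (r' := 36) (by decide +kernel), conj_s (i := 3) (r := 31) (r' := 30) (by decide +kernel), conj_s (i := 3) (r := 40) (r' := 40) (by decide +kernel), conj_s (i := 3) (r := 46) (r' := 47) (by decide +kernel), conj_s (i := 3) (r := 39) (r' := 39) (by decide +kernel), conj_s (i := 3) (r := 45) (r' := 45) (by decide +kernel), conj_s (i := 3) (r := 44) (r' := 44) (by decide +kernel), conj_s (i := 3) (r := 47) (r' := 46) (by decide +kernel), conj_s (i := 3) (r := 38) (r' := 37) (by decide +kernel), conj_s (i := 3) (r := 43) (r' := 43) (by decide +kernel), conj_s (i := 3) (r := 42) (r' := 41) (by decide +kernel)]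
    all_goals normX
  exact Rch.step (nS_mem_group (by decide)) e h fun h' => n205 hx31 hx28 h'

lemma n207 {x28 x37 x32 x35 x31 x40 x46 x39 x45 x44 x47 x38 x43 x36 x42 : K} (hx28 : x28 ≠ 0) (hx31 : x31 ≠ 0)
    (h : (X 28 (x28) * (X 37 (x37) * (X 32 (x32) * (X 35 (x35) * (X 31 (x31) * (X 40 (x40) * (X 46 (x46) * (X 39 (x39) * (X 45 (x45) * (X 44 (x44) * (X 47 (x47) * (X 38 (x38) * (X 43 (x43) * (X 36 (x36) * (X 42 (x42)))))))))))))))) * (X 28 (x28) * (X 37 (x37) * (X 32 (x32) * (X 35 (x35) * (X 31 (x31) * (X 40 (x40) * (X 46 (x46) * (X 39 (x39) * (X 45 (x45) * (X 44 (x44) * (X 47 (x47) * (X 38 (x38) * (X 43 (x43) * (X 36 (x36) * (X 42 (x42)))))))))))))))) = 1) :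
    Rch (X 28 (x28) * (X 37 (x37) * (X 32 (x32) * (X 35 (x35) * (X 31 (x31) * (X 40 (x40) * (X 46 (x46) * (X 39 (x39) * (X 45 (x45) * (X 44 (x44) * (X 47 (x47) * (X 38 (x38) * (X 43 (x43) * (X 36 (x36) * (X 42 (x42)))))))))))))))) := by
  have e : (X 28 (x28) * (X 37 (x37) * (X 32 (x32) * (X 35 (x35) * (X 31 (x31) * (X 40 (x40) * (X 46 (x46) * (X 39 (x39) * (X 45 (x45) * (X 44 (x44) * (X 47 (x47) * (X 38 (x38) * (X 43 (x43) * (X 36 (x36) * (X 42 (x42)))))))))))))))) * (X 28 (x28) * (X 37 (x37) * (X 32 (x32) * (X 35 (x35) * (X 31 (x31) * (X 40 (x40) * (X 46 (x46) * (X 39 (x39) * (X 45 (x45) * (X 44 (x44) * (X 47 (x47) * (X 38 (x38) * (X 43 (x43) * (X 36 (x36) * (X 42 (x42)))))))))))))))) = Z (0, 0) (0, 0) (0, 0) (0, 0) (x28 * x38 + x31 * x35, x28 ^ 2 * x42 + x31 * x35 ^ 2) (x28 * x36, 0) (0, 0) (x28 * x42 + x35 * x38 + x36 * x37, x31 * x43 + x32 * x42) (0, 0) (0, 0) (0, 0) (0, 0) := by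
    unfold Z
    normX
  have e' := Z_inj (e.symm.trans (h.trans one_Z))
  obtain ⟨-, -, -, -, -, e5, -, -, -, -, -, -⟩ := e'
  have z36 : x36 = 0 := zero_of (congrArg Prod.fst e5) fun hx36 =>
    (mul_ne_zero hx28 hx36)
  subst z36
  simp only [X_zero, one_mul, mul_one] at h ⊢
  exact n206 hx28 hx31 h

lemma n208 {x28 x37 x32 x35 x31 x40 x46 x39 x45 x29 x44 x47 x38 x43 x36 x42 : K} (hx28 : x28 ≠ 0) (hx31 : x31 ≠ 0)
    (h : (X 28 (x28) * (X 37 (x37) * (X 32 (x32) * (X 35 (x35) * (X 31 (x31) * (X 40 (x40) * (X 46 (x46) * (X 39 (x39) * (X 45 (x45) * (X 29 (x29) * (X 44 (x44) * (X 47 (x47) * (X 38 (x38) * (X 43 (x43) * (X 36 (x36) * (X 42 (x42))))))))))))))))) * (X 28 (x28) * (X 37 (x37) * (X 32 (x32) * (X 35 (x35) * (X 31 (x31) * (X 40 (x40) * (X 46 (x46) * (X 39 (x39) * (X 45 (x45) * (X 29 (x29) * (X 44 (x44) * (X 47 (x47) * (X 38 (x38) * (X 43 (x43) * (X 36 (x36) * (X 42 (x42)))))))))))))))))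 = 1) :
    Rch (X 28 (x28) * (X 37 (x37) * (X 32 (x32) * (X 35 (x35) * (X 31 (x31) * (X 40 (x40) * (X 46 (x46) * (X 39 (x39) * (X 45 (x45) * (X 29 (x29) * (X 44 (x44) * (X 47 (x47) * (X 38 (x38) * (X 43 (x43) * (X 36 (x36) * (X 42 (x42))))))))))))))))) := by
  obtain ⟨d, hd⟩ : ∃ d : K, (x28) * d = x29 :=
    exists_lin hx28 _
  have hw : (d * x28 + x29) = 0 := by linear_combination hd + (x29) * CharTwo.two_eq_zero (R := K)
  have e : X 24 d * (X 28 (x28) * (X 37 (x37) * (X 32 (x32) * (X 35 (x35) * (X 31 (x31) * (X 40 (x40) * (X 46 (x46) * (X 39 (x39) * (X 45 (x45) * (X 29 (x29) * (X 44 (x44) * (X 47 (x47) * (X 38 (x38) * (X 43 (x43) * (X 36 (x36) * (X 42 (x42))))))))))))))))) * (X 24 d)⁻¹ = (X 28 (x28) * (X 37 (x37) * (X 32 (d * x28 ^ 2 + x32) * (X 35 (x35) * (X 31 (x31) * (X 40 (d * x28 * x37 + x40) * (X 46 (x46) * (X 39 (d * x28 * x35 + x39) * (X 45 (d * x37 ^ 2 + x45) * (X 29 (d *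 x28 + x29) * (X 44 (d * x35 * x37 + x44) * (X 47 (d * x31 * x35 ^ 2 + d * x46 + x47) * (X 38 (d * x37 + x38) * (X 43 (d * x35 ^ 2 + x43) * (X 36 (d * x35 + x36) * (X 42 (x42))))))))))))))))) := by
    rw [inv_eq]
    normX
  rw [hw, X_zero] at e
  simp only [one_mul, mul_one] at e
  exact Rch.step (xG_mem_group g₄ 24 d) e h fun h' => n207 hx28 hx31 h'

lemma n209 {x27 x37 x32 x31 x40 x46 x39 x45 x29 x44 x47 x38 x43 x34 x36 x42 : K} (hx27 : x27 ≠ 0) (hx32 : x32 ≠ 0)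
    (h : (X 27 (x27) * (X 37 (x37) * (X 32 (x32) * (X 31 (x31) * (X 40 (x40) * (X 46 (x46) * (X 39 (x39) * (X 45 (x45) * (X 29 (x29) * (X 44 (x44) * (X 47 (x47) * (X 38 (x38) * (X 43 (x43) * (X 34 (x34) * (X 36 (x36) * (X 42 (x42))))))))))))))))) * (X 27 (x27) * (X 37 (x37) * (X 32 (x32) * (X 31 (x31) * (X 40 (x40) * (X 46 (x46) * (X 39 (x39) * (X 45 (x45) * (X 29 (x29) * (X 44 (x44) * (X 47 (x47) * (X 38 (x38) * (X 43 (x43) * (X 34 (x34) * (X 36 (x36) * (X 42 (x42))))))))))))))))) = 1) :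
    Rch (X 27 (x27) * (X 37 (x37) * (X 32 (x32) * (X 31 (x31) * (X 40 (x40) * (X 46 (x46) * (X 39 (x39) * (X 45 (x45) * (X 29 (x29) * (X 44 (x44) * (X 47 (x47) * (X 38 (x38) * (X 43 (x43) * (X 34 (x34) * (X 36 (x36) * (X 42 (x42))))))))))))))))) := by
  have e : nS K g₄ 2 * (X 27 (x27) * (X 37 (x37) * (X 32 (x32) * (X 31 (x31) * (X 40 (x40) * (X 46 (x46) * (X 39 (x39) * (X 45 (x45) * (X 29 (x29) * (X 44 (x44) * (X 47 (x47) * (X 38 (x38) * (X 43 (x43) * (X 34 (x34) * (X 36 (x36) * (X 42 (x42))))))))))))))))) * (nS K g₄ 2)⁻¹ = (X 28 (x27) * (X 37 (x37) * (X 32 (x31) * (X 35 (x34) * (X 31 (x32) * (X 40 (x32 * x34 + x40) * (X 46 (x32 * x34 ^ 2 + x45) * (X 39 (x29 * x34 + x38) * (X 45 (x46) * (X 29 (x29) * (X 44 (x34 * x39 + x44) * (X 47 (x47) * (X 38 (x39) * (X 43 (x42) * (X 36 (x36) * (X 42 (x43))))))))))))))))) := by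
    rw [← MulAut.conj_apply]
    simp only [map_mul, conj_s (i := 2) (r := 27) (r' := 28) (by decide +kernel), conj_s (i := 2) (r := 37) (r' := 37) (by decide +kernel), conj_s (i := 2) (r := 32) (r' := 31) (by decide +kernel), conj_s (i := 2) (r := 31) (r' := 32) (by decide +kernel), conj_s (i := 2) (r := 40) (r' := 40) (by decide +kernel), conj_s (i := 2) (r := 46) (r' := 45) (by decide +kernel), conj_s (i := 2) (r := 39) (r' := 38) (by decide +kernel), conj_s (i := 2) (r := 45) (r' := 46) (by decide +kernel), conj_s (i := 2) (r := 29) (r' := 29) (by decide +kernel), conj_s (i := 2) (r := 44) (r' := 44) (by decide +kernel), conj_s (i := 2) (r := 47) (r' := 47) (by decide +kernel), conj_s (i := 2) (r := 38) (r' := 39) (by decide +kernel), conj_s (i := 2) (r := 43) (r' := 42) (by decide +kernel), conj_s (i := 2) (r := 34) (r' := 35) (by decide +kernel), conj_s (i := 2) (r := 36) (r' :=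 36) (by decide +kernel), conj_s (i := 2) (r := 42) (r' := 43) (by decide +kernel)]
    all_goals normX
  exact Rch.step (nS_mem_group (by decide)) e h fun h' => n208 hx27 hx32 h'

lemma n210 {x27 x37 x32 x31 x40 x46 x39 x45 x29 x41 x44 x47 x38 x43 x34 x36 x42 : K} (hx27 : x27 ≠ 0) (hx32 : x32 ≠ 0)
    (h : (X 27 (x27) * (X 37 (x37) * (X 32 (x32) * (X 31 (x31) * (X 40 (x40) * (X 46 (x46) * (X 39 (x39) * (X 45 (x45) * (X 29 (x29) * (X 41 (x41) * (X 44 (x44) * (X 47 (x47) * (X 38 (x38) * (X 43 (x43) * (X 34 (x34) * (X 36 (x36) * (X 42 (x42)))))))))))))))))) * (X 27 (x27) * (X 37 (x37) * (X 32 (x32) * (X 31 (x31) * (X 40 (x40) * (X 46 (x46) * (X 39 (x39) * (X 45 (x45) * (X 29 (x29) * (X 41 (x41) * (X 44 (x44) * (X 47 (x47) * (X 38 (x38) * (X 43 (x43) * (X 34 (x34) * (X 36 (x36) * (X 42 (x42)))))))))))))))))) = 1) :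
    Rch (X 27 (x27) * (X 37 (x37) * (X 32 (x32) * (X 31 (x31) * (X 40 (x40) * (X 46 (x46) * (X 39 (x39) * (X 45 (x45) * (X 29 (x29) * (X 41 (x41) * (X 44 (x44) * (X 47 (x47) * (X 38 (x38) * (X 43 (x43) * (X 34 (x34) * (X 36 (x36) * (X 42 (x42)))))))))))))))))) := by
  have e : (X 27 (x27) * (X 37 (x37) * (X 32 (x32) * (X 31 (x31) * (X 40 (x40) * (X 46 (x46) * (X 39 (x39) * (X 45 (x45) * (X 29 (x29) * (X 41 (x41) * (X 44 (x44) * (X 47 (x47) * (X 38 (x38) * (X 43 (x43) * (X 34 (x34) * (X 36 (x36) * (X 42 (x42)))))))))))))))))) * (X 27 (x27) * (X 37 (x37) * (X 32 (x32) * (X 31 (x31) * (X 40 (x40) * (X 46 (x46) * (X 39 (x39) * (X 45 (x45) * (X 29 (x29) * (X 41 (x41) * (X 44 (x44) * (X 47 (x47) * (X 38 (x38) * (X 43 (x43) * (X 34 (x34) * (X 36 (x36) * (X 42 (x42)))))))))))))))))) = Z (0, 0) (0, 0) (0, 0) (0, 0) (x27 * x39 + x29 * x37 + x32 * x34, x32 * x41) (0, x27 ^ 2 * x43 + x31 * x41 +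 x32 * x34 ^ 2) (0, 0) (x27 * x43 + x29 * x41 + x34 * x39 + x36 * x37, x29 ^ 2 * x41 + x31 * x43 + x32 * x42) (x27 * x36 + x29 * x34, 0) (0, 0) (0, 0) (0, 0) := by
    unfold Z
    normX
  have e' := Z_inj (e.symm.trans (h.trans one_Z))
  obtain ⟨-, -, -, -, e4, -, -, -, -, -, -, -⟩ := e'
  have z41 : x41 = 0 := zero_of (congrArg Prod.snd e4) fun hx41 =>
    (mul_ne_zero hx32 hx41)
  subst z41
  simp only [X_zero, one_mul, mul_one] at h ⊢
  exact n209 hx27 hx32 h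

lemma n211 {x27 x37 x32 x31 x40 x46 x39 x45 x29 x41 x44 x47 x38 x43 x34 x36 x42 : K} (hx27 : x27 ≠ 0)
    (h : (X 27 (x27) * (X 37 (x37) * (X 32 (x32) * (X 31 (x31) * (X 40 (x40) * (X 46 (x46) * (X 39 (x39) * (X 45 (x45) * (X 29 (x29) * (X 41 (x41) * (X 44 (x44) * (X 47 (x47) * (X 38 (x38) * (X 43 (x43) * (X 34 (x34) * (X 36 (x36) * (X 42 (x42)))))))))))))))))) * (X 27 (x27) * (X 37 (x37) * (X 32 (x32) * (X 31 (x31) * (X 40 (x40) * (X 46 (x46) * (X 39 (x39) * (X 45 (x45) * (X 29 (x29) * (X 41 (x41) * (X 44 (x44) * (X 47 (x47) * (X 38 (x38) * (X 43 (x43) * (X 34 (x34) * (X 36 (x36) * (X 42 (x42)))))))))))))))))) = 1) :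
    Rch (X 27 (x27) * (X 37 (x37) * (X 32 (x32) * (X 31 (x31) * (X 40 (x40) * (X 46 (x46) * (X 39 (x39) * (X 45 (x45) * (X 29 (x29) * (X 41 (x41) * (X 44 (x44) * (X 47 (x47) * (X 38 (x38) * (X 43 (x43) * (X 34 (x34) * (X 36 (x36) * (X 42 (x42)))))))))))))))))) := by
  rcases eq_or_ne x32 0 with rfl | hx32
  · simp only [X_zero, one_mul, mul_one] at h ⊢
    exact n190 hx27 h
  · exact n210 hx27 hx32 h

lemma n212 {x27 x37 x32 x35 x31 x40 x46 x39 x45 x29 x41 x44 x47 x38 x43 x34 x36 x42 x33 : K} (hx27 : x27 ≠ 0)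
    (h : (X 27 (x27) * (X 37 (x37) * (X 32 (x32) * (X 35 (x35) * (X 31 (x31) * (X 40 (x40) * (X 46 (x46) * (X 39 (x39) * (X 45 (x45) * (X 29 (x29) * (X 41 (x41) * (X 44 (x44) * (X 47 (x47) * (X 38 (x38) * (X 43 (x43) * (X 34 (x34) * (X 36 (x36) * (X 42 (x42) * (X 33 (x33)))))))))))))))))))) * (X 27 (x27) * (X 37 (x37) * (X 32 (x32) * (X 35 (x35) * (X 31 (x31) * (X 40 (x40) * (X 46 (x46) * (X 39 (x39) * (X 45 (x45) * (X 29 (x29) * (X 41 (x41) * (X 44 (x44) * (X 47 (x47) * (X 38 (x38) * (X 43 (x43) * (X 34 (x34) * (X 36 (x36) * (X 42 (x42) * (X 33 (x33)))))))))))))))))))) = 1) :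
    Rch (X 27 (x27) * (X 37 (x37) * (X 32 (x32) * (X 35 (x35) * (X 31 (x31) * (X 40 (x40) * (X 46 (x46) * (X 39 (x39) * (X 45 (x45) * (X 29 (x29) * (X 41 (x41) * (X 44 (x44) * (X 47 (x47) * (X 38 (x38) * (X 43 (x43) * (X 34 (x34) * (X 36 (x36) * (X 42 (x42) * (X 33 (x33)))))))))))))))))))) := by
  have e : (X 27 (x27) * (X 37 (x37) * (X 32 (x32) * (X 35 (x35) * (X 31 (x31) * (X 40 (x40) * (X 46 (x46) * (X 39 (x39) * (X 45 (x45) * (X 29 (x29) * (X 41 (x41) * (X 44 (x44) * (X 47 (x47) * (X 38 (x38) * (X 43 (x43) * (X 34 (x34) * (X 36 (x36) * (X 42 (x42) * (X 33 (x33)))))))))))))))))))) * (X 27 (x27) * (X 37 (x37) * (X 32 (x32) * (X 35 (x35) * (X 31 (x31) * (X 40 (x40) * (X 46 (x46) * (X 39 (x39) * (X 45 (x45) * (X 29 (x29) * (X 41 (x41) * (X 44 (x44) * (X 47 (x47) * (X 38 (x38) * (X 43 (x43) * (X 34 (x34) * (X 36 (x36) * (X 42 (x42) * (X 33 (x33)))))))))))))))))))) = Z (0, 0) (0, 0) (x27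 * x35, 0) (0, 0) (x27 * x32 * x33 + x27 * x39 + x29 * x37 + x31 * x35 + x32 * x34, x31 * x35 ^ 2 + x32 * x41) (x29 * x35 + x32 * x33, x27 ^ 2 * x32 * x33 ^ 2 + x27 ^ 2 * x43 + x31 * x41 + x32 * x34 ^ 2) (0, 0) (x27 * x32 * x33 ^ 2 + x27 * x33 * x39 + x27 * x35 * x36 + x27 * x43 + x29 * x41 + x32 * x33 * x34 + x33 * x40 + x34 * x39 + x35 * x38 + x36 * x37, x29 ^ 2 * x41 + x31 * x32 * x33 ^ 2 + x31 * x43 + x32 * x42) (x27 * x29 * x33 + x27 * x36 + x29 * x34 + x31 * x33, x32 * x33 ^ 2) (x27 * x33, 0) (x29 * x33, x31 * x33 ^ 2) (0, 0) := by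
    unfold Z
    normX
  have e' := Z_inj (e.symm.trans (h.trans one_Z))
  obtain ⟨-, -, e2, -, -, -, -, -, -, e9, -, -⟩ := e'
  have z35 : x35 = 0 := zero_of (congrArg Prod.fst e2) fun hx35 =>
    (mul_ne_zero hx27 hx35)
  have z33 : x33 = 0 := zero_of (congrArg Prod.fst e9) fun hx33 =>
    (mul_ne_zero hx27 hx33)
  subst z35 z33
  simp only [X_zero, one_mul, mul_one] at h ⊢
  exact n211 hx27 h

lemma n213 {x27 x37 x32 x35 x31 x40 x46 x39 x45 x29 x41 x44 x47 x38 x43 x34 x36 x42 x33 : K}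
    (h : (X 27 (x27) * (X 37 (x37) * (X 32 (x32) * (X 35 (x35) * (X 31 (x31) * (X 40 (x40) * (X 46 (x46) * (X 39 (x39) * (X 45 (x45) * (X 29 (x29) * (X 41 (x41) * (X 44 (x44) * (X 47 (x47) * (X 38 (x38) * (X 43 (x43) * (X 34 (x34) * (X 36 (x36) * (X 42 (x42) * (X 33 (x33)))))))))))))))))))) * (X 27 (x27) * (X 37 (x37) * (X 32 (x32) * (X 35 (x35) * (X 31 (x31) * (X 40 (x40) * (X 46 (x46) * (X 39 (x39) * (X 45 (x45) * (X 29 (x29) * (X 41 (x41) * (X 44 (x44) * (X 47 (x47) * (X 38 (x38) * (X 43 (x43) * (X 34 (x34) * (X 36 (x36) * (X 42 (x42) * (X 33 (x33)))))))))))))))))))) = 1) :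
    Rch (X 27 (x27) * (X 37 (x37) * (X 32 (x32) * (X 35 (x35) * (X 31 (x31) * (X 40 (x40) * (X 46 (x46) * (X 39 (x39) * (X 45 (x45) * (X 29 (x29) * (X 41 (x41) * (X 44 (x44) * (X 47 (x47) * (X 38 (x38) * (X 43 (x43) * (X 34 (x34) * (X 36 (x36) * (X 42 (x42) * (X 33 (x33)))))))))))))))))))) := by
  rcases eq_or_ne x27 0 with rfl | hx27
  · simp only [X_zero, one_mul, mul_one] at h ⊢
    exact n182 h
  · exact n212 hx27 h

lemma n214 {x30 x37 x32 x35 x40 x46 x39 x45 x41 x44 x47 x38 x43 x34 x36 x42 : K} (hx30 : x30 ≠ 0)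
    (h : (X 30 (x30) * (X 37 (x37) * (X 32 (x32) * (X 35 (x35) * (X 40 (x40) * (X 46 (x46) * (X 39 (x39) * (X 45 (x45) * (X 41 (x41) * (X 44 (x44) * (X 47 (x47) * (X 38 (x38) * (X 43 (x43) * (X 34 (x34) * (X 36 (x36) * (X 42 (x42))))))))))))))))) * (X 30 (x30) * (X 37 (x37) * (X 32 (x32) * (X 35 (x35) * (X 40 (x40) * (X 46 (x46) * (X 39 (x39) * (X 45 (x45) * (X 41 (x41) * (X 44 (x44) * (X 47 (x47) * (X 38 (x38) * (X 43 (x43) * (X 34 (x34) * (X 36 (x36) * (X 42 (x42))))))))))))))))) = 1) :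
    Rch (X 30 (x30) * (X 37 (x37) * (X 32 (x32) * (X 35 (x35) * (X 40 (x40) * (X 46 (x46) * (X 39 (x39) * (X 45 (x45) * (X 41 (x41) * (X 44 (x44) * (X 47 (x47) * (X 38 (x38) * (X 43 (x43) * (X 34 (x34) * (X 36 (x36) * (X 42 (x42))))))))))))))))) := by
  have e : nS K g₄ 3 * (X 30 (x30) * (X 37 (x37) * (X 32 (x32) * (X 35 (x35) * (X 40 (x40) * (X 46 (x46) * (X 39 (x39) * (X 45 (x45) * (X 41 (x41) * (X 44 (x44) * (X 47 (x47) * (X 38 (x38) * (X 43 (x43) * (X 34 (x34) * (X 36 (x36) * (X 42 (x42))))))))))))))))) * (nS K g₄ 3)⁻¹ = (X 37 (x38) * (X 32 (x32) * (X 35 (x36) * (X 31 (x30) * (X 40 (x30 * x36 + x40) * (X 46 (x30 * x36 ^ 2 + x47) * (X 39 (x39) * (X 45 (x45) * (X 41 (x42) * (X 44 (x35 * x38 + x36 * x37 + x44) * (X 47 (x46) * (X 38 (x37) * (X 43 (x43) * (X 34 (x34) * (X 36 (x35) * (X 42 (x41))))))))))))))))) := by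
    rw [← MulAut.conj_apply]
    simp only [map_mul, conj_s (i := 3) (r := 30) (r' := 31) (by decide +kernel), conj_s (i := 3) (r := 37) (r' := 38) (by decide +kernel), conj_s (i := 3) (r := 32) (r' := 32) (by decide +kernel), conj_s (i := 3) (r := 35) (r' := 36) (by decide +kernel), conj_s (i := 3) (r := 40) (r' := 40) (by decide +kernel), conj_s (i := 3) (r := 46) (r' := 47) (by decide +kernel), conj_s (i := 3) (r := 39) (r' := 39) (by decide +kernel), conj_s (i := 3) (r := 45) (r' := 45) (by decide +kernel), conj_s (i := 3) (r := 41) (r' := 42) (by decide +kernel), conj_s (i := 3) (r := 44) (r' := 44) (by decide +kernel), conj_s (i := 3) (r := 47) (r' := 46) (by decide +kernel), conj_s (i := 3) (r := 38) (r' := 37) (by decide +kernel), conj_s (i := 3) (r := 43) (r' := 43) (by decide +kernel), conj_s (i := 3) (r := 34) (r' := 34) (by decide +kernel), conj_s (i := 3) (r := 36) (r' :=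 35) (by decide +kernel), conj_s (i := 3) (r := 42) (r' := 41) (by decide +kernel)]
    all_goals normX
  exact Rch.step (nS_mem_group (by decide)) e h fun h' => n167 hx30 h'

lemma n215 {x30 x37 x32 x35 x31 x40 x46 x39 x45 x41 x44 x47 x38 x43 x34 x36 x42 : K} (hx30 : x30 ≠ 0)
    (h : (X 30 (x30) * (X 37 (x37) * (X 32 (x32) * (X 35 (x35) * (X 31 (x31) * (X 40 (x40) * (X 46 (x46) * (X 39 (x39) * (X 45 (x45) * (X 41 (x41) * (X 44 (x44) * (X 47 (x47) * (X 38 (x38) * (X 43 (x43) * (X 34 (x34) * (X 36 (x36) * (X 42 (x42)))))))))))))))))) * (X 30 (x30) * (X 37 (x37) * (X 32 (x32) * (X 35 (x35) * (X 31 (x31) * (X 40 (x40) * (X 46 (x46) * (X 39 (x39) * (X 45 (x45) * (X 41 (x41) * (X 44 (x44) * (X 47 (x47) * (X 38 (x38) * (X 43 (x43) * (X 34 (x34) * (X 36 (x36) * (X 42 (x42)))))))))))))))))) = 1) :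
    Rch (X 30 (x30) * (X 37 (x37) * (X 32 (x32) * (X 35 (x35) * (X 31 (x31) * (X 40 (x40) * (X 46 (x46) * (X 39 (x39) * (X 45 (x45) * (X 41 (x41) * (X 44 (x44) * (X 47 (x47) * (X 38 (x38) * (X 43 (x43) * (X 34 (x34) * (X 36 (x36) * (X 42 (x42)))))))))))))))))) := by
  obtain ⟨d, hd⟩ : ∃ d : K, (x30) * d = x31 :=
    exists_lin hx30 _
  have hw : (d * x30 + x31) = 0 := by linear_combination hd + (x31) * CharTwo.two_eq_zero (R := K)
  have e : X 24 d * (X 30 (x30) * (X 37 (x37) * (X 32 (x32) * (X 35 (x35) * (X 31 (x31) * (X 40 (x40) * (X 46 (x46) * (X 39 (x39) * (X 45 (x45) * (X 41 (x41) * (X 44 (x44) * (X 47 (x47) * (X 38 (x38) * (X 43 (x43) * (X 34 (x34) * (X 36 (x36) * (X 42 (x42)))))))))))))))))) * (X 24 d)⁻¹ = (X 30 (x30) * (X 37 (x37) * (X 32 (x32) * (X 35 (x35) * (X 31 (d * x30 + x31) * (X 40 (d * x30 * x35 + x40) * (X 46 (d * x30 * x35 ^ 2 + x46) * (X 39 (x39) * (X 45 (d * x37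 ^ 2 + x45) * (X 41 (x41) * (X 44 (d * x35 * x37 + x44) * (X 47 (d * x31 * x35 ^ 2 + d * x46 + x47) * (X 38 (d * x37 + x38) * (X 43 (d * x35 ^ 2 + x43) * (X 34 (x34) * (X 36 (d * x35 + x36) * (X 42 (d * x41 + x42)))))))))))))))))) := by
    rw [inv_eq]
    normX
  rw [hw, X_zero] at e
  simp only [one_mul, mul_one] at e
  exact Rch.step (xG_mem_group g₄ 24 d) e h fun h' => n214 hx30 h'

lemma n216 {x30 x37 x32 x40 x46 x39 x45 x29 x41 x44 x47 x38 x43 x36 x42 : K} (hx30 : x30 ≠ 0) (hx29 : x29 ≠ 0)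
    (h : (X 30 (x30) * (X 37 (x37) * (X 32 (x32) * (X 40 (x40) * (X 46 (x46) * (X 39 (x39) * (X 45 (x45) * (X 29 (x29) * (X 41 (x41) * (X 44 (x44) * (X 47 (x47) * (X 38 (x38) * (X 43 (x43) * (X 36 (x36) * (X 42 (x42)))))))))))))))) * (X 30 (x30) * (X 37 (x37) * (X 32 (x32) * (X 40 (x40) * (X 46 (x46) * (X 39 (x39) * (X 45 (x45) * (X 29 (x29) * (X 41 (x41) * (X 44 (x44) * (X 47 (x47) * (X 38 (x38) * (X 43 (x43) * (X 36 (x36) * (X 42 (x42)))))))))))))))) = 1) :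
    Rch (X 30 (x30) * (X 37 (x37) * (X 32 (x32) * (X 40 (x40) * (X 46 (x46) * (X 39 (x39) * (X 45 (x45) * (X 29 (x29) * (X 41 (x41) * (X 44 (x44) * (X 47 (x47) * (X 38 (x38) * (X 43 (x43) * (X 36 (x36) * (X 42 (x42)))))))))))))))) := by
  have e : (X 30 (x30) * (X 37 (x37) * (X 32 (x32) * (X 40 (x40) * (X 46 (x46) * (X 39 (x39) * (X 45 (x45) * (X 29 (x29) * (X 41 (x41) * (X 44 (x44) * (X 47 (x47) * (X 38 (x38) * (X 43 (x43) * (X 36 (x36) * (X 42 (x42)))))))))))))))) * (X 30 (x30) * (X 37 (x37) * (X 32 (x32) * (X 40 (x40) * (X 46 (x46) * (X 39 (x39) * (X 45 (x45) * (X 29 (x29) * (X 41 (x41) * (X 44 (x44) * (X 47 (x47) * (X 38 (x38) * (X 43 (x43) * (X 36 (x36) * (X 42 (x42)))))))))))))))) = Z (0, 0) (0, 0) (0, 0) (0, 0) (x29 * x37 + x30 * x36, x30 * x43 + x32 * x41) (0, x30 * x42) (0, 0) (x29 * x41 + x36 * x37, x29 ^ 2 * x41 + x30 * x36 ^ 2 + x32 * x42) (0, 0) (0, 0) (0, 0) (0, 0) := by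
    unfold Z
    normX
  have e' := Z_inj (e.symm.trans (h.trans one_Z))
  obtain ⟨-, -, -, -, -, e5, -, -, -, -, -, -⟩ := e'
  have z42 : x42 = 0 := zero_of (congrArg Prod.snd e5) fun hx42 =>
    (mul_ne_zero hx30 hx42)
  subst z42
  simp only [X_zero, one_mul, mul_one] at h ⊢
  exact n205 hx30 hx29 h

lemma n217 {x30 x37 x32 x31 x40 x46 x39 x45 x29 x41 x44 x47 x38 x43 x36 x42 : K} (hx30 : x30 ≠ 0) (hx29 : x29 ≠ 0)
    (h : (X 30 (x30) * (X 37 (x37) * (X 32 (x32) * (X 31 (x31) * (X 40 (x40) * (X 46 (x46) * (X 39 (x39) * (X 45 (x45) * (X 29 (x29) * (X 41 (x41) * (X 44 (x44) * (X 47 (x47) * (X 38 (x38) * (X 43 (x43) * (X 36 (x36) * (X 42 (x42))))))))))))))))) * (X 30 (x30) * (X 37 (x37) * (X 32 (x32) * (X 31 (x31) * (X 40 (x40) * (X 46 (x46) * (X 39 (x39) * (X 45 (x45) * (X 29 (x29) * (X 41 (x41) * (X 44 (x44) * (X 47 (x47) * (X 38 (x38) * (X 43 (x43) * (X 36 (x36) * (X 42 (x42)))))))))))))))))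 = 1) :
    Rch (X 30 (x30) * (X 37 (x37) * (X 32 (x32) * (X 31 (x31) * (X 40 (x40) * (X 46 (x46) * (X 39 (x39) * (X 45 (x45) * (X 29 (x29) * (X 41 (x41) * (X 44 (x44) * (X 47 (x47) * (X 38 (x38) * (X 43 (x43) * (X 36 (x36) * (X 42 (x42))))))))))))))))) := by
  obtain ⟨d, hd⟩ : ∃ d : K, (x30) * d = x31 :=
    exists_lin hx30 _
  have hw : (d * x30 + x31) = 0 := by linear_combination hd + (x31) * CharTwo.two_eq_zero (R := K)
  have e : X 24 d * (X 30 (x30) * (X 37 (x37) * (X 32 (x32) * (X 31 (x31) * (X 40 (x40) * (X 46 (x46) * (X 39 (x39) * (X 45 (x45) * (X 29 (x29) * (X 41 (x41) * (X 44 (x44) * (X 47 (x47) * (X 38 (x38) * (X 43 (x43) * (X 36 (x36) * (X 42 (x42))))))))))))))))) * (X 24 d)⁻¹ = (X 30 (x30) * (X 37 (x37) * (X 32 (x32) * (X 31 (d * x30 + x31) * (X 40 (x40) * (X 46 (x46) * (X 39 (x39) * (X 45 (d * x37 ^ 2 + x45) * (X 29 (x29) * (X 41 (x41) * (X 44 (x44) * (X 47 (d * x46 + x47)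 * (X 38 (d * x37 + x38) * (X 43 (x43) * (X 36 (x36) * (X 42 (d * x41 + x42))))))))))))))))) := by
    rw [inv_eq]
    normX
  rw [hw, X_zero] at e
  simp only [one_mul, mul_one] at e
  exact Rch.step (xG_mem_group g₄ 24 d) e h fun h' => n216 hx30 hx29 h'

lemma n218 {x30 x37 x32 x35 x31 x40 x46 x39 x45 x29 x41 x44 x47 x38 x43 x34 x36 x42 : K} (hx30 : x30 ≠ 0) (hx29 : x29 ≠ 0)
    (h : (X 30 (x30) * (X 37 (x37) * (X 32 (x32) * (X 35 (x35) * (X 31 (x31) * (X 40 (x40) * (X 46 (x46) * (X 39 (x39) * (X 45 (x45) * (X 29 (x29) * (X 41 (x41) * (X 44 (x44) * (X 47 (x47) * (X 38 (x38) * (X 43 (x43) * (X 34 (x34) * (X 36 (x36) * (X 42 (x42))))))))))))))))))) * (X 30 (x30) * (X 37 (x37) * (X 32 (x32) * (X 35 (x35) * (X 31 (x31) * (X 40 (x40) * (X 46 (x46) * (X 39 (x39) * (X 45 (x45) * (X 29 (x29) * (X 41 (x41) * (X 44 (x44) * (X 47 (x47) * (X 38 (x38) * (X 43 (x43) * (X 34 (x34) * (X 36 (x36) *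 (X 42 (x42))))))))))))))))))) = 1) :
    Rch (X 30 (x30) * (X 37 (x37) * (X 32 (x32) * (X 35 (x35) * (X 31 (x31) * (X 40 (x40) * (X 46 (x46) * (X 39 (x39) * (X 45 (x45) * (X 29 (x29) * (X 41 (x41) * (X 44 (x44) * (X 47 (x47) * (X 38 (x38) * (X 43 (x43) * (X 34 (x34) * (X 36 (x36) * (X 42 (x42))))))))))))))))))) := by
  have e : (X 30 (x30) * (X 37 (x37) * (X 32 (x32) * (X 35 (x35) * (X 31 (x31) * (X 40 (x40) * (X 46 (x46) * (X 39 (x39) * (X 45 (x45) * (X 29 (x29) * (X 41 (x41) * (X 44 (x44) * (X 47 (x47) * (X 38 (x38) * (X 43 (x43) * (X 34 (x34) * (X 36 (x36) * (X 42 (x42))))))))))))))))))) * (X 30 (x30) * (X 37 (x37) * (X 32 (x32) * (X 35 (x35) * (X 31 (x31) * (X 40 (x40) * (X 46 (x46) * (X 39 (x39) * (X 45 (x45) * (X 29 (x29) * (X 41 (x41) * (X 44 (x44) * (X 47 (x47) * (X 38 (x38) * (X 43 (x43) * (X 34 (x34) * (X 36 (x36) * (X 42 (x42))))))))))))))))))) = Z (0, 0) (0, 0) (0, 0) (0,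 0) (x29 * x37 + x30 * x36 + x31 * x35 + x32 * x34, x30 * x43 + x31 * x35 ^ 2 + x32 * x41) (x29 * x35, x30 * x42 + x31 * x41 + x32 * x34 ^ 2) (0, 0) (x29 * x41 + x34 * x39 + x35 * x38 + x36 * x37, x29 ^ 2 * x41 + x30 * x36 ^ 2 + x31 * x43 + x32 * x42) (x29 * x34, 0) (0, 0) (0, 0) (0, 0) := by
    unfold Z
    normX
  have e' := Z_inj (e.symm.trans (h.trans one_Z))
  obtain ⟨-, -, -, -, -, e5, -, -, e8, -, -, -⟩ := e'
  have z35 : x35 = 0 := zero_of (congrArg Prod.fst e5) fun hx35 =>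
    (mul_ne_zero hx29 hx35)
  have z34 : x34 = 0 := zero_of (congrArg Prod.fst e8) fun hx34 =>
    (mul_ne_zero hx29 hx34)
  subst z35 z34
  simp only [X_zero, one_mul, mul_one] at h ⊢
  exact n217 hx30 hx29 h

lemma n219 {x30 x37 x32 x35 x31 x40 x46 x39 x45 x29 x41 x44 x47 x38 x43 x34 x36 x42 : K} (hx30 : x30 ≠ 0)
    (h : (X 30 (x30) * (X 37 (x37) * (X 32 (x32) * (X 35 (x35) * (X 31 (x31) * (X 40 (x40) * (X 46 (x46) * (X 39 (x39) * (X 45 (x45) * (X 29 (x29) * (X 41 (x41) * (X 44 (x44) * (X 47 (x47) * (X 38 (x38) * (X 43 (x43) * (X 34 (x34) * (X 36 (x36) * (X 42 (x42))))))))))))))))))) * (X 30 (x30) * (X 37 (x37) * (X 32 (x32) * (X 35 (x35) * (X 31 (x31) * (X 40 (x40) * (X 46 (x46) * (X 39 (x39) * (X 45 (x45) * (X 29 (x29) * (X 41 (x41) * (X 44 (x44) * (X 47 (x47) * (X 38 (x38) * (X 43 (x43) * (X 34 (x34) * (X 36 (x36) * (X 42 (x42))))))))))))))))))) = 1) :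
    Rch (X 30 (x30) * (X 37 (x37) * (X 32 (x32) * (X 35 (x35) * (X 31 (x31) * (X 40 (x40) * (X 46 (x46) * (X 39 (x39) * (X 45 (x45) * (X 29 (x29) * (X 41 (x41) * (X 44 (x44) * (X 47 (x47) * (X 38 (x38) * (X 43 (x43) * (X 34 (x34) * (X 36 (x36) * (X 42 (x42))))))))))))))))))) := by
  rcases eq_or_ne x29 0 with rfl | hx29
  · simp only [X_zero, one_mul, mul_one] at h ⊢
    exact n215 hx30 h
  · exact n218 hx30 hx29 h

lemma n220 {x40 x46 x45 x47 x43 : K} (hx40 : x40 ≠ 0) (hx46 : x46 ≠ 0) (hx43 : x43 ≠ 0)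
    (h : (X 40 (x40) * (X 46 (x46) * (X 45 (x45) * (X 47 (x47) * (X 43 (x43)))))) * (X 40 (x40) * (X 46 (x46) * (X 45 (x45) * (X 47 (x47) * (X 43 (x43)))))) = 1) :
    Rch (X 40 (x40) * (X 46 (x46) * (X 45 (x45) * (X 47 (x47) * (X 43 (x43)))))) := by
  obtain ⟨d, hd⟩ : ∃ d : K, (x43) * d = x46 :=
    exists_lin hx43 _
  have hd : d ≠ 0 ∧ (x43) * d = x46 := ⟨fun e => hx46 (by rw [← hd, e]; simp), hd⟩
  obtain ⟨hd0, hd⟩ := hd
  have hw : (d * x43 + x46) = 0 := by linear_combination hd + (x46) * CharTwo.two_eq_zero (R := K)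
  have e : X 30 d * (X 40 (x40) * (X 46 (x46) * (X 45 (x45) * (X 47 (x47) * (X 43 (x43)))))) * (X 30 d)⁻¹ = (X 40 (x40) * (X 46 (d * x43 + x46) * (X 45 (x45) * (X 47 (x47) * (X 43 (x43)))))) := by
    rw [inv_eq]
    normX
  rw [hw, X_zero] at e
  simp only [one_mul, mul_one] at e
  exact Rch.step (xG_mem_group g₄ 30 d) e h fun h' => n31 hx40 hx43 h'

lemma n221 {x40 x46 x45 x44 x47 x43 : K} (hx40 : x40 ≠ 0) (hx46 : x46 ≠ 0) (hx43 : x43 ≠ 0)
    (h : (X 40 (x40) * (X 46 (x46) * (X 45 (x45) * (X 44 (x44) * (X 47 (x47) * (X 43 (x43))))))) * (X 40 (x40) * (X 46 (x46) * (X 45 (x45) * (X 44 (x44) * (X 47 (x47) * (X 43 (x43))))))) = 1) :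
    Rch (X 40 (x40) * (X 46 (x46) * (X 45 (x45) * (X 44 (x44) * (X 47 (x47) * (X 43 (x43))))))) := by
  obtain ⟨d, hd⟩ : ∃ d : K, (x43) * d = x44 :=
    exists_lin hx43 _
  have hw : (d * x43 + x44) = 0 := by linear_combination hd + (x44) * CharTwo.two_eq_zero (R := K)
  have e : X 27 d * (X 40 (x40) * (X 46 (x46) * (X 45 (x45) * (X 44 (x44) * (X 47 (x47) * (X 43 (x43))))))) * (X 27 d)⁻¹ = (X 40 (x40) * (X 46 (x46) * (X 45 (d ^ 2 * x43 + x45) * (X 44 (d * x43 + x44) * (X 47 (x47) * (X 43 (x43))))))) := by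
    rw [inv_eq]
    normX
  rw [hw, X_zero] at e
  simp only [one_mul, mul_one] at e
  exact Rch.step (xG_mem_group g₄ 27 d) e h fun h' => n220 hx40 hx46 hx43 h'

lemma n222 {x40 x46 x45 x44 x47 x42 : K} (hx40 : x40 ≠ 0) (hx45 : x45 ≠ 0) (hx42 : x42 ≠ 0)
    (h : (X 40 (x40) * (X 46 (x46) * (X 45 (x45) * (X 44 (x44) * (X 47 (x47) * (X 42 (x42))))))) * (X 40 (x40) * (X 46 (x46) * (X 45 (x45) * (X 44 (x44) * (X 47 (x47) * (X 42 (x42))))))) = 1) :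
    Rch (X 40 (x40) * (X 46 (x46) * (X 45 (x45) * (X 44 (x44) * (X 47 (x47) * (X 42 (x42))))))) := by
  have e : nS K g₄ 2 * (X 40 (x40) * (X 46 (x46) * (X 45 (x45) * (X 44 (x44) * (X 47 (x47) * (X 42 (x42))))))) * (nS K g₄ 2)⁻¹ = (X 40 (x40) * (X 46 (x45) * (X 45 (x46) * (X 44 (x44) * (X 47 (x47) * (X 43 (x42))))))) := by
    rw [← MulAut.conj_apply]
    simp only [map_mul, conj_s (i := 2) (r := 40) (r' := 40) (by decide +kernel), conj_s (i := 2) (r := 46) (r' := 45) (by decide +kernel), conj_s (i := 2) (r := 45) (r' := 46) (by decide +kernel), conj_s (i := 2) (r := 44) (r' := 44) (by decide +kernel), conj_s (i := 2) (r := 47) (r' := 47) (by decide +kernel), conj_s (i := 2) (r := 42) (r' := 43) (by decide +kernel)]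
    all_goals normX
  exact Rch.step (nS_mem_group (by decide)) e h fun h' => n221 hx40 hx45 hx42 h'

lemma n223 {x40 x46 x45 x44 x47 x43 x42 : K} (hx40 : x40 ≠ 0) (hx45 : x45 ≠ 0) (hx42 : x42 ≠ 0)
    (h : (X 40 (x40) * (X 46 (x46) * (X 45 (x45) * (X 44 (x44) * (X 47 (x47) * (X 43 (x43) * (X 42 (x42)))))))) * (X 40 (x40) * (X 46 (x46) * (X 45 (x45) * (X 44 (x44) * (X 47 (x47) * (X 43 (x43) * (X 42 (x42)))))))) = 1) :
    Rch (X 40 (x40) * (X 46 (x46) * (X 45 (x45) * (X 44 (x44) * (X 47 (x47) * (X 43 (x43) * (X 42 (x42)))))))) := by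
  obtain ⟨d, hd⟩ : ∃ d : K, (x42) * d = x43 :=
    exists_lin hx42 _
  have hw : (d * x42 + x43) = 0 := by linear_combination hd + (x43) * CharTwo.two_eq_zero (R := K)
  have e : X 25 d * (X 40 (x40) * (X 46 (x46) * (X 45 (x45) * (X 44 (x44) * (X 47 (x47) * (X 43 (x43) * (X 42 (x42)))))))) * (X 25 d)⁻¹ = (X 40 (x40) * (X 46 (d * x45 + x46) * (X 45 (x45) * (X 44 (x44) * (X 47 (x47) * (X 43 (d * x42 + x43) * (X 42 (x42)))))))) := by
    rw [inv_eq]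
    normX
  rw [hw, X_zero] at e
  simp only [one_mul, mul_one] at e
  exact Rch.step (xG_mem_group g₄ 25 d) e h fun h' => n222 hx40 hx45 hx42 h'

lemma n224 {x46 x39 x45 x44 x47 x43 x42 : K} (hx39 : x39 ≠ 0) (hx43 : x43 ≠ 0) (hx42 : x42 ≠ 0)
    (h : (X 46 (x46) * (X 39 (x39) * (X 45 (x45) * (X 44 (x44) * (X 47 (x47) * (X 43 (x43) * (X 42 (x42)))))))) * (X 46 (x46) * (X 39 (x39) * (X 45 (x45) * (X 44 (x44) * (X 47 (x47) * (X 43 (x43) * (X 42 (x42)))))))) = 1) :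
    Rch (X 46 (x46) * (X 39 (x39) * (X 45 (x45) * (X 44 (x44) * (X 47 (x47) * (X 43 (x43) * (X 42 (x42)))))))) := by
  have e : nS K g₄ 1 * (X 46 (x46) * (X 39 (x39) * (X 45 (x45) * (X 44 (x44) * (X 47 (x47) * (X 43 (x43) * (X 42 (x42)))))))) * (nS K g₄ 1)⁻¹ = (X 40 (x39) * (X 46 (x46) * (X 45 (x43) * (X 44 (x44) * (X 47 (x47) * (X 43 (x45) * (X 42 (x42)))))))) := by
    rw [← MulAut.conj_apply]
    simp only [map_mul, conj_s (i := 1) (r := 46) (r' := 46) (by decide +kernel), conj_s (i := 1) (r := 39) (r' := 40) (by decide +kernel), conj_s (i := 1) (r := 45) (r' := 43) (by decide +kernel), conj_s (i := 1) (r := 44) (r' := 44) (by decide +kernel), conj_s (i := 1) (r := 47) (r' := 47) (by decide +kernel), conj_s (i := 1) (r := 43) (r' := 45) (by decide +kernel), conj_s (i := 1) (r := 42) (r' := 42) (by decide +kernel)]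
    all_goals normX
  exact Rch.step (nS_mem_group (by decide)) e h fun h' => n223 hx39 hx43 hx42 h'

lemma n225 {x40 x46 x39 x45 x44 x47 x43 x42 : K} (hx39 : x39 ≠ 0) (hx43 : x43 ≠ 0) (hx42 : x42 ≠ 0)
    (h : (X 40 (x40) * (X 46 (x46) * (X 39 (x39) * (X 45 (x45) * (X 44 (x44) * (X 47 (x47) * (X 43 (x43) * (X 42 (x42))))))))) * (X 40 (x40) * (X 46 (x46) * (X 39 (x39) * (X 45 (x45) * (X 44 (x44) * (X 47 (x47) * (X 43 (x43) * (X 42 (x42))))))))) = 1) :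
    Rch (X 40 (x40) * (X 46 (x46) * (X 39 (x39) * (X 45 (x45) * (X 44 (x44) * (X 47 (x47) * (X 43 (x43) * (X 42 (x42))))))))) := by
  obtain ⟨d, hd⟩ : ∃ d : K, (x39) * d = x40 :=
    exists_lin hx39 _
  have hw : (d * x39 + x40) = 0 := by linear_combination hd + (x40) * CharTwo.two_eq_zero (R := K)
  have e : X 27 d * (X 40 (x40) * (X 46 (x46) * (X 39 (x39) * (X 45 (x45) * (X 44 (x44) * (X 47 (x47) * (X 43 (x43) * (X 42 (x42))))))))) * (X 27 d)⁻¹ = (X 40 (d * x39 + x40) * (X 46 (x46) * (X 39 (x39) * (X 45 (d ^ 2 * x43 + x45) * (X 44 (d * x43 + x44) * (X 47 (x47) * (X 43 (x43) * (X 42 (x42))))))))) := by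
    rw [inv_eq]
    normX
  rw [hw, X_zero] at e
  simp only [one_mul, mul_one] at e
  exact Rch.step (xG_mem_group g₄ 27 d) e h fun h' => n224 hx39 hx43 hx42 h'

lemma n226 {x40 x46 x39 x45 x41 x44 x47 x43 : K} (hx39 : x39 ≠ 0) (hx41 : x41 ≠ 0) (hx43 : x43 ≠ 0)
    (h : (X 40 (x40) * (X 46 (x46) * (X 39 (x39) * (X 45 (x45) * (X 41 (x41) * (X 44 (x44) * (X 47 (x47) * (X 43 (x43))))))))) * (X 40 (x40) * (X 46 (x46) * (X 39 (x39) * (X 45 (x45) * (X 41 (x41) * (X 44 (x44) * (X 47 (x47) * (X 43 (x43))))))))) = 1) :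
    Rch (X 40 (x40) * (X 46 (x46) * (X 39 (x39) * (X 45 (x45) * (X 41 (x41) * (X 44 (x44) * (X 47 (x47) * (X 43 (x43))))))))) := by
  have e : nS K g₄ 3 * (X 40 (x40) * (X 46 (x46) * (X 39 (x39) * (X 45 (x45) * (X 41 (x41) * (X 44 (x44) * (X 47 (x47) * (X 43 (x43))))))))) * (nS K g₄ 3)⁻¹ = (X 40 (x40) * (X 46 (x47) * (X 39 (x39) * (X 45 (x45) * (X 44 (x44) * (X 47 (x46) * (X 43 (x43) * (X 42 (x41))))))))) := by
    rw [← MulAut.conj_apply]
    simp only [map_mul, conj_s (i := 3) (r := 40) (r' := 40) (by decide +kernel), conj_s (i := 3) (r := 46) (r' := 47) (by decide +kernel), conj_s (i := 3) (r := 39) (r' := 39) (by decide +kernel), conj_s (i := 3) (r := 45) (r' := 45) (by decide +kernel), conj_s (i := 3) (r := 41) (r' := 42) (by decide +kernel), conj_s (i := 3) (r := 44) (r' := 44) (by decide +kernel), conj_s (i := 3) (r := 47) (r' := 46) (by decide +kernel), conj_s (i := 3) (r :=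 43) (r' := 43) (by decide +kernel)]
    all_goals normX
  exact Rch.step (nS_mem_group (by decide)) e h fun h' => n225 hx39 hx43 hx41 h'

lemma n227 {x40 x46 x39 x45 x41 x44 x47 x43 x42 : K} (hx39 : x39 ≠ 0) (hx41 : x41 ≠ 0) (hx43 : x43 ≠ 0)
    (h : (X 40 (x40) * (X 46 (x46) * (X 39 (x39) * (X 45 (x45) * (X 41 (x41) * (X 44 (x44) * (X 47 (x47) * (X 43 (x43) * (X 42 (x42)))))))))) * (X 40 (x40) * (X 46 (x46) * (X 39 (x39) * (X 45 (x45) * (X 41 (x41) * (X 44 (x44) * (X 47 (x47) * (X 43 (x43) * (X 42 (x42)))))))))) = 1) :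
    Rch (X 40 (x40) * (X 46 (x46) * (X 39 (x39) * (X 45 (x45) * (X 41 (x41) * (X 44 (x44) * (X 47 (x47) * (X 43 (x43) * (X 42 (x42)))))))))) := by
  obtain ⟨d, hd⟩ : ∃ d : K, (x41) * d = x42 :=
    exists_lin hx41 _
  have hw : (d * x41 + x42) = 0 := by linear_combination hd + (x42) * CharTwo.two_eq_zero (R := K)
  have e : X 24 d * (X 40 (x40) * (X 46 (x46) * (X 39 (x39) * (X 45 (x45) * (X 41 (x41) * (X 44 (x44) * (X 47 (x47) * (X 43 (x43) * (X 42 (x42)))))))))) * (X 24 d)⁻¹ = (X 40 (x40) * (X 46 (x46) * (X 39 (x39) * (X 45 (x45) * (X 41 (x41) * (X 44 (x44) * (X 47 (d * x46 + x47) * (X 43 (x43) * (X 42 (d * x41 + x42)))))))))) := by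
    rw [inv_eq]
    normX
  rw [hw, X_zero] at e
  simp only [one_mul, mul_one] at e
  exact Rch.step (xG_mem_group g₄ 24 d) e h fun h' => n226 hx39 hx41 hx43 h'

lemma n228 {x40 x46 x45 x41 x44 x47 x38 x43 x42 : K} (hx41 : x41 ≠ 0) (hx38 : x38 ≠ 0) (hx42 : x42 ≠ 0)
    (h : (X 40 (x40) * (X 46 (x46) * (X 45 (x45) * (X 41 (x41) * (X 44 (x44) * (X 47 (x47) * (X 38 (x38) * (X 43 (x43) * (X 42 (x42)))))))))) * (X 40 (x40) * (X 46 (x46) * (X 45 (x45) * (X 41 (x41) * (X 44 (x44) * (X 47 (x47) * (X 38 (x38) * (X 43 (x43) * (X 42 (x42)))))))))) = 1) :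
    Rch (X 40 (x40) * (X 46 (x46) * (X 45 (x45) * (X 41 (x41) * (X 44 (x44) * (X 47 (x47) * (X 38 (x38) * (X 43 (x43) * (X 42 (x42)))))))))) := by
  have e : nS K g₄ 2 * (X 40 (x40) * (X 46 (x46) * (X 45 (x45) * (X 41 (x41) * (X 44 (x44) * (X 47 (x47) * (X 38 (x38) * (X 43 (x43) * (X 42 (x42)))))))))) * (nS K g₄ 2)⁻¹ = (X 40 (x40) * (X 46 (x45) * (X 39 (x38) * (X 45 (x46) * (X 41 (x41) * (X 44 (x44) * (X 47 (x47) * (X 43 (x42) * (X 42 (x43)))))))))) := by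
    rw [← MulAut.conj_apply]
    simp only [map_mul, conj_s (i := 2) (r := 40) (r' := 40) (by decide +kernel), conj_s (i := 2) (r := 46) (r' := 45) (by decide +kernel), conj_s (i := 2) (r := 45) (r' := 46) (by decide +kernel), conj_s (i := 2) (r := 41) (r' := 41) (by decide +kernel), conj_s (i := 2) (r := 44) (r' := 44) (by decide +kernel), conj_s (i := 2) (r := 47) (r' := 47) (by decide +kernel), conj_s (i := 2) (r := 38) (r' := 39) (by decide +kernel), conj_s (i := 2) (r := 43) (r' := 42) (by decide +kernel), conj_s (i := 2) (r := 42) (r' := 43) (by decide +kernel)]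
    all_goals normX
  exact Rch.step (nS_mem_group (by decide)) e h fun h' => n227 hx38 hx41 hx42 h'

lemma n229 {x40 x46 x39 x45 x41 x44 x47 x38 x43 x42 : K} (hx41 : x41 ≠ 0) (hx38 : x38 ≠ 0) (hx42 : x42 ≠ 0)
    (h : (X 40 (x40) * (X 46 (x46) * (X 39 (x39) * (X 45 (x45) * (X 41 (x41) * (X 44 (x44) * (X 47 (x47) * (X 38 (x38) * (X 43 (x43) * (X 42 (x42))))))))))) * (X 40 (x40) * (X 46 (x46) * (X 39 (x39) * (X 45 (x45) * (X 41 (x41) * (X 44 (x44) * (X 47 (x47) * (X 38 (x38) * (X 43 (x43) * (X 42 (x42))))))))))) = 1) :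
    Rch (X 40 (x40) * (X 46 (x46) * (X 39 (x39) * (X 45 (x45) * (X 41 (x41) * (X 44 (x44) * (X 47 (x47) * (X 38 (x38) * (X 43 (x43) * (X 42 (x42))))))))))) := by
  obtain ⟨d, hd⟩ : ∃ d : K, (x38) * d = x39 :=
    exists_lin hx38 _
  have hw : (d * x38 + x39) = 0 := by linear_combination hd + (x39) * CharTwo.two_eq_zero (R := K)
  have e : X 25 d * (X 40 (x40) * (X 46 (x46) * (X 39 (x39) * (X 45 (x45) * (X 41 (x41) * (X 44 (x44) * (X 47 (x47) * (X 38 (x38) * (X 43 (x43) * (X 42 (x42))))))))))) * (X 25 d)⁻¹ = (X 40 (x40) * (X 46 (d * x45 + x46) * (X 39 (d * x38 + x39) * (X 45 (x45) * (X 41 (x41) * (X 44 (x44) * (X 47 (d * x38 ^ 2 + x47) * (X 38 (x38) * (X 43 (d * x42 + x43) * (X 42 (x42))))))))))) := by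
    rw [inv_eq]
    normX
  rw [hw, X_zero] at e
  simp only [one_mul, mul_one] at e
  exact Rch.step (xG_mem_group g₄ 25 d) e h fun h' => n228 hx41 hx38 hx42 h'

lemma n230 {x40 x46 x39 x45 x41 x44 x47 x43 x36 x42 : K} (hx41 : x41 ≠ 0) (hx36 : x36 ≠ 0) (hx42 : x42 ≠ 0)
    (h : (X 40 (x40) * (X 46 (x46) * (X 39 (x39) * (X 45 (x45) * (X 41 (x41) * (X 44 (x44) * (X 47 (x47) * (X 43 (x43) * (X 36 (x36) * (X 42 (x42))))))))))) * (X 40 (x40) * (X 46 (x46) * (X 39 (x39) * (X 45 (x45) * (X 41 (x41) * (X 44 (x44) * (X 47 (x47) * (X 43 (x43) * (X 36 (x36) * (X 42 (x42))))))))))) = 1) :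
    Rch (X 40 (x40) * (X 46 (x46) * (X 39 (x39) * (X 45 (x45) * (X 41 (x41) * (X 44 (x44) * (X 47 (x47) * (X 43 (x43) * (X 36 (x36) * (X 42 (x42))))))))))) := by
  have e : nS K g₄ 1 * (X 40 (x40) * (X 46 (x46) * (X 39 (x39) * (X 45 (x45) * (X 41 (x41) * (X 44 (x44) * (X 47 (x47) * (X 43 (x43) * (X 36 (x36) * (X 42 (x42))))))))))) * (nS K g₄ 1)⁻¹ = (X 40 (x39) * (X 46 (x46) * (X 39 (x40) * (X 45 (x43) * (X 41 (x41) * (X 44 (x44) * (X 47 (x47) * (X 38 (x36) * (X 43 (x45) * (X 42 (x42))))))))))) := by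
    rw [← MulAut.conj_apply]
    simp only [map_mul, conj_s (i := 1) (r := 40) (r' := 39) (by decide +kernel), conj_s (i := 1) (r := 46) (r' := 46) (by decide +kernel), conj_s (i := 1) (r := 39) (r' := 40) (by decide +kernel), conj_s (i := 1) (r := 45) (r' := 43) (by decide +kernel), conj_s (i := 1) (r := 41) (r' := 41) (by decide +kernel), conj_s (i := 1) (r := 44) (r' := 44) (by decide +kernel), conj_s (i := 1) (r := 47) (r' := 47) (by decide +kernel), conj_s (i := 1) (r := 43) (r' := 45) (by decide +kernel), conj_s (i := 1) (r := 36) (r' := 38) (by decide +kernel), conj_s (i := 1) (r := 42) (r' := 42) (by decide +kernel)]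
    all_goals normX
  exact Rch.step (nS_mem_group (by decide)) e h fun h' => n229 hx41 hx36 hx42 h'

lemma n231 {x40 x46 x39 x45 x41 x44 x47 x38 x43 x36 x42 : K} (hx41 : x41 ≠ 0) (hx36 : x36 ≠ 0) (hx42 : x42 ≠ 0)
    (h : (X 40 (x40) * (X 46 (x46) * (X 39 (x39) * (X 45 (x45) * (X 41 (x41) * (X 44 (x44) * (X 47 (x47) * (X 38 (x38) * (X 43 (x43) * (X 36 (x36) * (X 42 (x42)))))))))))) * (X 40 (x40) * (X 46 (x46) * (X 39 (x39) * (X 45 (x45) * (X 41 (x41) * (X 44 (x44) * (X 47 (x47) * (X 38 (x38) * (X 43 (x43) * (X 36 (x36) * (X 42 (x42)))))))))))) = 1) :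
    Rch (X 40 (x40) * (X 46 (x46) * (X 39 (x39) * (X 45 (x45) * (X 41 (x41) * (X 44 (x44) * (X 47 (x47) * (X 38 (x38) * (X 43 (x43) * (X 36 (x36) * (X 42 (x42)))))))))))) := by
  obtain ⟨d, hd⟩ : ∃ d : K, (x36) * d = x38 :=
    exists_lin hx36 _
  have hw : (d * x36 + x38) = 0 := by linear_combination hd + (x38) * CharTwo.two_eq_zero (R := K)
  have e : X 27 d * (X 40 (x40) * (X 46 (x46) * (X 39 (x39) * (X 45 (x45) * (X 41 (x41) * (X 44 (x44) * (X 47 (x47) * (X 38 (x38) * (X 43 (x43) * (X 36 (x36) * (X 42 (x42)))))))))))) * (X 27 d)⁻¹ = (X 40 (d * x39 + x40) * (X 46 (x46) * (X 39 (x39) * (X 45 (d ^ 2 * x43 + x45) * (X 41 (x41) * (X 44 (d * x43 + x44) * (X 47 (x47) * (X 38 (d * x36 + x38) * (X 43 (x43) * (X 36 (x36) * (X 42 (x42)))))))))))) := by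
    rw [inv_eq]
    normX
  rw [hw, X_zero] at e
  simp only [one_mul, mul_one] at e
  exact Rch.step (xG_mem_group g₄ 27 d) e h fun h' => n230 hx41 hx36 hx42 h'

lemma n232 {x30 x32 x31 x40 x46 x39 x45 x29 x44 x47 x38 : K} (hx30 : x30 ≠ 0) (hx31 : x31 ≠ 0) (hx29 : x29 ≠ 0)
    (h : (X 30 (x30) * (X 32 (x32) * (X 31 (x31) * (X 40 (x40) * (X 46 (x46) * (X 39 (x39) * (X 45 (x45) * (X 29 (x29) * (X 44 (x44) * (X 47 (x47) * (X 38 (x38)))))))))))) * (X 30 (x30) * (X 32 (x32) * (X 31 (x31) * (X 40 (x40) * (X 46 (x46) * (X 39 (x39) * (X 45 (x45) * (X 29 (x29) * (X 44 (x44) * (X 47 (x47) * (X 38 (x38)))))))))))) = 1) :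
    Rch (X 30 (x30) * (X 32 (x32) * (X 31 (x31) * (X 40 (x40) * (X 46 (x46) * (X 39 (x39) * (X 45 (x45) * (X 29 (x29) * (X 44 (x44) * (X 47 (x47) * (X 38 (x38)))))))))))) := by
  have e : nS K g₄ 0 * (X 30 (x30) * (X 32 (x32) * (X 31 (x31) * (X 40 (x40) * (X 46 (x46) * (X 39 (x39) * (X 45 (x45) * (X 29 (x29) * (X 44 (x44) * (X 47 (x47) * (X 38 (x38)))))))))))) * (nS K g₄ 0)⁻¹ = (X 40 (x44) * (X 46 (x46) * (X 39 (x39) * (X 45 (x45) * (X 41 (x30) * (X 44 (x40) * (X 47 (x47) * (X 38 (x38) * (X 43 (x32) * (X 36 (x29) * (X 42 (x31)))))))))))) := by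
    rw [← MulAut.conj_apply]
    simp only [map_mul, conj_s (i := 0) (r := 30) (r' := 41) (by decide +kernel), conj_s (i := 0) (r := 32) (r' := 43) (by decide +kernel), conj_s (i := 0) (r := 31) (r' := 42) (by decide +kernel), conj_s (i := 0) (r := 40) (r' := 44) (by decide +kernel), conj_s (i := 0) (r := 46) (r' := 46) (by decide +kernel), conj_s (i := 0) (r := 39) (r' := 39) (by decide +kernel), conj_s (i := 0) (r := 45) (r' := 45) (by decide +kernel), conj_s (i := 0) (r := 29) (r' := 36) (by decide +kernel), conj_s (i := 0) (r := 44) (r' := 40) (by decide +kernel), conj_s (i := 0) (r := 47) (r' := 47) (by decide +kernel), conj_s (i := 0) (r := 38) (r' := 38) (by decide +kernel)]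
    all_goals normX
  exact Rch.step (nS_mem_group (by decide)) e h fun h' => n231 hx30 hx29 hx31 h'

lemma n233 {x30 x32 x31 x40 x46 x39 x45 x29 x44 x47 x38 x43 x42 : K} (hx30 : x30 ≠ 0) (hx31 : x31 ≠ 0) (hx29 : x29 ≠ 0)
    (h : (X 30 (x30) * (X 32 (x32) * (X 31 (x31) * (X 40 (x40) * (X 46 (x46) * (X 39 (x39) * (X 45 (x45) * (X 29 (x29) * (X 44 (x44) * (X 47 (x47) * (X 38 (x38) * (X 43 (x43) * (X 42 (x42)))))))))))))) * (X 30 (x30) * (X 32 (x32) * (X 31 (x31) * (X 40 (x40) * (X 46 (x46) * (X 39 (x39) * (X 45 (x45) * (X 29 (x29) * (X 44 (x44) * (X 47 (x47) * (X 38 (x38) * (X 43 (x43) * (X 42 (x42)))))))))))))) = 1) :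
    Rch (X 30 (x30) * (X 32 (x32) * (X 31 (x31) * (X 40 (x40) * (X 46 (x46) * (X 39 (x39) * (X 45 (x45) * (X 29 (x29) * (X 44 (x44) * (X 47 (x47) * (X 38 (x38) * (X 43 (x43) * (X 42 (x42)))))))))))))) := by
  have e : (X 30 (x30) * (X 32 (x32) * (X 31 (x31) * (X 40 (x40) * (X 46 (x46) * (X 39 (x39) * (X 45 (x45) * (X 29 (x29) * (X 44 (x44) * (X 47 (x47) * (X 38 (x38) * (X 43 (x43) * (X 42 (x42)))))))))))))) * (X 30 (x30) * (X 32 (x32) * (X 31 (x31) * (X 40 (x40) * (X 46 (x46) * (X 39 (x39) * (X 45 (x45) * (X 29 (x29) * (X 44 (x44) * (X 47 (x47) * (X 38 (x38) * (X 43 (x43) * (X 42 (x42)))))))))))))) = Z (0, 0) (0, 0) (0, 0) (0, 0) (0, x30 * x43) (0, x30 * x42) (0, 0) (0, x31 * x43 + x32 * x42) (0, 0) (0, 0) (0, 0) (0, 0) := by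
    unfold Z
    normX
  have e' := Z_inj (e.symm.trans (h.trans one_Z))
  obtain ⟨-, -, -, -, e4, e5, -, -, -, -, -, -⟩ := e'
  have z43 : x43 = 0 := zero_of (congrArg Prod.snd e4) fun hx43 =>
    (mul_ne_zero hx30 hx43)
  have z42 : x42 = 0 := zero_of (congrArg Prod.snd e5) fun hx42 =>
    (mul_ne_zero hx30 hx42)
  subst z43 z42
  simp only [X_zero, one_mul, mul_one] at h ⊢
  exact n232 hx30 hx31 hx29 h

lemma n234 {x30 x32 x31 x40 x46 x39 x45 x29 x44 x47 x38 x43 x42 : K} (hx31 : x31 ≠ 0) (hx29 : x29 ≠ 0)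
    (h : (X 30 (x30) * (X 32 (x32) * (X 31 (x31) * (X 40 (x40) * (X 46 (x46) * (X 39 (x39) * (X 45 (x45) * (X 29 (x29) * (X 44 (x44) * (X 47 (x47) * (X 38 (x38) * (X 43 (x43) * (X 42 (x42)))))))))))))) * (X 30 (x30) * (X 32 (x32) * (X 31 (x31) * (X 40 (x40) * (X 46 (x46) * (X 39 (x39) * (X 45 (x45) * (X 29 (x29) * (X 44 (x44) * (X 47 (x47) * (X 38 (x38) * (X 43 (x43) * (X 42 (x42)))))))))))))) = 1) :
    Rch (X 30 (x30) * (X 32 (x32) * (X 31 (x31) * (X 40 (x40) * (X 46 (x46) * (X 39 (x39) * (X 45 (x45) * (X 29 (x29) * (X 44 (x44) * (X 47 (x47) * (X 38 (x38) * (X 43 (x43) * (X 42 (x42)))))))))))))) := by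
  rcases eq_or_ne x30 0 with rfl | hx30
  · simp only [X_zero, one_mul, mul_one] at h ⊢
    exact n175 hx31 hx29 h
  · exact n233 hx30 hx31 hx29 h

lemma n235 {x30 x37 x32 x31 x40 x46 x39 x45 x29 x41 x44 x47 x38 x43 x42 : K} (hx31 : x31 ≠ 0) (hx29 : x29 ≠ 0)
    (h : (X 30 (x30) * (X 37 (x37) * (X 32 (x32) * (X 31 (x31) * (X 40 (x40) * (X 46 (x46) * (X 39 (x39) * (X 45 (x45) * (X 29 (x29) * (X 41 (x41) * (X 44 (x44) * (X 47 (x47) * (X 38 (x38) * (X 43 (x43) * (X 42 (x42)))))))))))))))) * (X 30 (x30) * (X 37 (x37) * (X 32 (x32) * (X 31 (x31) * (X 40 (x40) * (X 46 (x46) * (X 39 (x39) * (X 45 (x45) * (X 29 (x29) * (X 41 (x41) * (X 44 (x44) * (X 47 (x47) * (X 38 (x38) * (X 43 (x43) * (X 42 (x42)))))))))))))))) = 1) :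
    Rch (X 30 (x30) * (X 37 (x37) * (X 32 (x32) * (X 31 (x31) * (X 40 (x40) * (X 46 (x46) * (X 39 (x39) * (X 45 (x45) * (X 29 (x29) * (X 41 (x41) * (X 44 (x44) * (X 47 (x47) * (X 38 (x38) * (X 43 (x43) * (X 42 (x42)))))))))))))))) := by
  have e : (X 30 (x30) * (X 37 (x37) * (X 32 (x32) * (X 31 (x31) * (X 40 (x40) * (X 46 (x46) * (X 39 (x39) * (X 45 (x45) * (X 29 (x29) * (X 41 (x41) * (X 44 (x44) * (X 47 (x47) * (X 38 (x38) * (X 43 (x43) * (X 42 (x42)))))))))))))))) * (X 30 (x30) * (X 37 (x37) * (X 32 (x32) * (X 31 (x31) * (X 40 (x40) * (X 46 (x46) * (X 39 (x39) * (X 45 (x45) * (X 29 (x29) * (X 41 (x41) * (X 44 (x44) * (X 47 (x47) * (X 38 (x38) * (X 43 (x43) * (X 42 (x42)))))))))))))))) = Z (0, 0) (0, 0) (0, 0) (0, 0) (x29 * x37, x30 * x43 + x32 * x41) (0, x30 * x42 + x31 * x41) (0, 0) (x29 * x41, x29 ^ 2 * x41 + x31 * x43 + x32 * x42) (0, 0) (0, 0) (0, 0) (0, 0) := by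
    unfold Z
    normX
  have e' := Z_inj (e.symm.trans (h.trans one_Z))
  obtain ⟨-, -, -, -, e4, -, -, e7, -, -, -, -⟩ := e'
  have z37 : x37 = 0 := zero_of (congrArg Prod.fst e4) fun hx37 =>
    (mul_ne_zero hx29 hx37)
  have z41 : x41 = 0 := zero_of (congrArg Prod.fst e7) fun hx41 =>
    (mul_ne_zero hx29 hx41)
  subst z37 z41
  simp only [X_zero, one_mul, mul_one] at h ⊢
  exact n234 hx31 hx29 h

lemma n236 {x30 x37 x32 x31 x40 x46 x39 x45 x29 x41 x44 x47 x38 x43 x36 x42 : K} (hx31 : x31 ≠ 0) (hx29 : x29 ≠ 0)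
    (h : (X 30 (x30) * (X 37 (x37) * (X 32 (x32) * (X 31 (x31) * (X 40 (x40) * (X 46 (x46) * (X 39 (x39) * (X 45 (x45) * (X 29 (x29) * (X 41 (x41) * (X 44 (x44) * (X 47 (x47) * (X 38 (x38) * (X 43 (x43) * (X 36 (x36) * (X 42 (x42))))))))))))))))) * (X 30 (x30) * (X 37 (x37) * (X 32 (x32) * (X 31 (x31) * (X 40 (x40) * (X 46 (x46) * (X 39 (x39) * (X 45 (x45) * (X 29 (x29) * (X 41 (x41) * (X 44 (x44) * (X 47 (x47) * (X 38 (x38) * (X 43 (x43) * (X 36 (x36) * (X 42 (x42))))))))))))))))) = 1) :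
    Rch (X 30 (x30) * (X 37 (x37) * (X 32 (x32) * (X 31 (x31) * (X 40 (x40) * (X 46 (x46) * (X 39 (x39) * (X 45 (x45) * (X 29 (x29) * (X 41 (x41) * (X 44 (x44) * (X 47 (x47) * (X 38 (x38) * (X 43 (x43) * (X 36 (x36) * (X 42 (x42))))))))))))))))) := by
  obtain ⟨d, hd⟩ : ∃ d : K, (x29) * d = x36 :=
    exists_lin hx29 _
  have hw : (d * x29 + x36) = 0 := by linear_combination hd + (x36) * CharTwo.two_eq_zero (R := K)
  have e : X 33 d * (X 30 (x30) * (X 37 (x37) * (X 32 (x32) * (X 31 (x31) * (X 40 (x40) * (X 46 (x46) * (X 39 (x39) * (X 45 (x45) * (X 29 (x29) * (X 41 (x41) * (X 44 (x44) * (X 47 (x47) * (X 38 (x38) * (X 43 (x43) * (X 36 (x36) * (X 42 (x42))))))))))))))))) * (X 33 d)⁻¹ = (X 30 (x30) * (X 37 (d * x30 + x37) * (X 32 (x32) * (X 31 (x31) * (X 40 (x40) * (X 46 (d ^ 2 * x30 * x32 + x46) * (X 39 (d * x32 + x39) * (X 45 (d ^ 2 * x30 * x31 + x45) * (X 29 (x29) * (X 41 (d ^ 2 * x30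 + x41) * (X 44 (d * x40 + d ^ 2 * x29 * x30 + x44) * (X 47 (d ^ 2 * x29 ^ 2 * x30 + d ^ 2 * x31 * x32 + x47) * (X 38 (d * x31 + x38) * (X 43 (d ^ 2 * x32 + x43) * (X 36 (d * x29 + x36) * (X 42 (d ^ 2 * x31 + x42))))))))))))))))) := by
    rw [inv_eq]
    normX
  rw [hw, X_zero] at e
  simp only [one_mul, mul_one] at e
  exact Rch.step (xG_mem_group g₄ 33 d) e h fun h' => n235 hx31 hx29 h'

lemma n237 {x28 x30 x37 x32 x35 x31 x40 x46 x39 x45 x41 x44 x47 x38 x43 x42 : K} (hx28 : x28 ≠ 0) (hx30 : x30 ≠ 0)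
    (h : (X 28 (x28) * (X 30 (x30) * (X 37 (x37) * (X 32 (x32) * (X 35 (x35) * (X 31 (x31) * (X 40 (x40) * (X 46 (x46) * (X 39 (x39) * (X 45 (x45) * (X 41 (x41) * (X 44 (x44) * (X 47 (x47) * (X 38 (x38) * (X 43 (x43) * (X 42 (x42))))))))))))))))) * (X 28 (x28) * (X 30 (x30) * (X 37 (x37) * (X 32 (x32) * (X 35 (x35) * (X 31 (x31) * (X 40 (x40) * (X 46 (x46) * (X 39 (x39) * (X 45 (x45) * (X 41 (x41) * (X 44 (x44) * (X 47 (x47) * (X 38 (x38) * (X 43 (x43) * (X 42 (x42))))))))))))))))) = 1) :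
    Rch (X 28 (x28) * (X 30 (x30) * (X 37 (x37) * (X 32 (x32) * (X 35 (x35) * (X 31 (x31) * (X 40 (x40) * (X 46 (x46) * (X 39 (x39) * (X 45 (x45) * (X 41 (x41) * (X 44 (x44) * (X 47 (x47) * (X 38 (x38) * (X 43 (x43) * (X 42 (x42))))))))))))))))) := by
  have e : nS K g₄ 3 * (X 28 (x28) * (X 30 (x30) * (X 37 (x37) * (X 32 (x32) * (X 35 (x35) * (X 31 (x31) * (X 40 (x40) * (X 46 (x46) * (X 39 (x39) * (X 45 (x45) * (X 41 (x41) * (X 44 (x44) * (X 47 (x47) * (X 38 (x38) * (X 43 (x43) * (X 42 (x42))))))))))))))))) * (nS K g₄ 3)⁻¹ = (X 30 (x31) * (X 37 (x38) * (X 32 (x32) * (X 31 (x30) * (X 40 (x28 * x38 + x31 * x35 + x40) * (X 46 (x47) * (X 39 (x39) * (X 45 (x45) * (X 29 (x28) * (X 41 (x42) * (X 44 (x35 * x38 + x44) * (X 47 (x31 * x35 ^ 2 + x46) * (X 38 (x37) * (X 43 (x43) * (X 36 (x35) * (X 42 (x41))))))))))))))))) := by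
    rw [← MulAut.conj_apply]
    simp only [map_mul, conj_s (i := 3) (r := 28) (r' := 29) (by decide +kernel), conj_s (i := 3) (r := 30) (r' := 31) (by decide +kernel), conj_s (i := 3) (r := 37) (r' := 38) (by decide +kernel), conj_s (i := 3) (r := 32) (r' := 32) (by decide +kernel), conj_s (i := 3) (r := 35) (r' := 36) (by decide +kernel), conj_s (i := 3) (r := 31) (r' := 30) (by decide +kernel), conj_s (i := 3) (r := 40) (r' := 40) (by decide +kernel), conj_s (i := 3) (r := 46) (r' := 47) (by decide +kernel), conj_s (i := 3) (r := 39) (r' := 39) (by decide +kernel), conj_s (i := 3) (r := 45) (r' := 45) (by decide +kernel), conj_s (i := 3) (r := 41) (r' := 42) (by decide +kernel), conj_s (i := 3) (r := 44) (r' := 44) (by decide +kernel), conj_s (i := 3) (r := 47) (r' := 46) (by decide +kernel), conj_s (i := 3) (r := 38) (r' := 37) (by decide +kernel), conj_s (i := 3) (r := 43) (r' :=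 43) (by decide +kernel), conj_s (i := 3) (r := 42) (r' := 41) (by decide +kernel)]
    all_goals normX
  exact Rch.step (nS_mem_group (by decide)) e h fun h' => n236 hx30 hx28 h'

end CfsgLib.Chev.F4Inv
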