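/-
Reduction of the involutions in the unipotent subgroup of type F4: cases, part 5.
-/
import Cfsg.Agent.Lib.Chev.F4Invol.Red4

set_option autoImplicit false
set_option maxRecDepth 100000
set_option maxHeartbeats 4000000
set_option linter.unusedSimpArgs false
set_option linter.unusedVariables false
set_option linter.unusedSectionVars false

namespace CfsgLib.Chev.F4Inv

open Cfsg.Lie Matrix CfsgLib.Chev CfsgLib.Chev.F42Invol

variable {K : Type*} [Field K] [CharP K 2] [Fintype K]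

local notation "g₄" => stdF4.good

lemma n238 {x28 x30 x37 x32 x35 x31 x40 x46 x39 x45 x41 x44 x47 x38 x43 x36 x42 : K} (hx28 : x28 ≠ 0) (hx30 : x30 ≠ 0)
    (h : (X 28 (x28) * (X 30 (x30) * (X 37 (x37) * (X 32 (x32) * (X 35 (x35) * (X 31 (x31) * (X 40 (x40) * (X 46 (x46) * (X 39 (x39) * (X 45 (x45) * (X 41 (x41) * (X 44 (x44) * (X 47 (x47) * (X 38 (x38) * (X 43 (x43) * (X 36 (x36) * (X 42 (x42)))))))))))))))))) * (X 28 (x28) * (X 30 (x30) * (X 37 (x37) * (X 32 (x32) * (X 35 (x35) * (X 31 (x31) * (X 40 (x40) * (X 46 (x46) * (X 39 (x39) * (X 45 (x45) * (X 41 (x41) * (X 44 (x44) * (X 47 (x47) * (X 38 (x38) * (X 43 (x43) * (X 36 (x36) * (X 42 (x42)))))))))))))))))) = 1) :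
    Rch (X 28 (x28) * (X 30 (x30) * (X 37 (x37) * (X 32 (x32) * (X 35 (x35) * (X 31 (x31) * (X 40 (x40) * (X 46 (x46) * (X 39 (x39) * (X 45 (x45) * (X 41 (x41) * (X 44 (x44) * (X 47 (x47) * (X 38 (x38) * (X 43 (x43) * (X 36 (x36) * (X 42 (x42)))))))))))))))))) := by
  have e : (X 28 (x28) * (X 30 (x30) * (X 37 (x37) * (X 32 (x32) * (X 35 (x35) * (X 31 (x31) * (X 40 (x40) * (X 46 (x46) * (X 39 (x39) * (X 45 (x45) * (X 41 (x41) * (X 44 (x44) * (X 47 (x47) * (X 38 (x38) * (X 43 (x43) * (X 36 (x36) * (X 42 (x42)))))))))))))))))) * (X 28 (x28) * (X 30 (x30) * (X 37 (x37) * (X 32 (x32) * (X 35 (x35) * (X 31 (x31) * (X 40 (x40) * (X 46 (x46) * (X 39 (x39) * (X 45 (x45) * (X 41 (x41) * (X 44 (x44) * (X 47 (x47) * (X 38 (x38) * (X 43 (x43) * (X 36 (x36) * (X 42 (x42)))))))))))))))))) = Z (0, 0) (0, 0) (0, 0) (0, 0) (x28 * x38 + x30 * x36 + x31 * x35, x28 ^ 2 * x42 + x30 * x43 + x31 * x35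 ^ 2 + x32 * x41) (x28 * x36, x30 * x42 + x31 * x41) (0, 0) (x28 * x42 + x35 * x38 + x36 * x37, x30 * x36 ^ 2 + x31 * x43 + x32 * x42) (0, 0) (0, 0) (0, 0) (0, 0) := by
    unfold Z
    normX
  have e' := Z_inj (e.symm.trans (h.trans one_Z))
  obtain ⟨-, -, -, -, -, e5, -, -, -, -, -, -⟩ := e'
  have z36 : x36 = 0 := zero_of (congrArg Prod.fst e5) fun hx36 =>
    (mul_ne_zero hx28 hx36)
  subst z36
  simp only [X_zero, one_mul, mul_one] at h ⊢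
  exact n237 hx28 hx30 h

lemma n239 {x28 x30 x37 x32 x35 x31 x40 x46 x39 x45 x29 x41 x44 x47 x38 x43 x36 x42 : K} (hx28 : x28 ≠ 0) (hx30 : x30 ≠ 0)
    (h : (X 28 (x28) * (X 30 (x30) * (X 37 (x37) * (X 32 (x32) * (X 35 (x35) * (X 31 (x31) * (X 40 (x40) * (X 46 (x46) * (X 39 (x39) * (X 45 (x45) * (X 29 (x29) * (X 41 (x41) * (X 44 (x44) * (X 47 (x47) * (X 38 (x38) * (X 43 (x43) * (X 36 (x36) * (X 42 (x42))))))))))))))))))) * (X 28 (x28) * (X 30 (x30) * (X 37 (x37) * (X 32 (x32) * (X 35 (x35) * (X 31 (x31) * (X 40 (x40) * (X 46 (x46) * (X 39 (x39) * (X 45 (x45) * (X 29 (x29) * (X 41 (x41) * (X 44 (x44) * (X 47 (x47) * (X 38 (x38) * (X 43 (x43) * (X 36 (x36) * (X 42 (x42))))))))))))))))))) = 1) :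
    Rch (X 28 (x28) * (X 30 (x30) * (X 37 (x37) * (X 32 (x32) * (X 35 (x35) * (X 31 (x31) * (X 40 (x40) * (X 46 (x46) * (X 39 (x39) * (X 45 (x45) * (X 29 (x29) * (X 41 (x41) * (X 44 (x44) * (X 47 (x47) * (X 38 (x38) * (X 43 (x43) * (X 36 (x36) * (X 42 (x42))))))))))))))))))) := by
  obtain ⟨d, hd⟩ : ∃ d : K, (x28) * d = x29 :=
    exists_lin hx28 _
  have hw : (d * x28 + x29) = 0 := by linear_combination hd + (x29) * CharTwo.two_eq_zero (R := K)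
  have e : X 24 d * (X 28 (x28) * (X 30 (x30) * (X 37 (x37) * (X 32 (x32) * (X 35 (x35) * (X 31 (x31) * (X 40 (x40) * (X 46 (x46) * (X 39 (x39) * (X 45 (x45) * (X 29 (x29) * (X 41 (x41) * (X 44 (x44) * (X 47 (x47) * (X 38 (x38) * (X 43 (x43) * (X 36 (x36) * (X 42 (x42))))))))))))))))))) * (X 24 d)⁻¹ = (X 28 (x28) * (X 30 (x30) * (X 37 (x37) * (X 32 (d * x28 ^ 2 + x32) * (X 35 (x35) * (X 31 (d * x30 + x31) * (X 40 (d * x28 * x37 + d * x30 * x35 + x40) * (X 46 (d * x30 * x35 ^ 2 + x46) * (X 39 (d * x28 * x35 + x39) * (X 45 (d * x37 ^ 2 + x45) * (X 29 (d * x28 + x29) * (X 41 (x41) * (X 44 (d * x35 * x37 + x44) * (X 47 (d * x31 * x35 ^ 2 + d * x46 + x47) * (X 38 (d * x37 + x38) * (X 43 (d * x35 ^ 2 + x43) * (X 36 (d * x35 + x36) * (X 42 (d * x41 + x42))))))))))))))))))) := by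
    rw [inv_eq]
    normX
  rw [hw, X_zero] at e
  simp only [one_mul, mul_one] at e
  exact Rch.step (xG_mem_group g₄ 24 d) e h fun h' => n238 hx28 hx30 h'

lemma n240 {x27 x30 x37 x32 x31 x40 x46 x39 x45 x29 x41 x44 x47 x38 x43 x34 x36 x42 : K} (hx27 : x27 ≠ 0) (hx30 : x30 ≠ 0)
    (h : (X 27 (x27) * (X 30 (x30) * (X 37 (x37) * (X 32 (x32) * (X 31 (x31) * (X 40 (x40) * (X 46 (x46) * (X 39 (x39) * (X 45 (x45) * (X 29 (x29) * (X 41 (x41) * (X 44 (x44) * (X 47 (x47) * (X 38 (x38) * (X 43 (x43) * (X 34 (x34) * (X 36 (x36) * (X 42 (x42))))))))))))))))))) * (X 27 (x27) * (X 30 (x30) * (X 37 (x37) * (X 32 (x32) * (X 31 (x31) * (X 40 (x40) * (X 46 (x46) * (X 39 (x39) * (X 45 (x45) * (X 29 (x29) * (X 41 (x41) * (X 44 (x44) * (X 47 (x47) * (X 38 (x38) * (X 43 (x43) * (X 34 (x34) * (X 36 (x36) * (X 42 (x42))))))))))))))))))) = 1) :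
    Rch (X 27 (x27) * (X 30 (x30) * (X 37 (x37) * (X 32 (x32) * (X 31 (x31) * (X 40 (x40) * (X 46 (x46) * (X 39 (x39) * (X 45 (x45) * (X 29 (x29) * (X 41 (x41) * (X 44 (x44) * (X 47 (x47) * (X 38 (x38) * (X 43 (x43) * (X 34 (x34) * (X 36 (x36) * (X 42 (x42))))))))))))))))))) := by
  have e : nS K g₄ 2 * (X 27 (x27) * (X 30 (x30) * (X 37 (x37) * (X 32 (x32) * (X 31 (x31) * (X 40 (x40) * (X 46 (x46) * (X 39 (x39) * (X 45 (x45) * (X 29 (x29) * (X 41 (x41) * (X 44 (x44) * (X 47 (x47) * (X 38 (x38) * (X 43 (x43) * (X 34 (x34) * (X 36 (x36) * (X 42 (x42))))))))))))))))))) * (nS K g₄ 2)⁻¹ = (X 28 (x27) * (X 30 (x30) * (X 37 (x37) * (X 32 (x31) * (X 35 (x34) * (X 31 (x32) * (X 40 (x32 * x34 + x40) * (X 46 (x32 * x34 ^ 2 + x45) * (X 39 (x29 * x34 + x38) * (X 45 (x46) * (X 29 (x29) * (X 41 (x41) * (X 44 (x34 * x39 + x44) * (X 47 (x47) * (X 38 (x39) * (X 43 (x42) * (X 36 (x36) * (X 42 (x43)))))))))))))))))))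 := by
    rw [← MulAut.conj_apply]
    simp only [map_mul, conj_s (i := 2) (r := 27) (r' := 28) (by decide +kernel), conj_s (i := 2) (r := 30) (r' := 30) (by decide +kernel), conj_s (i := 2) (r := 37) (r' := 37) (by decide +kernel), conj_s (i := 2) (r := 32) (r' := 31) (by decide +kernel), conj_s (i := 2) (r := 31) (r' := 32) (by decide +kernel), conj_s (i := 2) (r := 40) (r' := 40) (by decide +kernel), conj_s (i := 2) (r := 46) (r' := 45) (by decide +kernel), conj_s (i := 2) (r := 39) (r' := 38) (by decide +kernel), conj_s (i := 2) (r := 45) (r' := 46) (by decide +kernel), conj_s (i := 2) (r := 29) (r' := 29) (by decide +kernel), conj_s (i := 2) (r := 41) (r' := 41) (by decide +kernel), conj_s (i := 2) (r := 44) (r' := 44) (by decide +kernel), conj_s (i := 2) (r := 47) (r' := 47) (by decide +kernel), conj_s (i := 2) (r := 38) (r' := 39) (by decide +kernel), conj_s (i := 2) (r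 := 43) (r' := 42) (by decide +kernel), conj_s (i := 2) (r := 34) (r' := 35) (by decide +kernel), conj_s (i := 2) (r := 36) (r' := 36) (by decide +kernel), conj_s (i := 2) (r := 42) (r' := 43) (by decide +kernel)]
    all_goals normX
  exact Rch.step (nS_mem_group (by decide)) e h fun h' => n239 hx27 hx30 h'

lemma n241 {x27 x30 x37 x32 x35 x31 x40 x46 x39 x45 x29 x41 x44 x47 x38 x43 x34 x36 x42 : K} (hx27 : x27 ≠ 0) (hx30 : x30 ≠ 0)
    (h : (X 27 (x27) * (X 30 (x30) * (X 37 (x37) * (X 32 (x32) * (X 35 (x35) * (X 31 (x31) * (X 40 (x40) * (X 46 (x46) * (X 39 (x39) * (X 45 (x45) * (X 29 (x29) * (X 41 (x41) * (X 44 (x44) * (X 47 (x47) * (X 38 (x38) * (X 43 (x43) * (X 34 (x34) * (X 36 (x36) * (X 42 (x42)))))))))))))))))))) * (X 27 (x27) * (X 30 (x30) * (X 37 (x37) * (X 32 (x32) * (X 35 (x35) * (X 31 (x31) * (X 40 (x40) * (X 46 (x46) * (X 39 (x39) * (X 45 (x45) * (X 29 (x29) * (X 41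 (x41) * (X 44 (x44) * (X 47 (x47) * (X 38 (x38) * (X 43 (x43) * (X 34 (x34) * (X 36 (x36) * (X 42 (x42)))))))))))))))))))) = 1) :
    Rch (X 27 (x27) * (X 30 (x30) * (X 37 (x37) * (X 32 (x32) * (X 35 (x35) * (X 31 (x31) * (X 40 (x40) * (X 46 (x46) * (X 39 (x39) * (X 45 (x45) * (X 29 (x29) * (X 41 (x41) * (X 44 (x44) * (X 47 (x47) * (X 38 (x38) * (X 43 (x43) * (X 34 (x34) * (X 36 (x36) * (X 42 (x42)))))))))))))))))))) := by
  have e : (X 27 (x27) * (X 30 (x30) * (X 37 (x37) * (X 32 (x32) * (X 35 (x35) * (X 31 (x31) * (X 40 (x40) * (X 46 (x46) * (X 39 (x39) * (X 45 (x45) * (X 29 (x29) * (X 41 (x41) * (X 44 (x44) * (X 47 (x47) * (X 38 (x38) * (X 43 (x43) * (X 34 (x34) * (X 36 (x36) * (X 42 (x42)))))))))))))))))))) * (X 27 (x27) * (X 30 (x30) * (X 37 (x37) * (X 32 (x32) * (X 35 (x35) * (X 31 (x31) * (X 40 (x40) * (X 46 (x46) * (X 39 (x39) * (X 45 (x45) * (X 29 (x29) * (X 41 (x41)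 * (X 44 (x44) * (X 47 (x47) * (X 38 (x38) * (X 43 (x43) * (X 34 (x34) * (X 36 (x36) * (X 42 (x42)))))))))))))))))))) = Z (0, 0) (0, 0) (x27 * x35, 0) (0, 0) (x27 * x39 + x29 * x37 + x30 * x36 + x31 * x35 + x32 * x34, x30 * x43 + x31 * x35 ^ 2 + x32 * x41) (x29 * x35, x27 ^ 2 * x43 + x30 * x42 + x31 * x41 + x32 * x34 ^ 2) (0, 0) (x27 * x35 * x36 + x27 * x43 + x29 * x41 + x34 * x39 + x35 * x38 + x36 * x37, x29 ^ 2 * x41 + x30 * x36 ^ 2 + x31 * x43 + x32 * x42) (x27 * x36 + x29 * x34, 0) (0, 0) (0, 0) (0, 0) := by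
    unfold Z
    normX
  have e' := Z_inj (e.symm.trans (h.trans one_Z))
  obtain ⟨-, -, e2, -, -, -, -, -, -, -, -, -⟩ := e'
  have z35 : x35 = 0 := zero_of (congrArg Prod.fst e2) fun hx35 =>
    (mul_ne_zero hx27 hx35)
  subst z35
  simp only [X_zero, one_mul, mul_one] at h ⊢
  exact n240 hx27 hx30 h

lemma n242 {x27 x30 x37 x32 x35 x31 x40 x46 x39 x45 x29 x41 x44 x47 x38 x43 x34 x36 x42 : K} (hx30 : x30 ≠ 0)
    (h : (X 27 (x27) * (X 30 (x30) * (X 37 (x37) * (X 32 (x32) * (X 35 (x35) * (X 31 (x31) * (X 40 (x40) * (X 46 (x46) * (X 39 (x39) * (X 45 (x45) * (X 29 (x29) * (X 41 (x41) * (X 44 (x44) * (X 47 (x47) * (X 38 (x38) * (X 43 (x43) * (X 34 (x34) * (X 36 (x36) * (X 42 (x42)))))))))))))))))))) * (X 27 (x27) * (X 30 (x30) * (X 37 (x37) * (X 32 (x32) * (X 35 (x35) * (X 31 (x31) * (X 40 (x40) * (X 46 (x46) * (X 39 (x39) * (X 45 (x45) * (X 29 (x29) * (X 41 (x41) * (X 44 (x44)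 * (X 47 (x47) * (X 38 (x38) * (X 43 (x43) * (X 34 (x34) * (X 36 (x36) * (X 42 (x42)))))))))))))))))))) = 1) :
    Rch (X 27 (x27) * (X 30 (x30) * (X 37 (x37) * (X 32 (x32) * (X 35 (x35) * (X 31 (x31) * (X 40 (x40) * (X 46 (x46) * (X 39 (x39) * (X 45 (x45) * (X 29 (x29) * (X 41 (x41) * (X 44 (x44) * (X 47 (x47) * (X 38 (x38) * (X 43 (x43) * (X 34 (x34) * (X 36 (x36) * (X 42 (x42)))))))))))))))))))) := by
  rcases eq_or_ne x27 0 with rfl | hx27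
  · simp only [X_zero, one_mul, mul_one] at h ⊢
    exact n219 hx30 h
  · exact n241 hx27 hx30 h

lemma n243 {x27 x30 x37 x32 x35 x31 x40 x46 x39 x45 x29 x41 x44 x47 x38 x43 x34 x36 x42 x33 : K} (hx30 : x30 ≠ 0)
    (h : (X 27 (x27) * (X 30 (x30) * (X 37 (x37) * (X 32 (x32) * (X 35 (x35) * (X 31 (x31) * (X 40 (x40) * (X 46 (x46) * (X 39 (x39) * (X 45 (x45) * (X 29 (x29) * (X 41 (x41) * (X 44 (x44) * (X 47 (x47) * (X 38 (x38) * (X 43 (x43) * (X 34 (x34) * (X 36 (x36) * (X 42 (x42) * (X 33 (x33))))))))))))))))))))) * (X 27 (x27) * (X 30 (x30) * (X 37 (x37) * (X 32 (x32) * (X 35 (x35) * (X 31 (x31) * (X 40 (x40) * (X 46 (x46) * (X 39 (x39) * (X 45 (x45) * (X 29 (x29) * (X 41 (x41) * (X 44 (x44) * (X 47 (x47) * (X 38 (x38) * (X 43 (x43) * (X 34 (x34) * (X 36 (x36) * (X 42 (x42) * (X 33 (x33))))))))))))))))))))) = 1) :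
    Rch (X 27 (x27) * (X 30 (x30) * (X 37 (x37) * (X 32 (x32) * (X 35 (x35) * (X 31 (x31) * (X 40 (x40) * (X 46 (x46) * (X 39 (x39) * (X 45 (x45) * (X 29 (x29) * (X 41 (x41) * (X 44 (x44) * (X 47 (x47) * (X 38 (x38) * (X 43 (x43) * (X 34 (x34) * (X 36 (x36) * (X 42 (x42) * (X 33 (x33))))))))))))))))))))) := by
  have e : (X 27 (x27) * (X 30 (x30) * (X 37 (x37) * (X 32 (x32) * (X 35 (x35) * (X 31 (x31) * (X 40 (x40) * (X 46 (x46) * (X 39 (x39) * (X 45 (x45) * (X 29 (x29) * (X 41 (x41) * (X 44 (x44) * (X 47 (x47) * (X 38 (x38) * (X 43 (x43) * (X 34 (x34) * (X 36 (x36) * (X 42 (x42) * (X 33 (x33))))))))))))))))))))) * (X 27 (x27) * (X 30 (x30) * (X 37 (x37) * (X 32 (x32) * (X 35 (x35) * (X 31 (x31) * (X 40 (x40) * (X 46 (x46) * (X 39 (x39) * (X 45 (x45) * (X 29 (x29) * (X 41 (x41) * (X 44 (x44) * (X 47 (x47) * (X 38 (x38) * (X 43 (x43) * (X 34 (x34) * (X 36 (x36) * (X 42 (x42) *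 (X 33 (x33))))))))))))))))))))) = Z (0, 0) (0, 0) (x27 * x35 + x30 * x33, 0) (0, 0) (x27 * x32 * x33 + x27 * x39 + x29 * x30 * x33 + x29 * x37 + x30 * x36 + x31 * x35 + x32 * x34, x30 * x32 * x33 ^ 2 + x30 * x43 + x31 * x35 ^ 2 + x32 * x41) (x29 * x35 + x32 * x33, x27 ^ 2 * x32 * x33 ^ 2 + x27 ^ 2 * x43 + x30 * x31 * x33 ^ 2 + x30 * x42 + x31 * x41 + x32 * x34 ^ 2) (0, x30 * x33 ^ 2) (x27 * x32 * x33 ^ 2 + x27 * x33 * x39 + x27 * x35 * x36 + x27 * x43 + x29 * x30 * x33 ^ 2 + x29 * x41 + x30 * x33 * x36 + x32 * x33 * x34 + x33 * x40 + x34 * x39 + x35 * x38 + x36 * x37, x29 ^ 2 * x30 * x33 ^ 2 + x29 ^ 2 * x41 + x30 * x36 ^ 2 + x31 * x32 * x33 ^ 2 + x31 * x43 + x32 * x42) (x27 * x29 * x33 + x27 * x36 + x29 * x34 + x31 * x33, x32 * x33 ^ 2) (x27 * x33, 0) (x29 * x33, x31 * x33 ^ 2) (0, 0) := by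
    unfold Z
    normX
  have e' := Z_inj (e.symm.trans (h.trans one_Z))
  obtain ⟨-, -, -, -, -, -, e6, -, -, -, -, -⟩ := e'
  have z33 : x33 = 0 := zero_of (congrArg Prod.snd e6) fun hx33 =>
    (mul_ne_zero hx30 (pow_ne_zero 2 hx33))
  subst z33
  simp only [X_zero, one_mul, mul_one] at h ⊢
  exact n242 hx30 h

lemma n244 {x27 x30 x37 x32 x35 x31 x40 x46 x39 x45 x29 x41 x44 x47 x38 x43 x34 x36 x42 x33 : K}
    (h : (X 27 (x27) * (X 30 (x30) * (X 37 (x37) * (X 32 (x32) * (X 35 (x35) * (X 31 (x31) * (X 40 (x40) * (X 46 (x46) * (X 39 (x39) * (X 45 (x45) * (X 29 (x29) * (X 41 (x41) * (X 44 (x44) * (X 47 (x47) * (X 38 (x38) * (X 43 (x43) * (X 34 (x34) * (X 36 (x36) * (X 42 (x42) * (X 33 (x33))))))))))))))))))))) * (X 27 (x27) * (X 30 (x30) * (X 37 (x37) * (X 32 (x32) * (X 35 (x35) * (X 31 (x31) * (X 40 (x40) * (X 46 (x46) * (X 39 (x39) * (X 45 (x45) * (X 29 (x29) * (X 41 (x41) *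 (X 44 (x44) * (X 47 (x47) * (X 38 (x38) * (X 43 (x43) * (X 34 (x34) * (X 36 (x36) * (X 42 (x42) * (X 33 (x33))))))))))))))))))))) = 1) :
    Rch (X 27 (x27) * (X 30 (x30) * (X 37 (x37) * (X 32 (x32) * (X 35 (x35) * (X 31 (x31) * (X 40 (x40) * (X 46 (x46) * (X 39 (x39) * (X 45 (x45) * (X 29 (x29) * (X 41 (x41) * (X 44 (x44) * (X 47 (x47) * (X 38 (x38) * (X 43 (x43) * (X 34 (x34) * (X 36 (x36) * (X 42 (x42) * (X 33 (x33))))))))))))))))))))) := by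
  rcases eq_or_ne x30 0 with rfl | hx30
  · simp only [X_zero, one_mul, mul_one] at h ⊢
    exact n213 h
  · exact n243 hx30 h

lemma n245 {x37 x32 x35 x40 x46 x39 x45 x41 x44 x47 x38 x43 x26 x36 x42 x33 : K} (hx26 : x26 ≠ 0)
    (h : (X 37 (x37) * (X 32 (x32) * (X 35 (x35) * (X 40 (x40) * (X 46 (x46) * (X 39 (x39) * (X 45 (x45) * (X 41 (x41) * (X 44 (x44) * (X 47 (x47) * (X 38 (x38) * (X 43 (x43) * (X 26 (x26) * (X 36 (x36) * (X 42 (x42) * (X 33 (x33))))))))))))))))) * (X 37 (x37) * (X 32 (x32) * (X 35 (x35) * (X 40 (x40) * (X 46 (x46) * (X 39 (x39) * (X 45 (x45) * (X 41 (x41) * (X 44 (x44) * (X 47 (x47) * (X 38 (x38) * (X 43 (x43) * (X 26 (x26) * (X 36 (x36) * (X 42 (x42) * (X 33 (x33))))))))))))))))) = 1) :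
    Rch (X 37 (x37) * (X 32 (x32) * (X 35 (x35) * (X 40 (x40) * (X 46 (x46) * (X 39 (x39) * (X 45 (x45) * (X 41 (x41) * (X 44 (x44) * (X 47 (x47) * (X 38 (x38) * (X 43 (x43) * (X 26 (x26) * (X 36 (x36) * (X 42 (x42) * (X 33 (x33))))))))))))))))) := by
  have e : nS K g₄ 1 * (X 37 (x37) * (X 32 (x32) * (X 35 (x35) * (X 40 (x40) * (X 46 (x46) * (X 39 (x39) * (X 45 (x45) * (X 41 (x41) * (X 44 (x44) * (X 47 (x47) * (X 38 (x38) * (X 43 (x43) * (X 26 (x26) * (X 36 (x36) * (X 42 (x42) * (X 33 (x33))))))))))))))))) * (nS K g₄ 1)⁻¹ = (X 37 (x35) * (X 32 (x32) * (X 35 (x37) * (X 31 (x26) * (X 40 (x39) * (X 46 (x46) * (X 39 (x40) * (X 45 (x26 * x41 + x43) * (X 41 (x41) * (X 44 (x44) * (X 47 (x26 * x45 + x47) * (X 38 (x36) * (X 43 (x45) * (X 34 (x33) * (X 36 (x38) * (X 42 (x42))))))))))))))))) := by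
    rw [← MulAut.conj_apply]
    simp only [map_mul, conj_s (i := 1) (r := 37) (r' := 35) (by decide +kernel), conj_s (i := 1) (r := 32) (r' := 32) (by decide +kernel), conj_s (i := 1) (r := 35) (r' := 37) (by decide +kernel), conj_s (i := 1) (r := 40) (r' := 39) (by decide +kernel), conj_s (i := 1) (r := 46) (r' := 46) (by decide +kernel), conj_s (i := 1) (r := 39) (r' := 40) (by decide +kernel), conj_s (i := 1) (r := 45) (r' := 43) (by decide +kernel), conj_s (i := 1) (r := 41) (r' := 41) (by decide +kernel), conj_s (i := 1) (r := 44) (r' := 44) (by decide +kernel), conj_s (i := 1) (r := 47) (r' := 47) (by decide +kernel), conj_s (i := 1) (r := 38) (r' := 36) (by decide +kernel), conj_s (i := 1) (r := 43) (r' := 45) (by decide +kernel), conj_s (i := 1) (r := 26) (r' := 31) (by decide +kernel), conj_s (i := 1) (r := 36) (r' := 38) (by decide +kernel), conj_s (i := 1) (r := 42)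 (r' := 42) (by decide +kernel), conj_s (i := 1) (r := 33) (r' := 34) (by decide +kernel)]
    all_goals normX
  exact Rch.step (nS_mem_group (by decide)) e h fun h' => n167 hx26 h'

lemma n246 {x32 x45 x38 x43 : K} (hx32 : x32 ≠ 0) (hx43 : x43 ≠ 0)
    (h : (X 32 (x32) * (X 45 (x45) * (X 38 (x38) * (X 43 (x43))))) * (X 32 (x32) * (X 45 (x45) * (X 38 (x38) * (X 43 (x43))))) = 1) :
    Rch (X 32 (x32) * (X 45 (x45) * (X 38 (x38) * (X 43 (x43))))) := by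
  rcases eq_or_ne x38 0 with rfl | hx38
  · simp only [X_zero, one_mul, mul_one] at h ⊢
    exact n115 hx32 hx43 h
  · exact n120 hx32 hx38 hx43 h

lemma n247_2 {x31 x46 x39 x42 : K} (hx31 : x31 ≠ 0) (hx42 : x42 ≠ 0)
    (h : (X 31 (x31) * (X 46 (x46) * (X 39 (x39) * (X 42 (x42))))) * (X 31 (x31) * (X 46 (x46) * (X 39 (x39) * (X 42 (x42))))) = 1) :
    Rch (X 31 (x31) * (X 46 (x46) * (X 39 (x39) * (X 42 (x42))))) := by
  have e : nS K g₄ 2 * (X 31 (x31) * (X 46 (x46) * (X 39 (x39) * (X 42 (x42))))) * (nS K g₄ 2)⁻¹ = (X 32 (x31) * (X 45 (x46) * (X 38 (x39) * (X 43 (x42))))) := by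
    rw [← MulAut.conj_apply]
    simp only [map_mul, conj_s (i := 2) (r := 31) (r' := 32) (by decide +kernel), conj_s (i := 2) (r := 46) (r' := 45) (by decide +kernel), conj_s (i := 2) (r := 39) (r' := 38) (by decide +kernel), conj_s (i := 2) (r := 42) (r' := 43) (by decide +kernel)]
    all_goals normX
  exact Rch.step (nS_mem_group (by decide)) e h fun h' => n246 hx31 hx42 h'

lemma n247_1 {x40 x46 x26 x42 : K} (hx26 : x26 ≠ 0) (hx42 : x42 ≠ 0)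
    (h : (X 40 (x40) * (X 46 (x46) * (X 26 (x26) * (X 42 (x42))))) * (X 40 (x40) * (X 46 (x46) * (X 26 (x26) * (X 42 (x42))))) = 1) :
    Rch (X 40 (x40) * (X 46 (x46) * (X 26 (x26) * (X 42 (x42))))) := by
  have e : nS K g₄ 1 * (X 40 (x40) * (X 46 (x46) * (X 26 (x26) * (X 42 (x42))))) * (nS K g₄ 1)⁻¹ = (X 31 (x26) * (X 46 (x46) * (X 39 (x40) * (X 42 (x42))))) := by
    rw [← MulAut.conj_apply]
    simp only [map_mul, conj_s (i := 1) (r := 40) (r' := 39) (by decide +kernel), conj_s (i := 1) (r := 46) (r' := 46) (by decide +kernel), conj_s (i := 1) (r := 26) (r' := 31) (by decide +kernel), conj_s (i := 1) (r := 42) (r' := 42) (by decide +kernel)]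
    all_goals normX
  exact Rch.step (nS_mem_group (by decide)) e h fun h' => n247_2 hx26 hx42 h'

lemma n247 {x31 x46 x44 x26 : K} (hx31 : x31 ≠ 0) (hx26 : x26 ≠ 0)
    (h : (X 31 (x31) * (X 46 (x46) * (X 44 (x44) * (X 26 (x26))))) * (X 31 (x31) * (X 46 (x46) * (X 44 (x44) * (X 26 (x26))))) = 1) :
    Rch (X 31 (x31) * (X 46 (x46) * (X 44 (x44) * (X 26 (x26))))) := by
  have e : nS K g₄ 0 * (X 31 (x31) * (X 46 (x46) * (X 44 (x44) * (X 26 (x26))))) * (nS K g₄ 0)⁻¹ = (X 40 (x44) * (X 46 (x46) * (X 26 (x26) * (X 42 (x31))))) := by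
    rw [← MulAut.conj_apply]
    simp only [map_mul, conj_s (i := 0) (r := 31) (r' := 42) (by decide +kernel), conj_s (i := 0) (r := 46) (r' := 46) (by decide +kernel), conj_s (i := 0) (r := 44) (r' := 40) (by decide +kernel), conj_s (i := 0) (r := 26) (r' := 26) (by decide +kernel)]
    all_goals normX
  exact Rch.step (nS_mem_group (by decide)) e h fun h' => n247_1 hx26 hx31 h'

lemma n248_5 {x31 x46 x42 : K} (hx31 : x31 ≠ 0) (hx46 : x46 ≠ 0) (hx42 : x42 ≠ 0)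
    (h : (X 31 (x31) * (X 46 (x46) * (X 42 (x42)))) * (X 31 (x31) * (X 46 (x46) * (X 42 (x42)))) = 1) :
    Rch (X 31 (x31) * (X 46 (x46) * (X 42 (x42)))) := by
  have e : nS K g₄ 2 * (X 31 (x31) * (X 46 (x46) * (X 42 (x42)))) * (nS K g₄ 2)⁻¹ = (X 32 (x31) * (X 45 (x46) * (X 43 (x42)))) := by
    rw [← MulAut.conj_apply]
    simp only [map_mul, conj_s (i := 2) (r := 31) (r' := 32) (by decide +kernel), conj_s (i := 2) (r := 46) (r' := 45) (by decide +kernel), conj_s (i := 2) (r := 42) (r' := 43) (by decide +kernel)]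
    all_goals normX
  exact Rch.step (nS_mem_group (by decide)) e h fun h' => n114 hx31 hx46 hx42 h'

lemma n248_4 {x46 x26 x42 : K} (hx46 : x46 ≠ 0) (hx26 : x26 ≠ 0) (hx42 : x42 ≠ 0)
    (h : (X 46 (x46) * (X 26 (x26) * (X 42 (x42)))) * (X 46 (x46) * (X 26 (x26) * (X 42 (x42)))) = 1) :
    Rch (X 46 (x46) * (X 26 (x26) * (X 42 (x42)))) := by
  have e : nS K g₄ 1 * (X 46 (x46) * (X 26 (x26) * (X 42 (x42)))) * (nS K g₄ 1)⁻¹ = (X 31 (x26) * (X 46 (x46) * (X 42 (x42)))) := by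
    rw [← MulAut.conj_apply]
    simp only [map_mul, conj_s (i := 1) (r := 46) (r' := 46) (by decide +kernel), conj_s (i := 1) (r := 26) (r' := 31) (by decide +kernel), conj_s (i := 1) (r := 42) (r' := 42) (by decide +kernel)]
    all_goals normX
  exact Rch.step (nS_mem_group (by decide)) e h fun h' => n248_5 hx26 hx46 hx42 h'

lemma n248_3 {x45 x43 x24 : K} (hx45 : x45 ≠ 0) (hx43 : x43 ≠ 0) (hx24 : x24 ≠ 0)
    (h : (X 45 (x45) * (X 43 (x43) * (X 24 (x24)))) * (X 45 (x45) * (X 43 (x43) * (X 24 (x24)))) = 1) :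
    Rch (X 45 (x45) * (X 43 (x43) * (X 24 (x24)))) := by
  have e : nS K g₄ 2 * (X 45 (x45) * (X 43 (x43) * (X 24 (x24)))) * (nS K g₄ 2)⁻¹ = (X 46 (x45) * (X 26 (x24) * (X 42 (x43)))) := by
    rw [← MulAut.conj_apply]
    simp only [map_mul, conj_s (i := 2) (r := 45) (r' := 46) (by decide +kernel), conj_s (i := 2) (r := 43) (r' := 42) (by decide +kernel), conj_s (i := 2) (r := 24) (r' := 26) (by decide +kernel)]
    all_goals normX
  exact Rch.step (nS_mem_group (by decide)) e h fun h' => n248_4 hx45 hx24 hx43 h'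

lemma n248_2 {x32 x45 x24 : K} (hx32 : x32 ≠ 0) (hx45 : x45 ≠ 0) (hx24 : x24 ≠ 0)
    (h : (X 32 (x32) * (X 45 (x45) * (X 24 (x24)))) * (X 32 (x32) * (X 45 (x45) * (X 24 (x24)))) = 1) :
    Rch (X 32 (x32) * (X 45 (x45) * (X 24 (x24)))) := by
  have e : nS K g₄ 0 * (X 32 (x32) * (X 45 (x45) * (X 24 (x24)))) * (nS K g₄ 0)⁻¹ = (X 45 (x45) * (X 43 (x32) * (X 24 (x24)))) := by
    rw [← MulAut.conj_apply]
    simp only [map_mul, conj_s (i := 0) (r := 32) (r' := 43) (by decide +kernel), conj_s (i := 0) (r := 45) (r' := 45) (by decide +kernel), conj_s (i := 0) (r := 24) (r' := 24) (by decide +kernel)]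
    all_goals normX
  exact Rch.step (nS_mem_group (by decide)) e h fun h' => n248_3 hx45 hx32 hx24 h'

lemma n248_1 {x32 x43 x24 : K} (hx32 : x32 ≠ 0) (hx43 : x43 ≠ 0) (hx24 : x24 ≠ 0)
    (h : (X 32 (x32) * (X 43 (x43) * (X 24 (x24)))) * (X 32 (x32) * (X 43 (x43) * (X 24 (x24)))) = 1) :
    Rch (X 32 (x32) * (X 43 (x43) * (X 24 (x24)))) := by
  have e : nS K g₄ 1 * (X 32 (x32) * (X 43 (x43) * (X 24 (x24)))) * (nS K g₄ 1)⁻¹ = (X 32 (x32) * (X 45 (x43) * (X 24 (x24)))) := by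
    rw [← MulAut.conj_apply]
    simp only [map_mul, conj_s (i := 1) (r := 32) (r' := 32) (by decide +kernel), conj_s (i := 1) (r := 43) (r' := 45) (by decide +kernel), conj_s (i := 1) (r := 24) (r' := 24) (by decide +kernel)]
    all_goals normX
  exact Rch.step (nS_mem_group (by decide)) e h fun h' => n248_2 hx32 hx43 hx24 h'

lemma n248 {x31 x26 x42 : K} (hx31 : x31 ≠ 0) (hx26 : x26 ≠ 0) (hx42 : x42 ≠ 0)
    (h : (X 31 (x31) * (X 26 (x26) * (X 42 (x42)))) * (X 31 (x31) * (X 26 (x26) * (X 42 (x42)))) = 1) :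
    Rch (X 31 (x31) * (X 26 (x26) * (X 42 (x42)))) := by
  have e : nS K g₄ 2 * (X 31 (x31) * (X 26 (x26) * (X 42 (x42)))) * (nS K g₄ 2)⁻¹ = (X 32 (x31) * (X 43 (x42) * (X 24 (x26)))) := by
    rw [← MulAut.conj_apply]
    simp only [map_mul, conj_s (i := 2) (r := 31) (r' := 32) (by decide +kernel), conj_s (i := 2) (r := 26) (r' := 24) (by decide +kernel), conj_s (i := 2) (r := 42) (r' := 43) (by decide +kernel)]
    all_goals normX
  exact Rch.step (nS_mem_group (by decide)) e h fun h' => n248_1 hx31 hx42 hx26 h'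

lemma n249_13 {x46 x38 : K} (hx46 : x46 ≠ 0) (hx38 : x38 ≠ 0)
    (h : (X 46 (x46) * (X 38 (x38))) * (X 46 (x46) * (X 38 (x38))) = 1) :
    Rch (X 46 (x46) * (X 38 (x38))) := by
  have e : nS K g₄ 2 * (X 46 (x46) * (X 38 (x38))) * (nS K g₄ 2)⁻¹ = (X 39 (x38) * (X 45 (x46))) := by
    rw [← MulAut.conj_apply]
    simp only [map_mul, conj_s (i := 2) (r := 46) (r' := 45) (by decide +kernel), conj_s (i := 2) (r := 38) (r' := 39) (by decide +kernel)]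
    all_goals normX
  exact Rch.step (nS_mem_group (by decide)) e h fun h' => n27 hx38 hx46 h'

lemma n249_12 {x46 x36 : K} (hx46 : x46 ≠ 0) (hx36 : x36 ≠ 0)
    (h : (X 46 (x46) * (X 36 (x36))) * (X 46 (x46) * (X 36 (x36))) = 1) :
    Rch (X 46 (x46) * (X 36 (x36))) := by
  have e : nS K g₄ 1 * (X 46 (x46) * (X 36 (x36))) * (nS K g₄ 1)⁻¹ = (X 46 (x46) * (X 38 (x36))) := by
    rw [← MulAut.conj_apply]
    simp only [map_mul, conj_s (i := 1) (r := 46) (r' := 46) (by decide +kernel), conj_s (i := 1) (r := 36) (r' := 38) (by decide +kernel)]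
    all_goals normX
  exact Rch.step (nS_mem_group (by decide)) e h fun h' => n249_13 hx46 hx36 h'

lemma n249_11 {x46 x38 x36 : K} (hx46 : x46 ≠ 0) (hx38 : x38 ≠ 0) (hx36 : x36 ≠ 0)
    (h : (X 46 (x46) * (X 38 (x38) * (X 36 (x36)))) * (X 46 (x46) * (X 38 (x38) * (X 36 (x36)))) = 1) :
    Rch (X 46 (x46) * (X 38 (x38) * (X 36 (x36)))) := by
  obtain ⟨d, hd⟩ : ∃ d : K, (x36) * d = x38 :=
    exists_lin hx36 _
  have hd : d ≠ 0 ∧ (x36) * d = x38 := ⟨fun e => hx38 (by rw [← hd, e]; simp), hd⟩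
  obtain ⟨hd0, hd⟩ := hd
  have hw : (d * x36 + x38) = 0 := by linear_combination hd + (x38) * CharTwo.two_eq_zero (R := K)
  have e : X 27 d * (X 46 (x46) * (X 38 (x38) * (X 36 (x36)))) * (X 27 d)⁻¹ = (X 46 (x46) * (X 38 (d * x36 + x38) * (X 36 (x36)))) := by
    rw [inv_eq]
    normX
  rw [hw, X_zero] at e
  simp only [one_mul, mul_one] at e
  exact Rch.step (xG_mem_group g₄ 27 d) e h fun h' => n249_12 hx46 hx36 h'

lemma n249_10 {x46 x47 x38 x36 : K} (hx46 : x46 ≠ 0) (hx47 : x47 ≠ 0) (hx38 : x38 ≠ 0) (hx36 : x36 ≠ 0)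
    (h : (X 46 (x46) * (X 47 (x47) * (X 38 (x38) * (X 36 (x36))))) * (X 46 (x46) * (X 47 (x47) * (X 38 (x38) * (X 36 (x36))))) = 1) :
    Rch (X 46 (x46) * (X 47 (x47) * (X 38 (x38) * (X 36 (x36))))) := by
  obtain ⟨d, hd⟩ : ∃ d : K, (x46) * d = x47 :=
    exists_lin hx46 _
  have hd : d ≠ 0 ∧ (x46) * d = x47 := ⟨fun e => hx47 (by rw [← hd, e]; simp), hd⟩
  obtain ⟨hd0, hd⟩ := hd
  have hw : (d * x46 + x47) = 0 := by linear_combination hd + (x47) * CharTwo.two_eq_zero (R := K)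
  have e : X 24 d * (X 46 (x46) * (X 47 (x47) * (X 38 (x38) * (X 36 (x36))))) * (X 24 d)⁻¹ = (X 46 (x46) * (X 47 (d * x46 + x47) * (X 38 (x38) * (X 36 (x36))))) := by
    rw [inv_eq]
    normX
  rw [hw, X_zero] at e
  simp only [one_mul, mul_one] at e
  exact Rch.step (xG_mem_group g₄ 24 d) e h fun h' => n249_11 hx46 hx38 hx36 h'

lemma n249_9 {x46 x39 x38 x36 : K} (hx46 : x46 ≠ 0) (hx39 : x39 ≠ 0) (hx38 : x38 ≠ 0) (hx36 : x36 ≠ 0)
    (h : (X 46 (x46) * (X 39 (x39) * (X 38 (x38) * (X 36 (x36))))) * (X 46 (x46) * (X 39 (x39) * (X 38 (x38) * (X 36 (x36))))) = 1) :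
    Rch (X 46 (x46) * (X 39 (x39) * (X 38 (x38) * (X 36 (x36))))) := by
  obtain ⟨d, hd⟩ : ∃ d : K, (x38) * d = x39 :=
    exists_lin hx38 _
  have hd : d ≠ 0 ∧ (x38) * d = x39 := ⟨fun e => hx39 (by rw [← hd, e]; simp), hd⟩
  obtain ⟨hd0, hd⟩ := hd
  have hw : (d * x38 + x39) = 0 := by linear_combination hd + (x39) * CharTwo.two_eq_zero (R := K)
  have e : X 25 d * (X 46 (x46) * (X 39 (x39) * (X 38 (x38) * (X 36 (x36))))) * (X 25 d)⁻¹ = (X 46 (x46) * (X 39 (d * x38 + x39) * (X 47 (d * x38 ^ 2) * (X 38 (x38) * (X 36 (x36)))))) := by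
    rw [inv_eq]
    normX
  rw [hw, X_zero] at e
  simp only [one_mul, mul_one] at e
  exact Rch.step (xG_mem_group g₄ 25 d) e h fun h' => n249_10 hx46 (mul_ne_zero hd0 (pow_ne_zero 2 hx38)) hx38 hx36 h'

lemma n249_8 {x39 x45 x38 x36 : K} (hx39 : x39 ≠ 0) (hx45 : x45 ≠ 0) (hx38 : x38 ≠ 0) (hx36 : x36 ≠ 0)
    (h : (X 39 (x39) * (X 45 (x45) * (X 38 (x38) * (X 36 (x36))))) * (X 39 (x39) * (X 45 (x45) * (X 38 (x38) * (X 36 (x36))))) = 1) :
    Rch (X 39 (x39) * (X 45 (x45) * (X 38 (x38) * (X 36 (x36))))) := by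
  have e : nS K g₄ 2 * (X 39 (x39) * (X 45 (x45) * (X 38 (x38) * (X 36 (x36))))) * (nS K g₄ 2)⁻¹ = (X 46 (x45) * (X 39 (x38) * (X 38 (x39) * (X 36 (x36))))) := by
    rw [← MulAut.conj_apply]
    simp only [map_mul, conj_s (i := 2) (r := 39) (r' := 38) (by decide +kernel), conj_s (i := 2) (r := 45) (r' := 46) (by decide +kernel), conj_s (i := 2) (r := 38) (r' := 39) (by decide +kernel), conj_s (i := 2) (r := 36) (r' := 36) (by decide +kernel)]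
    all_goals normX
  exact Rch.step (nS_mem_group (by decide)) e h fun h' => n249_9 hx45 hx38 hx39 hx36 h'

lemma n249_7 {x39 x45 x29 x38 : K} (hx39 : x39 ≠ 0) (hx45 : x45 ≠ 0) (hx29 : x29 ≠ 0) (hx38 : x38 ≠ 0)
    (h : (X 39 (x39) * (X 45 (x45) * (X 29 (x29) * (X 38 (x38))))) * (X 39 (x39) * (X 45 (x45) * (X 29 (x29) * (X 38 (x38))))) = 1) :
    Rch (X 39 (x39) * (X 45 (x45) * (X 29 (x29) * (X 38 (x38))))) := by
  have e : nS K g₄ 0 * (X 39 (x39) * (X 45 (x45) * (X 29 (x29) * (X 38 (x38))))) * (nS K g₄ 0)⁻¹ = (X 39 (x39) * (X 45 (x45) * (X 38 (x38) * (X 36 (x29))))) := by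
    rw [← MulAut.conj_apply]
    simp only [map_mul, conj_s (i := 0) (r := 39) (r' := 39) (by decide +kernel), conj_s (i := 0) (r := 45) (r' := 45) (by decide +kernel), conj_s (i := 0) (r := 29) (r' := 36) (by decide +kernel), conj_s (i := 0) (r := 38) (r' := 38) (by decide +kernel)]
    all_goals normX
  exact Rch.step (nS_mem_group (by decide)) e h fun h' => n249_8 hx39 hx45 hx38 hx29 h'

lemma n249_6 {x40 x29 x43 x36 : K} (hx40 : x40 ≠ 0) (hx29 : x29 ≠ 0) (hx43 : x43 ≠ 0) (hx36 : x36 ≠ 0)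
    (h : (X 40 (x40) * (X 29 (x29) * (X 43 (x43) * (X 36 (x36))))) * (X 40 (x40) * (X 29 (x29) * (X 43 (x43) * (X 36 (x36))))) = 1) :
    Rch (X 40 (x40) * (X 29 (x29) * (X 43 (x43) * (X 36 (x36))))) := by
  have e : nS K g₄ 1 * (X 40 (x40) * (X 29 (x29) * (X 43 (x43) * (X 36 (x36))))) * (nS K g₄ 1)⁻¹ = (X 39 (x40) * (X 45 (x43) * (X 29 (x29) * (X 38 (x36))))) := by
    rw [← MulAut.conj_apply]
    simp only [map_mul, conj_s (i := 1) (r := 40) (r' := 39) (by decide +kernel), conj_s (i := 1) (r := 29) (r' := 29) (by decide +kernel), conj_s (i := 1) (r := 43) (r' := 45) (by decide +kernel), conj_s (i := 1) (r := 36) (r' := 38) (by decide +kernel)]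
    all_goals normX
  exact Rch.step (nS_mem_group (by decide)) e h fun h' => n249_7 hx40 hx43 hx29 hx36 h'

lemma n249_5 {x40 x29 x36 x42 : K} (hx40 : x40 ≠ 0) (hx29 : x29 ≠ 0) (hx36 : x36 ≠ 0) (hx42 : x42 ≠ 0)
    (h : (X 40 (x40) * (X 29 (x29) * (X 36 (x36) * (X 42 (x42))))) * (X 40 (x40) * (X 29 (x29) * (X 36 (x36) * (X 42 (x42))))) = 1) :
    Rch (X 40 (x40) * (X 29 (x29) * (X 36 (x36) * (X 42 (x42))))) := by
  have e : nS K g₄ 2 * (X 40 (x40) * (X 29 (x29) * (X 36 (x36) * (X 42 (x42))))) * (nS K g₄ 2)⁻¹ = (X 40 (x40) * (X 29 (x29) * (X 43 (x42) * (X 36 (x36))))) := by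
    rw [← MulAut.conj_apply]
    simp only [map_mul, conj_s (i := 2) (r := 40) (r' := 40) (by decide +kernel), conj_s (i := 2) (r := 29) (r' := 29) (by decide +kernel), conj_s (i := 2) (r := 36) (r' := 36) (by decide +kernel), conj_s (i := 2) (r := 42) (r' := 43) (by decide +kernel)]
    all_goals normX
  exact Rch.step (nS_mem_group (by decide)) e h fun h' => n249_6 hx40 hx29 hx42 hx36 h'

lemma n249_4 {x31 x29 x44 x36 : K} (hx31 : x31 ≠ 0) (hx29 : x29 ≠ 0) (hx44 : x44 ≠ 0) (hx36 : x36 ≠ 0)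
    (h : (X 31 (x31) * (X 29 (x29) * (X 44 (x44) * (X 36 (x36))))) * (X 31 (x31) * (X 29 (x29) * (X 44 (x44) * (X 36 (x36))))) = 1) :
    Rch (X 31 (x31) * (X 29 (x29) * (X 44 (x44) * (X 36 (x36))))) := by
  have e : nS K g₄ 0 * (X 31 (x31) * (X 29 (x29) * (X 44 (x44) * (X 36 (x36))))) * (nS K g₄ 0)⁻¹ = (X 40 (x44) * (X 29 (x36) * (X 36 (x29) * (X 42 (x31))))) := by
    rw [← MulAut.conj_apply]
    simp only [map_mul, conj_s (i := 0) (r := 31) (r' := 42) (by decide +kernel), conj_s (i := 0) (r := 29) (r' := 36) (by decide +kernel), conj_s (i := 0) (r := 44) (r' := 40) (by decide +kernel), conj_s (i := 0) (r := 36) (r' := 29) (by decide +kernel)]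
    all_goals normX
  exact Rch.step (nS_mem_group (by decide)) e h fun h' => n249_5 hx44 hx36 hx29 hx31 h'

lemma n249_3 {x29 x44 x38 x26 : K} (hx29 : x29 ≠ 0) (hx44 : x44 ≠ 0) (hx38 : x38 ≠ 0) (hx26 : x26 ≠ 0)
    (h : (X 29 (x29) * (X 44 (x44) * (X 38 (x38) * (X 26 (x26))))) * (X 29 (x29) * (X 44 (x44) * (X 38 (x38) * (X 26 (x26))))) = 1) :
    Rch (X 29 (x29) * (X 44 (x44) * (X 38 (x38) * (X 26 (x26))))) := by
  have e : nS K g₄ 1 * (X 29 (x29) * (X 44 (x44) * (X 38 (x38) * (X 26 (x26))))) * (nS K g₄ 1)⁻¹ = (X 31 (x26) * (X 29 (x29) * (X 44 (x44) * (X 36 (x38))))) := by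
    rw [← MulAut.conj_apply]
    simp only [map_mul, conj_s (i := 1) (r := 29) (r' := 29) (by decide +kernel), conj_s (i := 1) (r := 44) (r' := 44) (by decide +kernel), conj_s (i := 1) (r := 38) (r' := 36) (by decide +kernel), conj_s (i := 1) (r := 26) (r' := 31) (by decide +kernel)]
    all_goals normX
  exact Rch.step (nS_mem_group (by decide)) e h fun h' => n249_4 hx26 hx29 hx44 hx38 h'

lemma n249_2 {x31 x44 x38 x26 : K} (hx31 : x31 ≠ 0) (hx44 : x44 ≠ 0) (hx38 : x38 ≠ 0) (hx26 : x26 ≠ 0)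
    (h : (X 31 (x31) * (X 44 (x44) * (X 38 (x38) * (X 26 (x26))))) * (X 31 (x31) * (X 44 (x44) * (X 38 (x38) * (X 26 (x26))))) = 1) :
    Rch (X 31 (x31) * (X 44 (x44) * (X 38 (x38) * (X 26 (x26))))) := by
  obtain ⟨d, hd⟩ : ∃ d : K, (x26) * d ^ 2 = x31 :=
    exists_sq hx26 _
  have hd : d ≠ 0 ∧ (x26) * d ^ 2 = x31 := ⟨fun e => hx31 (by rw [← hd, e]; simp), hd⟩
  obtain ⟨hd0, hd⟩ := hd
  have hw : (d ^ 2 * x26 + x31) = 0 := by linear_combination hd + (x31) * CharTwo.two_eq_zero (R := K)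
  have e : X 27 d * (X 31 (x31) * (X 44 (x44) * (X 38 (x38) * (X 26 (x26))))) * (X 27 d)⁻¹ = (X 31 (d ^ 2 * x26 + x31) * (X 29 (d * x26) * (X 44 (x44) * (X 38 (x38) * (X 26 (x26)))))) := by
    rw [inv_eq]
    normX
  rw [hw, X_zero] at e
  simp only [one_mul, mul_one] at e
  exact Rch.step (xG_mem_group g₄ 27 d) e h fun h' => n249_3 (mul_ne_zero hd0 hx26) hx44 hx38 hx26 h'

lemma n249_1 {x31 x44 x26 x42 : K} (hx31 : x31 ≠ 0) (hx44 : x44 ≠ 0) (hx26 : x26 ≠ 0) (hx42 : x42 ≠ 0)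
    (h : (X 31 (x31) * (X 44 (x44) * (X 26 (x26) * (X 42 (x42))))) * (X 31 (x31) * (X 44 (x44) * (X 26 (x26) * (X 42 (x42))))) = 1) :
    Rch (X 31 (x31) * (X 44 (x44) * (X 26 (x26) * (X 42 (x42))))) := by
  obtain ⟨d, hd⟩ : ∃ d : K, (x31) * d ^ 2 = x42 :=
    exists_sq hx31 _
  have hd : d ≠ 0 ∧ (x31) * d ^ 2 = x42 := ⟨fun e => hx42 (by rw [← hd, e]; simp), hd⟩
  obtain ⟨hd0, hd⟩ := hd
  have hw : (d ^ 2 * x31 + x42) = 0 := by linear_combination hd + (x42) * CharTwo.two_eq_zero (R := K)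
  have e : X 33 d * (X 31 (x31) * (X 44 (x44) * (X 26 (x26) * (X 42 (x42))))) * (X 33 d)⁻¹ = (X 31 (x31) * (X 44 (x44) * (X 38 (d * x31) * (X 26 (x26) * (X 42 (d ^ 2 * x31 + x42)))))) := by
    rw [inv_eq]
    normX
  rw [hw, X_zero] at e
  simp only [one_mul, mul_one] at e
  exact Rch.step (xG_mem_group g₄ 33 d) e h fun h' => n249_2 hx31 hx44 (mul_ne_zero hd0 hx31) hx26 h'

lemma n249 {x31 x46 x26 x42 : K} (hx31 : x31 ≠ 0) (hx46 : x46 ≠ 0) (hx26 : x26 ≠ 0) (hx42 : x42 ≠ 0)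
    (h : (X 31 (x31) * (X 46 (x46) * (X 26 (x26) * (X 42 (x42))))) * (X 31 (x31) * (X 46 (x46) * (X 26 (x26) * (X 42 (x42))))) = 1) :
    Rch (X 31 (x31) * (X 46 (x46) * (X 26 (x26) * (X 42 (x42))))) := by
  obtain ⟨d, hd⟩ : ∃ d : K, (x42) * d ^ 2 = x46 :=
    exists_sq hx42 _
  have hd : d ≠ 0 ∧ (x42) * d ^ 2 = x46 := ⟨fun e => hx46 (by rw [← hd, e]; simp), hd⟩
  obtain ⟨hd0, hd⟩ := hd
  have hw : (d ^ 2 * x42 + x46) = 0 := by linear_combination hd + (x46) * CharTwo.two_eq_zero (R := K)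
  have e : X 28 d * (X 31 (x31) * (X 46 (x46) * (X 26 (x26) * (X 42 (x42))))) * (X 28 d)⁻¹ = (X 31 (x31) * (X 46 (d ^ 2 * x42 + x46) * (X 44 (d * x42) * (X 26 (x26) * (X 42 (x42)))))) := by
    rw [inv_eq]
    normX
  rw [hw, X_zero] at e
  simp only [one_mul, mul_one] at e
  exact Rch.step (xG_mem_group g₄ 28 d) e h fun h' => n249_1 hx31 (mul_ne_zero hd0 hx42) hx26 hx42 h'

lemma n250 {x31 x46 x26 x42 : K} (hx31 : x31 ≠ 0) (hx26 : x26 ≠ 0) (hx42 : x42 ≠ 0)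
    (h : (X 31 (x31) * (X 46 (x46) * (X 26 (x26) * (X 42 (x42))))) * (X 31 (x31) * (X 46 (x46) * (X 26 (x26) * (X 42 (x42))))) = 1) :
    Rch (X 31 (x31) * (X 46 (x46) * (X 26 (x26) * (X 42 (x42))))) := by
  rcases eq_or_ne x46 0 with rfl | hx46
  · simp only [X_zero, one_mul, mul_one] at h ⊢
    exact n248 hx31 hx26 hx42 h
  · exact n249 hx31 hx46 hx26 hx42 h

lemma n251 {x31 x46 x44 x26 x42 : K} (hx31 : x31 ≠ 0) (hx26 : x26 ≠ 0) (hx42 : x42 ≠ 0)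
    (h : (X 31 (x31) * (X 46 (x46) * (X 44 (x44) * (X 26 (x26) * (X 42 (x42)))))) * (X 31 (x31) * (X 46 (x46) * (X 44 (x44) * (X 26 (x26) * (X 42 (x42)))))) = 1) :
    Rch (X 31 (x31) * (X 46 (x46) * (X 44 (x44) * (X 26 (x26) * (X 42 (x42)))))) := by
  obtain ⟨d, hd⟩ : ∃ d : K, (x42) * d = x44 :=
    exists_lin hx42 _
  have hw : (d * x42 + x44) = 0 := by linear_combination hd + (x44) * CharTwo.two_eq_zero (R := K)
  have e : X 28 d * (X 31 (x31) * (X 46 (x46) * (X 44 (x44) * (X 26 (x26) * (X 42 (x42)))))) * (X 28 d)⁻¹ = (X 31 (x31) * (X 46 (d ^ 2 * x42 + x46) * (X 44 (d * x42 + x44) * (X 26 (x26) * (X 42 (x42)))))) := by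
    rw [inv_eq]
    normX
  rw [hw, X_zero] at e
  simp only [one_mul, mul_one] at e
  exact Rch.step (xG_mem_group g₄ 28 d) e h fun h' => n250 hx31 hx26 hx42 h'

lemma n252 {x31 x46 x44 x26 x42 : K} (hx31 : x31 ≠ 0) (hx26 : x26 ≠ 0)
    (h : (X 31 (x31) * (X 46 (x46) * (X 44 (x44) * (X 26 (x26) * (X 42 (x42)))))) * (X 31 (x31) * (X 46 (x46) * (X 44 (x44) * (X 26 (x26) * (X 42 (x42)))))) = 1) :
    Rch (X 31 (x31) * (X 46 (x46) * (X 44 (x44) * (X 26 (x26) * (X 42 (x42)))))) := by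
  rcases eq_or_ne x42 0 with rfl | hx42
  · simp only [X_zero, one_mul, mul_one] at h ⊢
    exact n247 hx31 hx26 h
  · exact n251 hx31 hx26 hx42 h

lemma n253 {x31 x46 x44 x47 x26 x42 : K} (hx31 : x31 ≠ 0) (hx26 : x26 ≠ 0)
    (h : (X 31 (x31) * (X 46 (x46) * (X 44 (x44) * (X 47 (x47) * (X 26 (x26) * (X 42 (x42))))))) * (X 31 (x31) * (X 46 (x46) * (X 44 (x44) * (X 47 (x47) * (X 26 (x26) * (X 42 (x42))))))) = 1) :
    Rch (X 31 (x31) * (X 46 (x46) * (X 44 (x44) * (X 47 (x47) * (X 26 (x26) * (X 42 (x42))))))) := by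
  obtain ⟨d, hd⟩ : ∃ d : K, (x31) * d = x47 :=
    exists_lin hx31 _
  have hw : (d * x31 + x47) = 0 := by linear_combination hd + (x47) * CharTwo.two_eq_zero (R := K)
  have e : X 43 d * (X 31 (x31) * (X 46 (x46) * (X 44 (x44) * (X 47 (x47) * (X 26 (x26) * (X 42 (x42))))))) * (X 43 d)⁻¹ = (X 31 (x31) * (X 46 (x46) * (X 44 (x44) * (X 47 (d * x31 + x47) * (X 26 (x26) * (X 42 (x42))))))) := by
    rw [inv_eq]
    normX
  rw [hw, X_zero] at e
  simp only [one_mul, mul_one] at e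
  exact Rch.step (xG_mem_group g₄ 43 d) e h fun h' => n252 hx31 hx26 h'

lemma n254 {x31 x46 x45 x44 x47 x26 x42 : K} (hx31 : x31 ≠ 0) (hx26 : x26 ≠ 0)
    (h : (X 31 (x31) * (X 46 (x46) * (X 45 (x45) * (X 44 (x44) * (X 47 (x47) * (X 26 (x26) * (X 42 (x42)))))))) * (X 31 (x31) * (X 46 (x46) * (X 45 (x45) * (X 44 (x44) * (X 47 (x47) * (X 26 (x26) * (X 42 (x42)))))))) = 1) :
    Rch (X 31 (x31) * (X 46 (x46) * (X 45 (x45) * (X 44 (x44) * (X 47 (x47) * (X 26 (x26) * (X 42 (x42)))))))) := by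
  have e : (X 31 (x31) * (X 46 (x46) * (X 45 (x45) * (X 44 (x44) * (X 47 (x47) * (X 26 (x26) * (X 42 (x42)))))))) * (X 31 (x31) * (X 46 (x46) * (X 45 (x45) * (X 44 (x44) * (X 47 (x47) * (X 26 (x26) * (X 42 (x42)))))))) = Z (0, 0) (0, 0) (0, 0) (0, 0) (0, 0) (0, 0) (0, 0) (0, x26 * x45) (0, 0) (0, 0) (0, 0) (0, 0) := by
    unfold Z
    normX
  have e' := Z_inj (e.symm.trans (h.trans one_Z))
  obtain ⟨-, -, -, -, -, -, -, e7, -, -, -, -⟩ := e'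
  have z45 : x45 = 0 := zero_of (congrArg Prod.snd e7) fun hx45 =>
    (mul_ne_zero hx26 hx45)
  subst z45
  simp only [X_zero, one_mul, mul_one] at h ⊢
  exact n253 hx31 hx26 h

lemma n255 {x31 x46 x45 x44 x47 x43 x26 x42 : K} (hx31 : x31 ≠ 0) (hx26 : x26 ≠ 0)
    (h : (X 31 (x31) * (X 46 (x46) * (X 45 (x45) * (X 44 (x44) * (X 47 (x47) * (X 43 (x43) * (X 26 (x26) * (X 42 (x42))))))))) * (X 31 (x31) * (X 46 (x46) * (X 45 (x45) * (X 44 (x44) * (X 47 (x47) * (X 43 (x43) * (X 26 (x26) * (X 42 (x42))))))))) = 1) :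
    Rch (X 31 (x31) * (X 46 (x46) * (X 45 (x45) * (X 44 (x44) * (X 47 (x47) * (X 43 (x43) * (X 26 (x26) * (X 42 (x42))))))))) := by
  obtain ⟨d, hd⟩ : ∃ d : K, (x26) * d = x43 :=
    exists_lin hx26 _
  have hw : (d * x26 + x43) = 0 := by linear_combination hd + (x43) * CharTwo.two_eq_zero (R := K)
  have e : X 41 d * (X 31 (x31) * (X 46 (x46) * (X 45 (x45) * (X 44 (x44) * (X 47 (x47) * (X 43 (x43) * (X 26 (x26) * (X 42 (x42))))))))) * (X 41 d)⁻¹ = (X 31 (x31) * (X 46 (x46) * (X 45 (d * x31 + x45) * (X 44 (x44) * (X 47 (x47) * (X 43 (d * x26 + x43) * (X 26 (x26) * (X 42 (x42))))))))) := by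
    rw [inv_eq]
    normX
  rw [hw, X_zero] at e
  simp only [one_mul, mul_one] at e
  exact Rch.step (xG_mem_group g₄ 41 d) e h fun h' => n254 hx31 hx26 h'

lemma n256 {x31 x40 x46 x45 x44 x47 x43 x26 x42 : K} (hx31 : x31 ≠ 0) (hx26 : x26 ≠ 0)
    (h : (X 31 (x31) * (X 40 (x40) * (X 46 (x46) * (X 45 (x45) * (X 44 (x44) * (X 47 (x47) * (X 43 (x43) * (X 26 (x26) * (X 42 (x42)))))))))) * (X 31 (x31) * (X 40 (x40) * (X 46 (x46) * (X 45 (x45) * (X 44 (x44) * (X 47 (x47) * (X 43 (x43) * (X 26 (x26) * (X 42 (x42)))))))))) = 1) :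
    Rch (X 31 (x31) * (X 40 (x40) * (X 46 (x46) * (X 45 (x45) * (X 44 (x44) * (X 47 (x47) * (X 43 (x43) * (X 26 (x26) * (X 42 (x42)))))))))) := by
  obtain ⟨d, hd⟩ : ∃ d : K, (x31) * d = x40 :=
    exists_lin hx31 _
  have hw : (d * x31 + x40) = 0 := by linear_combination hd + (x40) * CharTwo.two_eq_zero (R := K)
  have e : X 35 d * (X 31 (x31) * (X 40 (x40) * (X 46 (x46) * (X 45 (x45) * (X 44 (x44) * (X 47 (x47) * (X 43 (x43) * (X 26 (x26) * (X 42 (x42)))))))))) * (X 35 d)⁻¹ = (X 31 (x31) * (X 40 (d * x31 + x40) * (X 46 (d ^ 2 * x31 + x46) * (X 45 (x45) * (X 44 (x44) * (X 47 (x47) * (X 43 (x43) * (X 26 (x26) * (X 42 (x42)))))))))) := by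
    rw [inv_eq]
    normX
  rw [hw, X_zero] at e
  simp only [one_mul, mul_one] at e
  exact Rch.step (xG_mem_group g₄ 35 d) e h fun h' => n255 hx31 hx26 h'

lemma n257 {x31 x40 x46 x39 x45 x44 x47 x43 x26 x42 : K} (hx31 : x31 ≠ 0) (hx26 : x26 ≠ 0)
    (h : (X 31 (x31) * (X 40 (x40) * (X 46 (x46) * (X 39 (x39) * (X 45 (x45) * (X 44 (x44) * (X 47 (x47) * (X 43 (x43) * (X 26 (x26) * (X 42 (x42))))))))))) * (X 31 (x31) * (X 40 (x40) * (X 46 (x46) * (X 39 (x39) * (X 45 (x45) * (X 44 (x44) * (X 47 (x47) * (X 43 (x43) * (X 26 (x26) * (X 42 (x42))))))))))) = 1) :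
    Rch (X 31 (x31) * (X 40 (x40) * (X 46 (x46) * (X 39 (x39) * (X 45 (x45) * (X 44 (x44) * (X 47 (x47) * (X 43 (x43) * (X 26 (x26) * (X 42 (x42))))))))))) := by
  obtain ⟨d, hd⟩ : ∃ d : K, (x26) * d = x39 :=
    exists_lin hx26 _
  have hw : (d * x26 + x39) = 0 := by linear_combination hd + (x39) * CharTwo.two_eq_zero (R := K)
  have e : X 37 d * (X 31 (x31) * (X 40 (x40) * (X 46 (x46) * (X 39 (x39) * (X 45 (x45) * (X 44 (x44) * (X 47 (x47) * (X 43 (x43) * (X 26 (x26) * (X 42 (x42))))))))))) * (X 37 d)⁻¹ = (X 31 (x31) * (X 40 (x40) * (X 46 (d ^ 2 * x26 + x46) * (X 39 (d * x26 + x39) * (X 45 (x45) * (X 44 (x44) * (X 47 (x47) * (X 43 (x43) * (X 26 (x26) * (X 42 (x42))))))))))) := by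
    rw [inv_eq]
    normX
  rw [hw, X_zero] at e
  simp only [one_mul, mul_one] at e
  exact Rch.step (xG_mem_group g₄ 37 d) e h fun h' => n256 hx31 hx26 h'

lemma n258 {x31 x40 x46 x39 x45 x44 x47 x38 x43 x26 x42 : K} (hx31 : x31 ≠ 0) (hx26 : x26 ≠ 0)
    (h : (X 31 (x31) * (X 40 (x40) * (X 46 (x46) * (X 39 (x39) * (X 45 (x45) * (X 44 (x44) * (X 47 (x47) * (X 38 (x38) * (X 43 (x43) * (X 26 (x26) * (X 42 (x42)))))))))))) * (X 31 (x31) * (X 40 (x40) * (X 46 (x46) * (X 39 (x39) * (X 45 (x45) * (X 44 (x44) * (X 47 (x47) * (X 38 (x38) * (X 43 (x43) * (X 26 (x26) * (X 42 (x42)))))))))))) = 1) :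
    Rch (X 31 (x31) * (X 40 (x40) * (X 46 (x46) * (X 39 (x39) * (X 45 (x45) * (X 44 (x44) * (X 47 (x47) * (X 38 (x38) * (X 43 (x43) * (X 26 (x26) * (X 42 (x42)))))))))))) := by
  obtain ⟨d, hd⟩ : ∃ d : K, (x31) * d = x38 :=
    exists_lin hx31 _
  have hw : (d * x31 + x38) = 0 := by linear_combination hd + (x38) * CharTwo.two_eq_zero (R := K)
  have e : X 33 d * (X 31 (x31) * (X 40 (x40) * (X 46 (x46) * (X 39 (x39) * (X 45 (x45) * (X 44 (x44) * (X 47 (x47) * (X 38 (x38) * (X 43 (x43) * (X 26 (x26) * (X 42 (x42)))))))))))) * (X 33 d)⁻¹ = (X 31 (x31) * (X 40 (x40) * (X 46 (x46) * (X 39 (x39) * (X 45 (x45) * (X 44 (d * x40 + x44) * (X 47 (x47) * (X 38 (d * x31 + x38) * (X 43 (x43) * (X 26 (x26) * (X 42 (d ^ 2 * x31 + x42)))))))))))) := by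
    rw [inv_eq]
    normX
  rw [hw, X_zero] at e
  simp only [one_mul, mul_one] at e
  exact Rch.step (xG_mem_group g₄ 33 d) e h fun h' => n257 hx31 hx26 h'

lemma n259 {x32 x31 x40 x46 x39 x45 x44 x47 x38 x43 x26 x42 : K} (hx31 : x31 ≠ 0) (hx26 : x26 ≠ 0)
    (h : (X 32 (x32) * (X 31 (x31) * (X 40 (x40) * (X 46 (x46) * (X 39 (x39) * (X 45 (x45) * (X 44 (x44) * (X 47 (x47) * (X 38 (x38) * (X 43 (x43) * (X 26 (x26) * (X 42 (x42))))))))))))) * (X 32 (x32) * (X 31 (x31) * (X 40 (x40) * (X 46 (x46) * (X 39 (x39) * (X 45 (x45) * (X 44 (x44) * (X 47 (x47) * (X 38 (x38) * (X 43 (x43) * (X 26 (x26) * (X 42 (x42))))))))))))) = 1) :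
    Rch (X 32 (x32) * (X 31 (x31) * (X 40 (x40) * (X 46 (x46) * (X 39 (x39) * (X 45 (x45) * (X 44 (x44) * (X 47 (x47) * (X 38 (x38) * (X 43 (x43) * (X 26 (x26) * (X 42 (x42))))))))))))) := by
  obtain ⟨d, hd⟩ : ∃ d : K, (x31) * d = x32 :=
    exists_lin hx31 _
  have hw : (d * x31 + x32) = 0 := by linear_combination hd + (x32) * CharTwo.two_eq_zero (R := K)
  have e : X 25 d * (X 32 (x32) * (X 31 (x31) * (X 40 (x40) * (X 46 (x46) * (X 39 (x39) * (X 45 (x45) * (X 44 (x44) * (X 47 (x47) * (X 38 (x38) * (X 43 (x43) * (X 26 (x26) * (X 42 (x42))))))))))))) * (X 25 d)⁻¹ = (X 32 (d * x31 + x32) * (X 31 (x31) * (X 40 (x40) * (X 46 (d * x45 + x46) * (X 39 (d * x38 + x39) * (X 45 (x45) * (X 44 (x44) * (X 47 (d * x38 ^ 2 + x47) * (X 38 (x38) * (X 43 (d * x42 + x43) * (X 26 (x26) * (X 42 (x42))))))))))))) := by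
    rw [inv_eq]
    normX
  rw [hw, X_zero] at e
  simp only [one_mul, mul_one] at e
  exact Rch.step (xG_mem_group g₄ 25 d) e h fun h' => n258 hx31 hx26 h'

lemma n260 {x32 x31 x40 x46 x39 x45 x44 x47 x38 x43 x26 x36 x42 : K} (hx31 : x31 ≠ 0) (hx26 : x26 ≠ 0)
    (h : (X 32 (x32) * (X 31 (x31) * (X 40 (x40) * (X 46 (x46) * (X 39 (x39) * (X 45 (x45) * (X 44 (x44) * (X 47 (x47) * (X 38 (x38) * (X 43 (x43) * (X 26 (x26) * (X 36 (x36) * (X 42 (x42)))))))))))))) * (X 32 (x32) * (X 31 (x31) * (X 40 (x40) * (X 46 (x46) * (X 39 (x39) * (X 45 (x45) * (X 44 (x44) * (X 47 (x47) * (X 38 (x38) * (X 43 (x43) * (X 26 (x26) * (X 36 (x36) * (X 42 (x42)))))))))))))) = 1) :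
    Rch (X 32 (x32) * (X 31 (x31) * (X 40 (x40) * (X 46 (x46) * (X 39 (x39) * (X 45 (x45) * (X 44 (x44) * (X 47 (x47) * (X 38 (x38) * (X 43 (x43) * (X 26 (x26) * (X 36 (x36) * (X 42 (x42)))))))))))))) := by
  obtain ⟨d, hd⟩ : ∃ d : K, (x26) * d = x36 :=
    exists_lin hx26 _
  have hw : (d * x26 + x36) = 0 := by linear_combination hd + (x36) * CharTwo.two_eq_zero (R := K)
  have e : X 34 d * (X 32 (x32) * (X 31 (x31) * (X 40 (x40) * (X 46 (x46) * (X 39 (x39) * (X 45 (x45) * (X 44 (x44) * (X 47 (x47) * (X 38 (x38) * (X 43 (x43) * (X 26 (x26) * (X 36 (x36) * (X 42 (x42)))))))))))))) * (X 34 d)⁻¹ = (X 32 (x32) * (X 31 (x31) * (X 40 (d * x32 + x40) * (X 46 (x46) * (X 39 (x39) * (X 45 (d ^ 2 * x32 + x45) * (X 44 (d * x39 + x44) * (X 47 (x47) * (X 38 (x38) * (X 43 (x43) * (X 26 (x26) * (X 36 (d * x26 + x36) * (X 42 (d ^ 2 * x26 + x42)))))))))))))) := by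
    rw [inv_eq]
    normX
  rw [hw, X_zero] at e
  simp only [one_mul, mul_one] at e
  exact Rch.step (xG_mem_group g₄ 34 d) e h fun h' => n259 hx31 hx26 h'

lemma n261 {x37 x32 x31 x40 x46 x39 x45 x44 x47 x38 x43 x26 x36 x42 : K} (hx31 : x31 ≠ 0) (hx26 : x26 ≠ 0)
    (h : (X 37 (x37) * (X 32 (x32) * (X 31 (x31) * (X 40 (x40) * (X 46 (x46) * (X 39 (x39) * (X 45 (x45) * (X 44 (x44) * (X 47 (x47) * (X 38 (x38) * (X 43 (x43) * (X 26 (x26) * (X 36 (x36) * (X 42 (x42))))))))))))))) * (X 37 (x37) * (X 32 (x32) * (X 31 (x31) * (X 40 (x40) * (X 46 (x46) * (X 39 (x39) * (X 45 (x45) * (X 44 (x44) * (X 47 (x47) * (X 38 (x38) * (X 43 (x43) * (X 26 (x26) * (X 36 (x36) * (X 42 (x42))))))))))))))) = 1) :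
    Rch (X 37 (x37) * (X 32 (x32) * (X 31 (x31) * (X 40 (x40) * (X 46 (x46) * (X 39 (x39) * (X 45 (x45) * (X 44 (x44) * (X 47 (x47) * (X 38 (x38) * (X 43 (x43) * (X 26 (x26) * (X 36 (x36) * (X 42 (x42))))))))))))))) := by
  have e : (X 37 (x37) * (X 32 (x32) * (X 31 (x31) * (X 40 (x40) * (X 46 (x46) * (X 39 (x39) * (X 45 (x45) * (X 44 (x44) * (X 47 (x47) * (X 38 (x38) * (X 43 (x43) * (X 26 (x26) * (X 36 (x36) * (X 42 (x42))))))))))))))) * (X 37 (x37) * (X 32 (x32) * (X 31 (x31) * (X 40 (x40) * (X 46 (x46) * (X 39 (x39) * (X 45 (x45) * (X 44 (x44) * (X 47 (x47) * (X 38 (x38) * (X 43 (x43) * (X 26 (x26) * (X 36 (x36) * (X 42 (x42))))))))))))))) = Z (0, 0) (0, 0) (0, 0) (0, 0) (0, x26 * x37 ^ 2) (x26 * x37, 0) (0, 0) (x36 * x37, x26 * x45 + x31 * x43 + x32 * x42) (0, 0) (0, 0) (0, 0) (0, 0) := by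
    unfold Z
    normX
  have e' := Z_inj (e.symm.trans (h.trans one_Z))
  obtain ⟨-, -, -, -, e4, -, -, -, -, -, -, -⟩ := e'
  have z37 : x37 = 0 := zero_of (congrArg Prod.snd e4) fun hx37 =>
    (mul_ne_zero hx26 (pow_ne_zero 2 hx37))
  subst z37
  simp only [X_zero, one_mul, mul_one] at h ⊢
  exact n260 hx31 hx26 h

lemma n262 {x37 x32 x35 x31 x40 x46 x39 x45 x41 x44 x47 x38 x43 x26 x36 x42 x33 : K} (hx31 : x31 ≠ 0) (hx26 : x26 ≠ 0)
    (h : (X 37 (x37) * (X 32 (x32) * (X 35 (x35) * (X 31 (x31) * (X 40 (x40) * (X 46 (x46) * (X 39 (x39) * (X 45 (x45) * (X 41 (x41) * (X 44 (x44) * (X 47 (x47) * (X 38 (x38) * (X 43 (x43) * (X 26 (x26) * (X 36 (x36) * (X 42 (x42) * (X 33 (x33)))))))))))))))))) * (X 37 (x37) * (X 32 (x32) * (X 35 (x35) * (X 31 (x31) * (X 40 (x40) * (X 46 (x46) * (X 39 (x39) * (X 45 (x45) * (X 41 (x41) * (X 44 (x44) * (X 47 (x47) * (X 38 (x38) * (X 43 (x43) * (X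 26 (x26) * (X 36 (x36) * (X 42 (x42) * (X 33 (x33)))))))))))))))))) = 1) :
    Rch (X 37 (x37) * (X 32 (x32) * (X 35 (x35) * (X 31 (x31) * (X 40 (x40) * (X 46 (x46) * (X 39 (x39) * (X 45 (x45) * (X 41 (x41) * (X 44 (x44) * (X 47 (x47) * (X 38 (x38) * (X 43 (x43) * (X 26 (x26) * (X 36 (x36) * (X 42 (x42) * (X 33 (x33)))))))))))))))))) := by
  have e : (X 37 (x37) * (X 32 (x32) * (X 35 (x35) * (X 31 (x31) * (X 40 (x40) * (X 46 (x46) * (X 39 (x39) * (X 45 (x45) * (X 41 (x41) * (X 44 (x44) * (X 47 (x47) * (X 38 (x38) * (X 43 (x43) * (X 26 (x26) * (X 36 (x36) * (X 42 (x42) * (X 33 (x33)))))))))))))))))) * (X 37 (x37) * (X 32 (x32) * (X 35 (x35) * (X 31 (x31) * (X 40 (x40) * (X 46 (x46) * (X 39 (x39) * (X 45 (x45) * (X 41 (x41) * (X 44 (x44) * (X 47 (x47) * (X 38 (x38) * (X 43 (x43) * (X 26 (x26) * (X 36 (x36) * (X 42 (x42) * (X 33 (x33)))))))))))))))))) = Z (0, 0) (0, 0) (0, 0) (0,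 0) (x31 * x35, x26 * x37 ^ 2 + x31 * x35 ^ 2 + x32 * x41) (x26 * x37 + x32 * x33, x31 * x41) (0, 0) (x33 * x40 + x35 * x38 + x36 * x37, x26 * x45 + x31 * x32 * x33 ^ 2 + x31 * x43 + x32 * x42) (x31 * x33, x26 * x41 + x32 * x33 ^ 2) (0, 0) (0, x31 * x33 ^ 2) (0, 0) := by
    unfold Z
    normX
  have e' := Z_inj (e.symm.trans (h.trans one_Z))
  obtain ⟨-, -, -, -, e4, e5, -, -, e8, -, -, -⟩ := e'
  have z35 : x35 = 0 := zero_of (congrArg Prod.fst e4) fun hx35 =>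
    (mul_ne_zero hx31 hx35)
  have z41 : x41 = 0 := zero_of (congrArg Prod.snd e5) fun hx41 =>
    (mul_ne_zero hx31 hx41)
  have z33 : x33 = 0 := zero_of (congrArg Prod.fst e8) fun hx33 =>
    (mul_ne_zero hx31 hx33)
  subst z35 z41 z33
  simp only [X_zero, one_mul, mul_one] at h ⊢
  exact n261 hx31 hx26 h

lemma n263 {x37 x32 x35 x31 x40 x46 x39 x45 x41 x44 x47 x38 x43 x26 x36 x42 x33 : K} (hx26 : x26 ≠ 0)
    (h : (X 37 (x37) * (X 32 (x32) * (X 35 (x35) * (X 31 (x31) * (X 40 (x40) * (X 46 (x46) * (X 39 (x39) * (X 45 (x45) * (X 41 (x41) * (X 44 (x44) * (X 47 (x47) * (X 38 (x38) * (X 43 (x43) * (X 26 (x26) * (X 36 (x36) * (X 42 (x42) * (X 33 (x33)))))))))))))))))) * (X 37 (x37) * (X 32 (x32) * (X 35 (x35) * (X 31 (x31) * (X 40 (x40) * (X 46 (x46) * (X 39 (x39) * (X 45 (x45) * (X 41 (x41) * (X 44 (x44) * (X 47 (x47) * (X 38 (x38) * (X 43 (x43) * (X 26 (x26) * (X 36 (x36) * (X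 42 (x42) * (X 33 (x33)))))))))))))))))) = 1) :
    Rch (X 37 (x37) * (X 32 (x32) * (X 35 (x35) * (X 31 (x31) * (X 40 (x40) * (X 46 (x46) * (X 39 (x39) * (X 45 (x45) * (X 41 (x41) * (X 44 (x44) * (X 47 (x47) * (X 38 (x38) * (X 43 (x43) * (X 26 (x26) * (X 36 (x36) * (X 42 (x42) * (X 33 (x33)))))))))))))))))) := by
  rcases eq_or_ne x31 0 with rfl | hx31
  · simp only [X_zero, one_mul, mul_one] at h ⊢
    exact n245 hx26 h
  · exact n262 hx31 hx26 h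

lemma n264 {x37 x32 x35 x31 x40 x46 x39 x45 x41 x44 x47 x38 x43 x34 x26 x36 x42 x33 : K} (hx26 : x26 ≠ 0)
    (h : (X 37 (x37) * (X 32 (x32) * (X 35 (x35) * (X 31 (x31) * (X 40 (x40) * (X 46 (x46) * (X 39 (x39) * (X 45 (x45) * (X 41 (x41) * (X 44 (x44) * (X 47 (x47) * (X 38 (x38) * (X 43 (x43) * (X 34 (x34) * (X 26 (x26) * (X 36 (x36) * (X 42 (x42) * (X 33 (x33))))))))))))))))))) * (X 37 (x37) * (X 32 (x32) * (X 35 (x35) * (X 31 (x31) * (X 40 (x40) * (X 46 (x46) * (X 39 (x39) * (X 45 (x45) * (X 41 (x41) * (X 44 (x44) * (X 47 (x47) * (X 38 (x38) * (X 43 (x43) * (X 34 (x34) * (X 26 (x26) * (X 36 (x36) * (X 42 (x42) * (X 33 (x33))))))))))))))))))) = 1) :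
    Rch (X 37 (x37) * (X 32 (x32) * (X 35 (x35) * (X 31 (x31) * (X 40 (x40) * (X 46 (x46) * (X 39 (x39) * (X 45 (x45) * (X 41 (x41) * (X 44 (x44) * (X 47 (x47) * (X 38 (x38) * (X 43 (x43) * (X 34 (x34) * (X 26 (x26) * (X 36 (x36) * (X 42 (x42) * (X 33 (x33))))))))))))))))))) := by
  have e : (X 37 (x37) * (X 32 (x32) * (X 35 (x35) * (X 31 (x31) * (X 40 (x40) * (X 46 (x46) * (X 39 (x39) * (X 45 (x45) * (X 41 (x41) * (X 44 (x44) * (X 47 (x47) * (X 38 (x38) * (X 43 (x43) * (X 34 (x34) * (X 26 (x26) * (X 36 (x36) * (X 42 (x42) * (X 33 (x33))))))))))))))))))) * (X 37 (x37) * (X 32 (x32) * (X 35 (x35) * (X 31 (x31) * (X 40 (x40) * (X 46 (x46) * (X 39 (x39) * (X 45 (x45) * (X 41 (x41) * (X 44 (x44) * (X 47 (x47) * (X 38 (x38) * (X 43 (x43) * (X 34 (x34) * (X 26 (x26) * (X 36 (x36) * (X 42 (x42) * (X 33 (x33))))))))))))))))))) = Z (0, 0) (0, 0) (0, 0) (0, 0) (x31 * x35 + x32 * x34, x26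 * x37 ^ 2 + x31 * x35 ^ 2 + x32 * x41) (x26 * x37 + x32 * x33, x31 * x41 + x32 * x34 ^ 2) (0, 0) (x26 * x34 * x37 + x32 * x33 * x34 + x33 * x40 + x34 * x39 + x35 * x38 + x36 * x37, x26 * x45 + x31 * x32 * x33 ^ 2 + x31 * x43 + x32 * x42) (x31 * x33, x26 * x41 + x32 * x33 ^ 2) (0, 0) (x26 * x34, x26 * x34 ^ 2 + x31 * x33 ^ 2) (0, 0) := by
    unfold Z
    normX
  have e' := Z_inj (e.symm.trans (h.trans one_Z))
  obtain ⟨-, -, -, -, -, -, -, -, -, -, e10, -⟩ := e'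
  have z34 : x34 = 0 := zero_of (congrArg Prod.fst e10) fun hx34 =>
    (mul_ne_zero hx26 hx34)
  subst z34
  simp only [X_zero, one_mul, mul_one] at h ⊢
  exact n263 hx26 h

lemma n265 {x37 x32 x35 x31 x40 x46 x39 x45 x29 x41 x44 x47 x38 x43 x34 x26 x36 x42 x33 : K} (hx26 : x26 ≠ 0)
    (h : (X 37 (x37) * (X 32 (x32) * (X 35 (x35) * (X 31 (x31) * (X 40 (x40) * (X 46 (x46) * (X 39 (x39) * (X 45 (x45) * (X 29 (x29) * (X 41 (x41) * (X 44 (x44) * (X 47 (x47) * (X 38 (x38) * (X 43 (x43) * (X 34 (x34) * (X 26 (x26) * (X 36 (x36) * (X 42 (x42) * (X 33 (x33)))))))))))))))))))) * (X 37 (x37) * (X 32 (x32) * (X 35 (x35) * (X 31 (x31) * (X 40 (x40) * (X 46 (x46) * (X 39 (x39) * (X 45 (x45) * (X 29 (x29) * (X 41 (x41) * (X 44 (x44) * (X 47 (x47) * (X 38 (x38) * (X 43 (x43) * (X 34 (x34) * (X 26 (x26) * (X 36 (x36) * (X 42 (x42) * (X 33 (x33)))))))))))))))))))) = 1) :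
    Rch (X 37 (x37) * (X 32 (x32) * (X 35 (x35) * (X 31 (x31) * (X 40 (x40) * (X 46 (x46) * (X 39 (x39) * (X 45 (x45) * (X 29 (x29) * (X 41 (x41) * (X 44 (x44) * (X 47 (x47) * (X 38 (x38) * (X 43 (x43) * (X 34 (x34) * (X 26 (x26) * (X 36 (x36) * (X 42 (x42) * (X 33 (x33)))))))))))))))))))) := by
  obtain ⟨d, hd⟩ : ∃ d : K, (x26) * d = x29 :=
    exists_lin hx26 _
  have hw : (d * x26 + x29) = 0 := by linear_combination hd + (x29) * CharTwo.two_eq_zero (R := K)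
  have e : X 27 d * (X 37 (x37) * (X 32 (x32) * (X 35 (x35) * (X 31 (x31) * (X 40 (x40) * (X 46 (x46) * (X 39 (x39) * (X 45 (x45) * (X 29 (x29) * (X 41 (x41) * (X 44 (x44) * (X 47 (x47) * (X 38 (x38) * (X 43 (x43) * (X 34 (x34) * (X 26 (x26) * (X 36 (x36) * (X 42 (x42) * (X 33 (x33)))))))))))))))))))) * (X 27 d)⁻¹ = (X 37 (d * x35 + x37) * (X 32 (x32) * (X 35 (x35) * (X 31 (d ^ 2 * x26 + x31) * (X 40 (d * x39 + x40) * (X 46 (x46) * (X 39 (x39) * (X 45 (d ^ 2 * x26 * x41 + d ^ 2 * x43 + x45) * (X 29 (d * x26 + x29) * (X 41 (x41) * (X 44 (d * x26 * x41 + d * x43 + x44) * (X 47 (d ^ 2 * x26 * x43 + d ^ 2 * x26 ^ 2 * x41 + x47) * (X 38 (d * x26 * x34 + d * x36 + x38) * (X 43 (x43) * (X 34 (d * x33 + x34) * (X 26 (x26) * (X 36 (d * x26 * x33 + x36) * (X 42 (d ^ 2 * x26 * x33 ^ 2 + x42) * (X 33 (x33)))))))))))))))))))) := by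
    rw [inv_eq]
    normX
  rw [hw, X_zero] at e
  simp only [one_mul, mul_one] at e
  exact Rch.step (xG_mem_group g₄ 27 d) e h fun h' => n264 hx26 h'

lemma n266 {x37 x32 x35 x31 x40 x46 x39 x45 x29 x41 x44 x47 x38 x43 x34 x36 x42 x33 x24 : K} (hx24 : x24 ≠ 0)
    (h : (X 37 (x37) * (X 32 (x32) * (X 35 (x35) * (X 31 (x31) * (X 40 (x40) * (X 46 (x46) * (X 39 (x39) * (X 45 (x45) * (X 29 (x29) * (X 41 (x41) * (X 44 (x44) * (X 47 (x47) * (X 38 (x38) * (X 43 (x43) * (X 34 (x34) * (X 36 (x36) * (X 42 (x42) * (X 33 (x33) * (X 24 (x24)))))))))))))))))))) * (X 37 (x37) * (X 32 (x32) * (X 35 (x35) * (X 31 (x31) * (X 40 (x40) * (X 46 (x46) * (X 39 (x39) * (X 45 (x45) * (X 29 (x29) * (X 41 (x41) * (X 44 (x44) * (X 47 (x47) * (X 38 (x38) * (X 43 (x43) * (X 34 (x34) * (X 36 (x36) * (X 42 (x42) * (X 33 (x33) * (X 24 (x24)))))))))))))))))))) = 1) :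
    Rch (X 37 (x37) * (X 32 (x32) * (X 35 (x35) * (X 31 (x31) * (X 40 (x40) * (X 46 (x46) * (X 39 (x39) * (X 45 (x45) * (X 29 (x29) * (X 41 (x41) * (X 44 (x44) * (X 47 (x47) * (X 38 (x38) * (X 43 (x43) * (X 34 (x34) * (X 36 (x36) * (X 42 (x42) * (X 33 (x33) * (X 24 (x24)))))))))))))))))))) := by
  have e : nS K g₄ 2 * (X 37 (x37) * (X 32 (x32) * (X 35 (x35) * (X 31 (x31) * (X 40 (x40) * (X 46 (x46) * (X 39 (x39) * (X 45 (x45) * (X 29 (x29) * (X 41 (x41) * (X 44 (x44) * (X 47 (x47) * (X 38 (x38) * (X 43 (x43) * (X 34 (x34) * (X 36 (x36) * (X 42 (x42) * (X 33 (x33) * (X 24 (x24)))))))))))))))))))) * (nS K g₄ 2)⁻¹ = (X 37 (x37) * (X 32 (x31) * (X 35 (x34) * (X 31 (x32) * (X 40 (x31 * x35 + x32 * x34 + x40) * (X 46 (x32 * x34 ^ 2 + x45) * (X 39 (x29 * x34 + x38) * (X 45 (x31 * x35 ^ 2 + x46) * (X 29 (x29) * (X 41 (x41) * (X 44 (x29 * x34 * x35 + x34 * x39 + x35 * x38 + x44) * (X 47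 (x47) * (X 38 (x29 * x35 + x39) * (X 43 (x42) * (X 34 (x35) * (X 26 (x24) * (X 36 (x36) * (X 42 (x43) * (X 33 (x33)))))))))))))))))))) := by
    rw [← MulAut.conj_apply]
    simp only [map_mul, conj_s (i := 2) (r := 37) (r' := 37) (by decide +kernel), conj_s (i := 2) (r := 32) (r' := 31) (by decide +kernel), conj_s (i := 2) (r := 35) (r' := 34) (by decide +kernel), conj_s (i := 2) (r := 31) (r' := 32) (by decide +kernel), conj_s (i := 2) (r := 40) (r' := 40) (by decide +kernel), conj_s (i := 2) (r := 46) (r' := 45) (by decide +kernel), conj_s (i := 2) (r := 39) (r' := 38) (by decide +kernel), conj_s (i := 2) (r := 45) (r' := 46) (by decide +kernel), conj_s (i := 2) (r := 29) (r' := 29) (by decide +kernel), conj_s (i := 2) (r := 41) (r' := 41) (by decide +kernel), conj_s (i := 2) (r := 44) (r' := 44) (by decide +kernel), conj_s (i := 2) (r := 47) (r' := 47) (by decide +kernel),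 conj_s (i := 2) (r := 38) (r' := 39) (by decide +kernel), conj_s (i := 2) (r := 43) (r' := 42) (by decide +kernel), conj_s (i := 2) (r := 34) (r' := 35) (by decide +kernel), conj_s (i := 2) (r := 36) (r' := 36) (by decide +kernel), conj_s (i := 2) (r := 42) (r' := 43) (by decide +kernel), conj_s (i := 2) (r := 33) (r' := 33) (by decide +kernel), conj_s (i := 2) (r := 24) (r' := 26) (by decide +kernel)]
    all_goals normX
  exact Rch.step (nS_mem_group (by decide)) e h fun h' => n265 hx24 h'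

lemma n267 {x32 x45 x47 x38 x43 : K} (hx32 : x32 ≠ 0) (hx38 : x38 ≠ 0)
    (h : (X 32 (x32) * (X 45 (x45) * (X 47 (x47) * (X 38 (x38) * (X 43 (x43)))))) * (X 32 (x32) * (X 45 (x45) * (X 47 (x47) * (X 38 (x38) * (X 43 (x43)))))) = 1) :
    Rch (X 32 (x32) * (X 45 (x45) * (X 47 (x47) * (X 38 (x38) * (X 43 (x43)))))) := by
  obtain ⟨d, hd⟩ : ∃ d : K, (x32) * d = x47 :=
    exists_lin hx32 _
  have hw : (d * x32 + x47) = 0 := by linear_combination hd + (x47) * CharTwo.two_eq_zero (R := K)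
  have e : X 42 d * (X 32 (x32) * (X 45 (x45) * (X 47 (x47) * (X 38 (x38) * (X 43 (x43)))))) * (X 42 d)⁻¹ = (X 32 (x32) * (X 45 (x45) * (X 47 (d * x32 + x47) * (X 38 (x38) * (X 43 (x43)))))) := by
    rw [inv_eq]
    normX
  rw [hw, X_zero] at e
  simp only [one_mul, mul_one] at e
  exact Rch.step (xG_mem_group g₄ 42 d) e h fun h' => n121 hx32 hx38 h'

lemma n268 {x32 x46 x45 x47 x38 x43 : K} (hx32 : x32 ≠ 0) (hx38 : x38 ≠ 0)
    (h : (X 32 (x32) * (X 46 (x46) * (X 45 (x45) * (X 47 (x47) * (X 38 (x38) * (X 43 (x43))))))) * (X 32 (x32) * (X 46 (x46) * (X 45 (x45) * (X 47 (x47) * (X 38 (x38) * (X 43 (x43))))))) = 1) :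
    Rch (X 32 (x32) * (X 46 (x46) * (X 45 (x45) * (X 47 (x47) * (X 38 (x38) * (X 43 (x43))))))) := by
  obtain ⟨d, hd⟩ : ∃ d : K, (x32) * d = x46 :=
    exists_lin hx32 _
  have hw : (d * x32 + x46) = 0 := by linear_combination hd + (x46) * CharTwo.two_eq_zero (R := K)
  have e : X 41 d * (X 32 (x32) * (X 46 (x46) * (X 45 (x45) * (X 47 (x47) * (X 38 (x38) * (X 43 (x43))))))) * (X 41 d)⁻¹ = (X 32 (x32) * (X 46 (d * x32 + x46) * (X 45 (x45) * (X 47 (x47) * (X 38 (x38) * (X 43 (x43))))))) := by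
    rw [inv_eq]
    normX
  rw [hw, X_zero] at e
  simp only [one_mul, mul_one] at e
  exact Rch.step (xG_mem_group g₄ 41 d) e h fun h' => n267 hx32 hx38 h'

lemma n269 {x32 x46 x45 x44 x47 x38 x43 : K} (hx32 : x32 ≠ 0) (hx38 : x38 ≠ 0)
    (h : (X 32 (x32) * (X 46 (x46) * (X 45 (x45) * (X 44 (x44) * (X 47 (x47) * (X 38 (x38) * (X 43 (x43)))))))) * (X 32 (x32) * (X 46 (x46) * (X 45 (x45) * (X 44 (x44) * (X 47 (x47) * (X 38 (x38) * (X 43 (x43)))))))) = 1) :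
    Rch (X 32 (x32) * (X 46 (x46) * (X 45 (x45) * (X 44 (x44) * (X 47 (x47) * (X 38 (x38) * (X 43 (x43)))))))) := by
  obtain ⟨d, hd⟩ : ∃ d : K, (x38) * d = x44 :=
    exists_lin hx38 _
  have hw : (d * x38 + x44) = 0 := by linear_combination hd + (x44) * CharTwo.two_eq_zero (R := K)
  have e : X 35 d * (X 32 (x32) * (X 46 (x46) * (X 45 (x45) * (X 44 (x44) * (X 47 (x47) * (X 38 (x38) * (X 43 (x43)))))))) * (X 35 d)⁻¹ = (X 32 (x32) * (X 46 (x46) * (X 45 (x45) * (X 44 (d * x38 + x44) * (X 47 (x47) * (X 38 (x38) * (X 43 (x43)))))))) := by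
    rw [inv_eq]
    normX
  rw [hw, X_zero] at e
  simp only [one_mul, mul_one] at e
  exact Rch.step (xG_mem_group g₄ 35 d) e h fun h' => n268 hx32 hx38 h'

lemma n270 {x32 x40 x46 x45 x44 x47 x38 x43 : K} (hx32 : x32 ≠ 0) (hx38 : x38 ≠ 0)
    (h : (X 32 (x32) * (X 40 (x40) * (X 46 (x46) * (X 45 (x45) * (X 44 (x44) * (X 47 (x47) * (X 38 (x38) * (X 43 (x43))))))))) * (X 32 (x32) * (X 40 (x40) * (X 46 (x46) * (X 45 (x45) * (X 44 (x44) * (X 47 (x47) * (X 38 (x38) * (X 43 (x43))))))))) = 1) :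
    Rch (X 32 (x32) * (X 40 (x40) * (X 46 (x46) * (X 45 (x45) * (X 44 (x44) * (X 47 (x47) * (X 38 (x38) * (X 43 (x43))))))))) := by
  obtain ⟨d, hd⟩ : ∃ d : K, (x38) * d = x40 :=
    exists_lin hx38 _
  have hw : (d * x38 + x40) = 0 := by linear_combination hd + (x40) * CharTwo.two_eq_zero (R := K)
  have e : X 28 d * (X 32 (x32) * (X 40 (x40) * (X 46 (x46) * (X 45 (x45) * (X 44 (x44) * (X 47 (x47) * (X 38 (x38) * (X 43 (x43))))))))) * (X 28 d)⁻¹ = (X 32 (x32) * (X 40 (d * x38 + x40) * (X 46 (x46) * (X 45 (x45) * (X 44 (x44) * (X 47 (x47) * (X 38 (x38) * (X 43 (x43))))))))) := by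
    rw [inv_eq]
    normX
  rw [hw, X_zero] at e
  simp only [one_mul, mul_one] at e
  exact Rch.step (xG_mem_group g₄ 28 d) e h fun h' => n269 hx32 hx38 h'

lemma n271 {x37 x32 x40 x46 x45 x44 x47 x43 : K} (hx37 : x37 ≠ 0) (hx32 : x32 ≠ 0)
    (h : (X 37 (x37) * (X 32 (x32) * (X 40 (x40) * (X 46 (x46) * (X 45 (x45) * (X 44 (x44) * (X 47 (x47) * (X 43 (x43))))))))) * (X 37 (x37) * (X 32 (x32) * (X 40 (x40) * (X 46 (x46) * (X 45 (x45) * (X 44 (x44) * (X 47 (x47) * (X 43 (x43))))))))) = 1) :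
    Rch (X 37 (x37) * (X 32 (x32) * (X 40 (x40) * (X 46 (x46) * (X 45 (x45) * (X 44 (x44) * (X 47 (x47) * (X 43 (x43))))))))) := by
  have e : nS K g₄ 3 * (X 37 (x37) * (X 32 (x32) * (X 40 (x40) * (X 46 (x46) * (X 45 (x45) * (X 44 (x44) * (X 47 (x47) * (X 43 (x43))))))))) * (nS K g₄ 3)⁻¹ = (X 32 (x32) * (X 40 (x40) * (X 46 (x47) * (X 45 (x45) * (X 44 (x44) * (X 47 (x46) * (X 38 (x37) * (X 43 (x43))))))))) := by
    rw [← MulAut.conj_apply]
    simp only [map_mul, conj_s (i := 3) (r := 37) (r' := 38) (by decide +kernel), conj_s (i := 3) (r := 32) (r' := 32) (by decide +kernel), conj_s (i := 3) (r := 40) (r' := 40) (by decide +kernel), conj_s (i := 3) (r := 46) (r' := 47) (by decide +kernel), conj_s (i := 3) (r := 45) (r' := 45) (by decide +kernel), conj_s (i := 3) (r := 44) (r' := 44) (by decide +kernel), conj_s (i := 3) (r := 47) (r' := 46) (by decide +kernel), conj_s (i := 3)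 (r := 43) (r' := 43) (by decide +kernel)]
    all_goals normX
  exact Rch.step (nS_mem_group (by decide)) e h fun h' => n270 hx32 hx37 h'

lemma n272 {x37 x32 x40 x46 x45 x44 x47 x38 x43 : K} (hx37 : x37 ≠ 0) (hx32 : x32 ≠ 0)
    (h : (X 37 (x37) * (X 32 (x32) * (X 40 (x40) * (X 46 (x46) * (X 45 (x45) * (X 44 (x44) * (X 47 (x47) * (X 38 (x38) * (X 43 (x43)))))))))) * (X 37 (x37) * (X 32 (x32) * (X 40 (x40) * (X 46 (x46) * (X 45 (x45) * (X 44 (x44) * (X 47 (x47) * (X 38 (x38) * (X 43 (x43)))))))))) = 1) :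
    Rch (X 37 (x37) * (X 32 (x32) * (X 40 (x40) * (X 46 (x46) * (X 45 (x45) * (X 44 (x44) * (X 47 (x47) * (X 38 (x38) * (X 43 (x43)))))))))) := by
  obtain ⟨d, hd⟩ : ∃ d : K, (x37) * d = x38 :=
    exists_lin hx37 _
  have hw : (d * x37 + x38) = 0 := by linear_combination hd + (x38) * CharTwo.two_eq_zero (R := K)
  have e : X 24 d * (X 37 (x37) * (X 32 (x32) * (X 40 (x40) * (X 46 (x46) * (X 45 (x45) * (X 44 (x44) * (X 47 (x47) * (X 38 (x38) * (X 43 (x43)))))))))) * (X 24 d)⁻¹ = (X 37 (x37) * (X 32 (x32) * (X 40 (x40) * (X 46 (x46) * (X 45 (d * x37 ^ 2 + x45) * (X 44 (x44) * (X 47 (d * x46 + x47) * (X 38 (d * x37 + x38) * (X 43 (x43)))))))))) := by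
    rw [inv_eq]
    normX
  rw [hw, X_zero] at e
  simp only [one_mul, mul_one] at e
  exact Rch.step (xG_mem_group g₄ 24 d) e h fun h' => n271 hx37 hx32 h'

lemma n273 {x37 x31 x40 x46 x39 x45 x44 x47 x42 : K} (hx37 : x37 ≠ 0) (hx31 : x31 ≠ 0)
    (h : (X 37 (x37) * (X 31 (x31) * (X 40 (x40) * (X 46 (x46) * (X 39 (x39) * (X 45 (x45) * (X 44 (x44) * (X 47 (x47) * (X 42 (x42)))))))))) * (X 37 (x37) * (X 31 (x31) * (X 40 (x40) * (X 46 (x46) * (X 39 (x39) * (X 45 (x45) * (X 44 (x44) * (X 47 (x47) * (X 42 (x42)))))))))) = 1) :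
    Rch (X 37 (x37) * (X 31 (x31) * (X 40 (x40) * (X 46 (x46) * (X 39 (x39) * (X 45 (x45) * (X 44 (x44) * (X 47 (x47) * (X 42 (x42)))))))))) := by
  have e : nS K g₄ 2 * (X 37 (x37) * (X 31 (x31) * (X 40 (x40) * (X 46 (x46) * (X 39 (x39) * (X 45 (x45) * (X 44 (x44) * (X 47 (x47) * (X 42 (x42)))))))))) * (nS K g₄ 2)⁻¹ = (X 37 (x37) * (X 32 (x31) * (X 40 (x40) * (X 46 (x45) * (X 45 (x46) * (X 44 (x44) * (X 47 (x47) * (X 38 (x39) * (X 43 (x42)))))))))) := by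
    rw [← MulAut.conj_apply]
    simp only [map_mul, conj_s (i := 2) (r := 37) (r' := 37) (by decide +kernel), conj_s (i := 2) (r := 31) (r' := 32) (by decide +kernel), conj_s (i := 2) (r := 40) (r' := 40) (by decide +kernel), conj_s (i := 2) (r := 46) (r' := 45) (by decide +kernel), conj_s (i := 2) (r := 39) (r' := 38) (by decide +kernel), conj_s (i := 2) (r := 45) (r' := 46) (by decide +kernel), conj_s (i := 2) (r := 44) (r' := 44) (by decide +kernel), conj_s (i := 2) (r := 47) (r' := 47) (by decide +kernel), conj_s (i := 2) (r := 42) (r' := 43) (by decide +kernel)]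
    all_goals normX
  exact Rch.step (nS_mem_group (by decide)) e h fun h' => n272 hx37 hx31 h'

lemma n274 {x37 x31 x40 x46 x39 x45 x44 x47 x43 x42 : K} (hx37 : x37 ≠ 0) (hx31 : x31 ≠ 0)
    (h : (X 37 (x37) * (X 31 (x31) * (X 40 (x40) * (X 46 (x46) * (X 39 (x39) * (X 45 (x45) * (X 44 (x44) * (X 47 (x47) * (X 43 (x43) * (X 42 (x42))))))))))) * (X 37 (x37) * (X 31 (x31) * (X 40 (x40) * (X 46 (x46) * (X 39 (x39) * (X 45 (x45) * (X 44 (x44) * (X 47 (x47) * (X 43 (x43) * (X 42 (x42))))))))))) = 1) :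
    Rch (X 37 (x37) * (X 31 (x31) * (X 40 (x40) * (X 46 (x46) * (X 39 (x39) * (X 45 (x45) * (X 44 (x44) * (X 47 (x47) * (X 43 (x43) * (X 42 (x42))))))))))) := by
  have e : (X 37 (x37) * (X 31 (x31) * (X 40 (x40) * (X 46 (x46) * (X 39 (x39) * (X 45 (x45) * (X 44 (x44) * (X 47 (x47) * (X 43 (x43) * (X 42 (x42))))))))))) * (X 37 (x37) * (X 31 (x31) * (X 40 (x40) * (X 46 (x46) * (X 39 (x39) * (X 45 (x45) * (X 44 (x44) * (X 47 (x47) * (X 43 (x43) * (X 42 (x42))))))))))) = Z (0, 0) (0, 0) (0, 0) (0, 0) (0, 0) (0, 0) (0, 0) (0, x31 * x43) (0, 0) (0, 0) (0, 0) (0, 0) := by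
    unfold Z
    normX
  have e' := Z_inj (e.symm.trans (h.trans one_Z))
  obtain ⟨-, -, -, -, -, -, -, e7, -, -, -, -⟩ := e'
  have z43 : x43 = 0 := zero_of (congrArg Prod.snd e7) fun hx43 =>
    (mul_ne_zero hx31 hx43)
  subst z43
  simp only [X_zero, one_mul, mul_one] at h ⊢
  exact n273 hx37 hx31 h

lemma n275 {x37 x32 x31 x40 x46 x39 x45 x44 x47 x43 x42 : K} (hx37 : x37 ≠ 0) (hx31 : x31 ≠ 0)
    (h : (X 37 (x37) * (X 32 (x32) * (X 31 (x31) * (X 40 (x40) * (X 46 (x46) * (X 39 (x39) * (X 45 (x45) * (X 44 (x44) * (X 47 (x47) * (X 43 (x43) * (X 42 (x42)))))))))))) * (X 37 (x37) * (X 32 (x32) * (X 31 (x31) * (X 40 (x40) * (X 46 (x46) * (X 39 (x39) * (X 45 (x45) * (X 44 (x44) * (X 47 (x47) * (X 43 (x43) * (X 42 (x42)))))))))))) = 1) :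
    Rch (X 37 (x37) * (X 32 (x32) * (X 31 (x31) * (X 40 (x40) * (X 46 (x46) * (X 39 (x39) * (X 45 (x45) * (X 44 (x44) * (X 47 (x47) * (X 43 (x43) * (X 42 (x42)))))))))))) := by
  obtain ⟨d, hd⟩ : ∃ d : K, (x31) * d = x32 :=
    exists_lin hx31 _
  have hw : (d * x31 + x32) = 0 := by linear_combination hd + (x32) * CharTwo.two_eq_zero (R := K)
  have e : X 25 d * (X 37 (x37) * (X 32 (x32) * (X 31 (x31) * (X 40 (x40) * (X 46 (x46) * (X 39 (x39) * (X 45 (x45) * (X 44 (x44) * (X 47 (x47) * (X 43 (x43) * (X 42 (x42)))))))))))) * (X 25 d)⁻¹ = (X 37 (x37) * (X 32 (d * x31 + x32) * (X 31 (x31) * (X 40 (x40) * (X 46 (d * x45 + x46) * (X 39 (x39) * (X 45 (x45) * (X 44 (x44) * (X 47 (x47) * (X 43 (d * x42 + x43) * (X 42 (x42)))))))))))) := by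
    rw [inv_eq]
    normX
  rw [hw, X_zero] at e
  simp only [one_mul, mul_one] at e
  exact Rch.step (xG_mem_group g₄ 25 d) e h fun h' => n274 hx37 hx31 h'

lemma n276 {x32 x35 x40 x46 x39 x45 x44 x47 x43 x26 x42 : K} (hx35 : x35 ≠ 0) (hx26 : x26 ≠ 0)
    (h : (X 32 (x32) * (X 35 (x35) * (X 40 (x40) * (X 46 (x46) * (X 39 (x39) * (X 45 (x45) * (X 44 (x44) * (X 47 (x47) * (X 43 (x43) * (X 26 (x26) * (X 42 (x42)))))))))))) * (X 32 (x32) * (X 35 (x35) * (X 40 (x40) * (X 46 (x46) * (X 39 (x39) * (X 45 (x45) * (X 44 (x44) * (X 47 (x47) * (X 43 (x43) * (X 26 (x26) * (X 42 (x42)))))))))))) = 1) :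
    Rch (X 32 (x32) * (X 35 (x35) * (X 40 (x40) * (X 46 (x46) * (X 39 (x39) * (X 45 (x45) * (X 44 (x44) * (X 47 (x47) * (X 43 (x43) * (X 26 (x26) * (X 42 (x42)))))))))))) := by
  have e : nS K g₄ 1 * (X 32 (x32) * (X 35 (x35) * (X 40 (x40) * (X 46 (x46) * (X 39 (x39) * (X 45 (x45) * (X 44 (x44) * (X 47 (x47) * (X 43 (x43) * (X 26 (x26) * (X 42 (x42)))))))))))) * (nS K g₄ 1)⁻¹ = (X 37 (x35) * (X 32 (x32) * (X 31 (x26) * (X 40 (x39) * (X 46 (x46) * (X 39 (x40) * (X 45 (x43) * (X 44 (x44) * (X 47 (x26 * x45 + x47) * (X 43 (x45) * (X 42 (x42)))))))))))) := by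
    rw [← MulAut.conj_apply]
    simp only [map_mul, conj_s (i := 1) (r := 32) (r' := 32) (by decide +kernel), conj_s (i := 1) (r := 35) (r' := 37) (by decide +kernel), conj_s (i := 1) (r := 40) (r' := 39) (by decide +kernel), conj_s (i := 1) (r := 46) (r' := 46) (by decide +kernel), conj_s (i := 1) (r := 39) (r' := 40) (by decide +kernel), conj_s (i := 1) (r := 45) (r' := 43) (by decide +kernel), conj_s (i := 1) (r := 44) (r' := 44) (by decide +kernel), conj_s (i := 1) (r := 47) (r' := 47) (by decide +kernel), conj_s (i := 1) (r := 43) (r' := 45) (by decide +kernel), conj_s (i := 1) (r := 26) (r' := 31) (by decide +kernel), conj_s (i := 1) (r := 42) (r' := 42) (by decide +kernel)]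
    all_goals normX
  exact Rch.step (nS_mem_group (by decide)) e h fun h' => n275 hx35 hx26 h'

lemma n277 {x37 x32 x35 x31 x40 x46 x39 x45 x44 x47 x43 x26 x42 : K} (hx35 : x35 ≠ 0) (hx26 : x26 ≠ 0)
    (h : (X 37 (x37) * (X 32 (x32) * (X 35 (x35) * (X 31 (x31) * (X 40 (x40) * (X 46 (x46) * (X 39 (x39) * (X 45 (x45) * (X 44 (x44) * (X 47 (x47) * (X 43 (x43) * (X 26 (x26) * (X 42 (x42)))))))))))))) * (X 37 (x37) * (X 32 (x32) * (X 35 (x35) * (X 31 (x31) * (X 40 (x40) * (X 46 (x46) * (X 39 (x39) * (X 45 (x45) * (X 44 (x44) * (X 47 (x47) * (X 43 (x43) * (X 26 (x26) * (X 42 (x42)))))))))))))) = 1) :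
    Rch (X 37 (x37) * (X 32 (x32) * (X 35 (x35) * (X 31 (x31) * (X 40 (x40) * (X 46 (x46) * (X 39 (x39) * (X 45 (x45) * (X 44 (x44) * (X 47 (x47) * (X 43 (x43) * (X 26 (x26) * (X 42 (x42)))))))))))))) := by
  have e : (X 37 (x37) * (X 32 (x32) * (X 35 (x35) * (X 31 (x31) * (X 40 (x40) * (X 46 (x46) * (X 39 (x39) * (X 45 (x45) * (X 44 (x44) * (X 47 (x47) * (X 43 (x43) * (X 26 (x26) * (X 42 (x42)))))))))))))) * (X 37 (x37) * (X 32 (x32) * (X 35 (x35) * (X 31 (x31) * (X 40 (x40) * (X 46 (x46) * (X 39 (x39) * (X 45 (x45) * (X 44 (x44) * (X 47 (x47) * (X 43 (x43) * (X 26 (x26) * (X 42 (x42)))))))))))))) = Z (0, 0) (0, 0) (0, 0) (0, 0) (x31 * x35, x26 * x37 ^ 2 + x31 * x35 ^ 2) (x26 * x37, 0) (0, 0) (0, x26 * x45 + x31 * x43 + x32 * x42) (0, 0) (0, 0) (0, 0) (0, 0) := by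
    unfold Z
    normX
  have e' := Z_inj (e.symm.trans (h.trans one_Z))
  obtain ⟨-, -, -, -, e4, e5, -, -, -, -, -, -⟩ := e'
  have z31 : x31 = 0 := zero_of (congrArg Prod.fst e4) fun hx31 =>
    (mul_ne_zero hx31 hx35)
  have z37 : x37 = 0 := zero_of (congrArg Prod.fst e5) fun hx37 =>
    (mul_ne_zero hx26 hx37)
  subst z31 z37
  simp only [X_zero, one_mul, mul_one] at h ⊢
  exact n276 hx35 hx26 h

lemma n278 {x37 x32 x35 x31 x40 x46 x39 x45 x29 x44 x47 x43 x26 x42 : K} (hx35 : x35 ≠ 0) (hx26 : x26 ≠ 0)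
    (h : (X 37 (x37) * (X 32 (x32) * (X 35 (x35) * (X 31 (x31) * (X 40 (x40) * (X 46 (x46) * (X 39 (x39) * (X 45 (x45) * (X 29 (x29) * (X 44 (x44) * (X 47 (x47) * (X 43 (x43) * (X 26 (x26) * (X 42 (x42))))))))))))))) * (X 37 (x37) * (X 32 (x32) * (X 35 (x35) * (X 31 (x31) * (X 40 (x40) * (X 46 (x46) * (X 39 (x39) * (X 45 (x45) * (X 29 (x29) * (X 44 (x44) * (X 47 (x47) * (X 43 (x43) * (X 26 (x26) * (X 42 (x42))))))))))))))) = 1) :
    Rch (X 37 (x37) * (X 32 (x32) * (X 35 (x35) * (X 31 (x31) * (X 40 (x40) * (X 46 (x46) * (X 39 (x39) * (X 45 (x45) * (X 29 (x29) * (X 44 (x44) * (X 47 (x47) * (X 43 (x43) * (X 26 (x26) * (X 42 (x42))))))))))))))) := by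
  obtain ⟨d, hd⟩ : ∃ d : K, (x26) * d = x29 :=
    exists_lin hx26 _
  have hw : (d * x26 + x29) = 0 := by linear_combination hd + (x29) * CharTwo.two_eq_zero (R := K)
  have e : X 27 d * (X 37 (x37) * (X 32 (x32) * (X 35 (x35) * (X 31 (x31) * (X 40 (x40) * (X 46 (x46) * (X 39 (x39) * (X 45 (x45) * (X 29 (x29) * (X 44 (x44) * (X 47 (x47) * (X 43 (x43) * (X 26 (x26) * (X 42 (x42))))))))))))))) * (X 27 d)⁻¹ = (X 37 (d * x35 + x37) * (X 32 (x32) * (X 35 (x35) * (X 31 (d ^ 2 * x26 + x31) * (X 40 (d * x39 + x40) * (X 46 (x46) * (X 39 (x39) * (X 45 (d ^ 2 * x43 + x45) * (X 29 (d * x26 + x29) * (X 44 (d * x43 + x44) * (X 47 (d ^ 2 * x26 * x43 + x47) * (X 43 (x43) * (X 26 (x26) * (X 42 (x42))))))))))))))) := by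
    rw [inv_eq]
    normX
  rw [hw, X_zero] at e
  simp only [one_mul, mul_one] at e
  exact Rch.step (xG_mem_group g₄ 27 d) e h fun h' => n277 hx35 hx26 h'

lemma n279 {x28 x37 x32 x31 x40 x46 x39 x45 x44 x47 x43 x26 x36 x42 : K} (hx28 : x28 ≠ 0) (hx26 : x26 ≠ 0)
    (h : (X 28 (x28) * (X 37 (x37) * (X 32 (x32) * (X 31 (x31) * (X 40 (x40) * (X 46 (x46) * (X 39 (x39) * (X 45 (x45) * (X 44 (x44) * (X 47 (x47) * (X 43 (x43) * (X 26 (x26) * (X 36 (x36) * (X 42 (x42))))))))))))))) * (X 28 (x28) * (X 37 (x37) * (X 32 (x32) * (X 31 (x31) * (X 40 (x40) * (X 46 (x46) * (X 39 (x39) * (X 45 (x45) * (X 44 (x44) * (X 47 (x47) * (X 43 (x43) * (X 26 (x26) * (X 36 (x36) * (X 42 (x42))))))))))))))) = 1) :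
    Rch (X 28 (x28) * (X 37 (x37) * (X 32 (x32) * (X 31 (x31) * (X 40 (x40) * (X 46 (x46) * (X 39 (x39) * (X 45 (x45) * (X 44 (x44) * (X 47 (x47) * (X 43 (x43) * (X 26 (x26) * (X 36 (x36) * (X 42 (x42))))))))))))))) := by
  have e : nS K g₄ 0 * (X 28 (x28) * (X 37 (x37) * (X 32 (x32) * (X 31 (x31) * (X 40 (x40) * (X 46 (x46) * (X 39 (x39) * (X 45 (x45) * (X 44 (x44) * (X 47 (x47) * (X 43 (x43) * (X 26 (x26) * (X 36 (x36) * (X 42 (x42))))))))))))))) * (nS K g₄ 0)⁻¹ = (X 37 (x37) * (X 32 (x43) * (X 35 (x28) * (X 31 (x42) * (X 40 (x44) * (X 46 (x46) * (X 39 (x39) * (X 45 (x45) * (X 29 (x36) * (X 44 (x40) * (X 47 (x31 * x43 + x32 * x42 + x47) * (X 43 (x32) * (X 26 (x26) * (X 42 (x31))))))))))))))) := by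
    rw [← MulAut.conj_apply]
    simp only [map_mul, conj_s (i := 0) (r := 28) (r' := 35) (by decide +kernel), conj_s (i := 0) (r := 37) (r' := 37) (by decide +kernel), conj_s (i := 0) (r := 32) (r' := 43) (by decide +kernel), conj_s (i := 0) (r := 31) (r' := 42) (by decide +kernel), conj_s (i := 0) (r := 40) (r' := 44) (by decide +kernel), conj_s (i := 0) (r := 46) (r' := 46) (by decide +kernel), conj_s (i := 0) (r := 39) (r' := 39) (by decide +kernel), conj_s (i := 0) (r := 45) (r' := 45) (by decide +kernel), conj_s (i := 0) (r := 44) (r' := 40) (by decide +kernel), conj_s (i := 0) (r := 47) (r' := 47) (by decide +kernel), conj_s (i := 0) (r := 43) (r' := 32) (by decide +kernel), conj_s (i := 0) (r := 26) (r' := 26) (by decide +kernel), conj_s (i := 0) (r := 36) (r' := 29) (by decide +kernel), conj_s (i := 0) (r := 42) (r' := 31) (by decide +kernel)]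
    all_goals normX
  exact Rch.step (nS_mem_group (by decide)) e h fun h' => n278 hx28 hx26 h'

lemma n280 {x28 x37 x32 x31 x40 x46 x39 x45 x44 x47 x38 x43 x26 x36 x42 : K} (hx28 : x28 ≠ 0) (hx26 : x26 ≠ 0)
    (h : (X 28 (x28) * (X 37 (x37) * (X 32 (x32) * (X 31 (x31) * (X 40 (x40) * (X 46 (x46) * (X 39 (x39) * (X 45 (x45) * (X 44 (x44) * (X 47 (x47) * (X 38 (x38) * (X 43 (x43) * (X 26 (x26) * (X 36 (x36) * (X 42 (x42)))))))))))))))) * (X 28 (x28) * (X 37 (x37) * (X 32 (x32) * (X 31 (x31) * (X 40 (x40) * (X 46 (x46) * (X 39 (x39) * (X 45 (x45) * (X 44 (x44) * (X 47 (x47) * (X 38 (x38) * (X 43 (x43) * (X 26 (x26) * (X 36 (x36) * (X 42 (x42)))))))))))))))) = 1) :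
    Rch (X 28 (x28) * (X 37 (x37) * (X 32 (x32) * (X 31 (x31) * (X 40 (x40) * (X 46 (x46) * (X 39 (x39) * (X 45 (x45) * (X 44 (x44) * (X 47 (x47) * (X 38 (x38) * (X 43 (x43) * (X 26 (x26) * (X 36 (x36) * (X 42 (x42)))))))))))))))) := by
  have e : (X 28 (x28) * (X 37 (x37) * (X 32 (x32) * (X 31 (x31) * (X 40 (x40) * (X 46 (x46) * (X 39 (x39) * (X 45 (x45) * (X 44 (x44) * (X 47 (x47) * (X 38 (x38) * (X 43 (x43) * (X 26 (x26) * (X 36 (x36) * (X 42 (x42)))))))))))))))) * (X 28 (x28) * (X 37 (x37) * (X 32 (x32) * (X 31 (x31) * (X 40 (x40) * (X 46 (x46) * (X 39 (x39) * (X 45 (x45) * (X 44 (x44) * (X 47 (x47) * (X 38 (x38) * (X 43 (x43) * (X 26 (x26) * (X 36 (x36) * (X 42 (x42)))))))))))))))) = Z (0, 0) (0, 0) (0, 0) (0, 0) (x28 * x38, x26 * x37 ^ 2 + x28 ^ 2 * x42) (x26 * x37 + x28 * x36, 0) (0, 0) (x28 * x42 + x36 * x37, x26 * x45 + x31 * x43 + x32 * x42) (0, 0) (0, 0) (0, 0) (0,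 0) := by
    unfold Z
    normX
  have e' := Z_inj (e.symm.trans (h.trans one_Z))
  obtain ⟨-, -, -, -, e4, -, -, -, -, -, -, -⟩ := e'
  have z38 : x38 = 0 := zero_of (congrArg Prod.fst e4) fun hx38 =>
    (mul_ne_zero hx28 hx38)
  subst z38
  simp only [X_zero, one_mul, mul_one] at h ⊢
  exact n279 hx28 hx26 h

lemma n281 {x28 x37 x32 x35 x31 x40 x46 x39 x45 x44 x47 x38 x43 x26 x36 x42 : K} (hx28 : x28 ≠ 0) (hx26 : x26 ≠ 0)
    (h : (X 28 (x28) * (X 37 (x37) * (X 32 (x32) * (X 35 (x35) * (X 31 (x31) * (X 40 (x40) * (X 46 (x46) * (X 39 (x39) * (X 45 (x45) * (X 44 (x44) * (X 47 (x47) * (X 38 (x38) * (X 43 (x43) * (X 26 (x26) * (X 36 (x36) * (X 42 (x42))))))))))))))))) * (X 28 (x28) * (X 37 (x37) * (X 32 (x32) * (X 35 (x35) * (X 31 (x31) * (X 40 (x40) * (X 46 (x46) * (X 39 (x39) * (X 45 (x45) * (X 44 (x44) * (X 47 (x47) * (X 38 (x38) * (X 43 (x43) * (X 26 (x26) * (X 36 (x36) * (X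 42 (x42))))))))))))))))) = 1) :
    Rch (X 28 (x28) * (X 37 (x37) * (X 32 (x32) * (X 35 (x35) * (X 31 (x31) * (X 40 (x40) * (X 46 (x46) * (X 39 (x39) * (X 45 (x45) * (X 44 (x44) * (X 47 (x47) * (X 38 (x38) * (X 43 (x43) * (X 26 (x26) * (X 36 (x36) * (X 42 (x42))))))))))))))))) := by
  obtain ⟨d, hd⟩ : ∃ d : K, (x28) * d = x35 :=
    exists_lin hx28 _
  have hw : (d * x28 + x35) = 0 := by linear_combination hd + (x35) * CharTwo.two_eq_zero (R := K)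
  have e : X 33 d * (X 28 (x28) * (X 37 (x37) * (X 32 (x32) * (X 35 (x35) * (X 31 (x31) * (X 40 (x40) * (X 46 (x46) * (X 39 (x39) * (X 45 (x45) * (X 44 (x44) * (X 47 (x47) * (X 38 (x38) * (X 43 (x43) * (X 26 (x26) * (X 36 (x36) * (X 42 (x42))))))))))))))))) * (X 33 d)⁻¹ = (X 28 (x28) * (X 37 (x37) * (X 32 (x32) * (X 35 (d * x28 + x35) * (X 31 (x31) * (X 40 (x40) * (X 46 (x46) * (X 39 (d * x32 + x39) * (X 45 (x45) * (X 44 (d * x40 + x44) * (X 47 (d ^ 2 * x31 * x32 + x47) * (X 38 (d * x31 + x38) * (X 43 (d ^ 2 * x32 + x43) * (X 26 (x26) * (X 36 (x36) * (X 42 (d ^ 2 * x31 + x42))))))))))))))))) := by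
    rw [inv_eq]
    normX
  rw [hw, X_zero] at e
  simp only [one_mul, mul_one] at e
  exact Rch.step (xG_mem_group g₄ 33 d) e h fun h' => n280 hx28 hx26 h'

lemma n282 {x28 x37 x32 x35 x31 x40 x46 x39 x45 x29 x44 x47 x38 x43 x26 x36 x42 : K} (hx28 : x28 ≠ 0) (hx26 : x26 ≠ 0)
    (h : (X 28 (x28) * (X 37 (x37) * (X 32 (x32) * (X 35 (x35) * (X 31 (x31) * (X 40 (x40) * (X 46 (x46) * (X 39 (x39) * (X 45 (x45) * (X 29 (x29) * (X 44 (x44) * (X 47 (x47) * (X 38 (x38) * (X 43 (x43) * (X 26 (x26) * (X 36 (x36) * (X 42 (x42)))))))))))))))))) * (X 28 (x28) * (X 37 (x37) * (X 32 (x32) * (X 35 (x35) * (X 31 (x31) * (X 40 (x40) * (X 46 (x46) * (X 39 (x39) * (X 45 (x45) * (X 29 (x29) * (X 44 (x44) * (X 47 (x47) * (X 38 (x38) * (X 43 (x43) * (X 26 (x26) * (X 36 (x36) * (X 42 (x42)))))))))))))))))) = 1) :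
    Rch (X 28 (x28) * (X 37 (x37) * (X 32 (x32) * (X 35 (x35) * (X 31 (x31) * (X 40 (x40) * (X 46 (x46) * (X 39 (x39) * (X 45 (x45) * (X 29 (x29) * (X 44 (x44) * (X 47 (x47) * (X 38 (x38) * (X 43 (x43) * (X 26 (x26) * (X 36 (x36) * (X 42 (x42)))))))))))))))))) := by
  obtain ⟨d, hd⟩ : ∃ d : K, (x28) * d = x29 :=
    exists_lin hx28 _
  have hw : (d * x28 + x29) = 0 := by linear_combination hd + (x29) * CharTwo.two_eq_zero (R := K)
  have e : X 24 d * (X 28 (x28) * (X 37 (x37) * (X 32 (x32) * (X 35 (x35) * (X 31 (x31) * (X 40 (x40) * (X 46 (x46) * (X 39 (x39) * (X 45 (x45) * (X 29 (x29) * (X 44 (x44) * (X 47 (x47) * (X 38 (x38) * (X 43 (x43) * (X 26 (x26) * (X 36 (x36) * (X 42 (x42)))))))))))))))))) * (X 24 d)⁻¹ = (X 28 (x28) * (X 37 (x37) * (X 32 (d * x28 ^ 2 + x32) * (X 35 (x35) * (X 31 (x31) * (X 40 (d * x28 * x37 + x40) * (X 46 (x46) * (X 39 (d * x28 * x35 + x39) * (X 45 (d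 * x37 ^ 2 + x45) * (X 29 (d * x28 + x29) * (X 44 (d * x35 * x37 + x44) * (X 47 (d * x31 * x35 ^ 2 + d * x46 + x47) * (X 38 (d * x37 + x38) * (X 43 (d * x35 ^ 2 + x43) * (X 26 (x26) * (X 36 (d * x35 + x36) * (X 42 (x42)))))))))))))))))) := by
    rw [inv_eq]
    normX
  rw [hw, X_zero] at e
  simp only [one_mul, mul_one] at e
  exact Rch.step (xG_mem_group g₄ 24 d) e h fun h' => n281 hx28 hx26 h'

lemma n283 {x27 x37 x32 x31 x40 x46 x39 x45 x29 x44 x47 x38 x43 x34 x36 x42 x24 : K} (hx27 : x27 ≠ 0) (hx24 : x24 ≠ 0)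
    (h : (X 27 (x27) * (X 37 (x37) * (X 32 (x32) * (X 31 (x31) * (X 40 (x40) * (X 46 (x46) * (X 39 (x39) * (X 45 (x45) * (X 29 (x29) * (X 44 (x44) * (X 47 (x47) * (X 38 (x38) * (X 43 (x43) * (X 34 (x34) * (X 36 (x36) * (X 42 (x42) * (X 24 (x24)))))))))))))))))) * (X 27 (x27) * (X 37 (x37) * (X 32 (x32) * (X 31 (x31) * (X 40 (x40) * (X 46 (x46) * (X 39 (x39) * (X 45 (x45) * (X 29 (x29) * (X 44 (x44) * (X 47 (x47) * (X 38 (x38) * (X 43 (x43) * (X 34 (x34) * (X 36 (x36) * (X 42 (x42) * (X 24 (x24)))))))))))))))))) = 1) :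
    Rch (X 27 (x27) * (X 37 (x37) * (X 32 (x32) * (X 31 (x31) * (X 40 (x40) * (X 46 (x46) * (X 39 (x39) * (X 45 (x45) * (X 29 (x29) * (X 44 (x44) * (X 47 (x47) * (X 38 (x38) * (X 43 (x43) * (X 34 (x34) * (X 36 (x36) * (X 42 (x42) * (X 24 (x24)))))))))))))))))) := by
  have e : nS K g₄ 2 * (X 27 (x27) * (X 37 (x37) * (X 32 (x32) * (X 31 (x31) * (X 40 (x40) * (X 46 (x46) * (X 39 (x39) * (X 45 (x45) * (X 29 (x29) * (X 44 (x44) * (X 47 (x47) * (X 38 (x38) * (X 43 (x43) * (X 34 (x34) * (X 36 (x36) * (X 42 (x42) * (X 24 (x24)))))))))))))))))) * (nS K g₄ 2)⁻¹ = (X 28 (x27) * (X 37 (x37) * (X 32 (x31) * (X 35 (x34) * (X 31 (x32) * (X 40 (x32 * x34 + x40) * (X 46 (x32 * x34 ^ 2 + x45) * (X 39 (x29 * x34 + x38) * (X 45 (x46) * (X 29 (x29) * (X 44 (x34 * x39 + x44) * (X 47 (x47) * (X 38 (x39) * (X 43 (x42) * (X 26 (x24) * (X 36 (x36) * (X 42 (x43)))))))))))))))))) := by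
    rw [← MulAut.conj_apply]
    simp only [map_mul, conj_s (i := 2) (r := 27) (r' := 28) (by decide +kernel), conj_s (i := 2) (r := 37) (r' := 37) (by decide +kernel), conj_s (i := 2) (r := 32) (r' := 31) (by decide +kernel), conj_s (i := 2) (r := 31) (r' := 32) (by decide +kernel), conj_s (i := 2) (r := 40) (r' := 40) (by decide +kernel), conj_s (i := 2) (r := 46) (r' := 45) (by decide +kernel), conj_s (i := 2) (r := 39) (r' := 38) (by decide +kernel), conj_s (i := 2) (r := 45) (r' := 46) (by decide +kernel), conj_s (i := 2) (r := 29) (r' := 29) (by decide +kernel), conj_s (i := 2) (r := 44) (r' := 44) (by decide +kernel), conj_s (i := 2) (r := 47) (r' := 47) (by decide +kernel), conj_s (i := 2) (r := 38) (r' := 39) (by decide +kernel), conj_s (i := 2) (r := 43) (r' := 42) (by decide +kernel), conj_s (i := 2) (r := 34) (r' := 35) (by decide +kernel), conj_s (i := 2) (r := 36)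 (r' := 36) (by decide +kernel), conj_s (i := 2) (r := 42) (r' := 43) (by decide +kernel), conj_s (i := 2) (r := 24) (r' := 26) (by decide +kernel)]
    all_goals normX
  exact Rch.step (nS_mem_group (by decide)) e h fun h' => n282 hx27 hx24 h'

lemma n284 {x27 x37 x32 x31 x40 x46 x39 x45 x29 x41 x44 x47 x38 x43 x34 x36 x42 x24 : K} (hx27 : x27 ≠ 0) (hx24 : x24 ≠ 0)
    (h : (X 27 (x27) * (X 37 (x37) * (X 32 (x32) * (X 31 (x31) * (X 40 (x40) * (X 46 (x46) * (X 39 (x39) * (X 45 (x45) * (X 29 (x29) * (X 41 (x41) * (X 44 (x44) * (X 47 (x47) * (X 38 (x38) * (X 43 (x43) * (X 34 (x34) * (X 36 (x36) * (X 42 (x42) * (X 24 (x24))))))))))))))))))) * (X 27 (x27) * (X 37 (x37) * (X 32 (x32) * (X 31 (x31) * (X 40 (x40) * (X 46 (x46) * (X 39 (x39) * (X 45 (x45) * (X 29 (x29) * (X 41 (x41) * (X 44 (x44) * (X 47 (x47) * (X 38 (x38) * (X 43 (x43) * (X 34 (x34) * (X 36 (x36) * (X 42 (x42) * (X 24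 (x24))))))))))))))))))) = 1) :
    Rch (X 27 (x27) * (X 37 (x37) * (X 32 (x32) * (X 31 (x31) * (X 40 (x40) * (X 46 (x46) * (X 39 (x39) * (X 45 (x45) * (X 29 (x29) * (X 41 (x41) * (X 44 (x44) * (X 47 (x47) * (X 38 (x38) * (X 43 (x43) * (X 34 (x34) * (X 36 (x36) * (X 42 (x42) * (X 24 (x24))))))))))))))))))) := by
  have e : (X 27 (x27) * (X 37 (x37) * (X 32 (x32) * (X 31 (x31) * (X 40 (x40) * (X 46 (x46) * (X 39 (x39) * (X 45 (x45) * (X 29 (x29) * (X 41 (x41) * (X 44 (x44) * (X 47 (x47) * (X 38 (x38) * (X 43 (x43) * (X 34 (x34) * (X 36 (x36) * (X 42 (x42) * (X 24 (x24))))))))))))))))))) * (X 27 (x27) * (X 37 (x37) * (X 32 (x32) * (X 31 (x31) * (X 40 (x40) * (X 46 (x46) * (X 39 (x39) * (X 45 (x45) * (X 29 (x29) * (X 41 (x41) * (X 44 (x44) * (X 47 (x47) * (X 38 (x38) * (X 43 (x43) * (X 34 (x34) * (X 36 (x36) * (X 42 (x42) * (X 24 (x24))))))))))))))))))) = Z (0, 0) (0, 0) (0, 0) (0,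 0) (x27 * x39 + x29 * x37 + x32 * x34, x32 * x41) (0, x24 * x37 ^ 2 + x27 ^ 2 * x43 + x31 * x41 + x32 * x34 ^ 2) (0, 0) (x27 * x43 + x29 * x41 + x34 * x39 + x36 * x37, x24 * x46 + x29 ^ 2 * x41 + x31 * x43 + x32 * x42) (x24 * x37 + x27 * x36 + x29 * x34, 0) (0, 0) (0, x24 * x41) (0, 0) := by
    unfold Z
    normX
  have e' := Z_inj (e.symm.trans (h.trans one_Z))
  obtain ⟨-, -, -, -, -, -, -, -, -, -, e10, -⟩ := e'
  have z41 : x41 = 0 := zero_of (congrArg Prod.snd e10) fun hx41 =>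
    (mul_ne_zero hx24 hx41)
  subst z41
  simp only [X_zero, one_mul, mul_one] at h ⊢
  exact n283 hx27 hx24 h

lemma n285 {x27 x37 x32 x35 x31 x40 x46 x39 x45 x29 x41 x44 x47 x38 x43 x34 x36 x42 x33 x24 : K} (hx27 : x27 ≠ 0) (hx24 : x24 ≠ 0)
    (h : (X 27 (x27) * (X 37 (x37) * (X 32 (x32) * (X 35 (x35) * (X 31 (x31) * (X 40 (x40) * (X 46 (x46) * (X 39 (x39) * (X 45 (x45) * (X 29 (x29) * (X 41 (x41) * (X 44 (x44) * (X 47 (x47) * (X 38 (x38) * (X 43 (x43) * (X 34 (x34) * (X 36 (x36) * (X 42 (x42) * (X 33 (x33) * (X 24 (x24))))))))))))))))))))) * (X 27 (x27) * (X 37 (x37) * (X 32 (x32) * (X 35 (x35) * (X 31 (x31) * (X 40 (x40) * (X 46 (x46) * (X 39 (x39) * (X 45 (x45) * (X 29 (x29) * (X 41 (x41) * (X 44 (x44) * (X 47 (x47) * (X 38 (x38) * (X 43 (x43) * (X 34 (x34) * (X 36 (x36) * (X 42 (x42) * (X 33 (x33) * (X 24 (x24))))))))))))))))))))) = 1) :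
    Rch (X 27 (x27) * (X 37 (x37) * (X 32 (x32) * (X 35 (x35) * (X 31 (x31) * (X 40 (x40) * (X 46 (x46) * (X 39 (x39) * (X 45 (x45) * (X 29 (x29) * (X 41 (x41) * (X 44 (x44) * (X 47 (x47) * (X 38 (x38) * (X 43 (x43) * (X 34 (x34) * (X 36 (x36) * (X 42 (x42) * (X 33 (x33) * (X 24 (x24))))))))))))))))))))) := by
  have e : (X 27 (x27) * (X 37 (x37) * (X 32 (x32) * (X 35 (x35) * (X 31 (x31) * (X 40 (x40) * (X 46 (x46) * (X 39 (x39) * (X 45 (x45) * (X 29 (x29) * (X 41 (x41) * (X 44 (x44) * (X 47 (x47) * (X 38 (x38) * (X 43 (x43) * (X 34 (x34) * (X 36 (x36) * (X 42 (x42) * (X 33 (x33) * (X 24 (x24))))))))))))))))))))) * (X 27 (x27) * (X 37 (x37) * (X 32 (x32) * (X 35 (x35) * (X 31 (x31) * (X 40 (x40) * (X 46 (x46) * (X 39 (x39) * (X 45 (x45) * (X 29 (x29) * (X 41 (x41) * (X 44 (x44) * (X 47 (x47) * (X 38 (x38) * (X 43 (x43) * (X 34 (x34) * (X 36 (x36) * (X 42 (x42) * (X 33 (x33) *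 (X 24 (x24))))))))))))))))))))) = Z (0, 0) (0, 0) (x27 * x35, 0) (0, 0) (x27 * x32 * x33 + x27 * x39 + x29 * x37 + x31 * x35 + x32 * x34, x31 * x35 ^ 2 + x32 * x41) (x29 * x35 + x32 * x33, x24 * x37 ^ 2 + x27 ^ 2 * x32 * x33 ^ 2 + x27 ^ 2 * x43 + x31 * x41 + x32 * x34 ^ 2) (0, 0) (x24 * x35 * x37 + x27 * x32 * x33 ^ 2 + x27 * x33 * x39 + x27 * x35 * x36 + x27 * x43 + x29 * x41 + x32 * x33 * x34 + x33 * x40 + x34 * x39 + x35 * x38 + x36 * x37, x24 * x31 * x35 ^ 2 + x24 * x46 + x29 ^ 2 * x41 + x31 * x32 * x33 ^ 2 + x31 * x43 + x32 * x42) (x24 * x37 + x27 * x29 * x33 + x27 * x36 + x29 * x34 + x31 * x33, x24 * x35 ^ 2 + x32 * x33 ^ 2) (x27 * x33, 0) (x24 * x35 + x29 * x33, x24 * x41 + x31 * x33 ^ 2) (0, 0) := by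
    unfold Z
    normX
  have e' := Z_inj (e.symm.trans (h.trans one_Z))
  obtain ⟨-, -, e2, -, -, -, -, -, -, e9, -, -⟩ := e'
  have z35 : x35 = 0 := zero_of (congrArg Prod.fst e2) fun hx35 =>
    (mul_ne_zero hx27 hx35)
  have z33 : x33 = 0 := zero_of (congrArg Prod.fst e9) fun hx33 =>
    (mul_ne_zero hx27 hx33)
  subst z35 z33
  simp only [X_zero, one_mul, mul_one] at h ⊢
  exact n284 hx27 hx24 h

lemma n286 {x27 x37 x32 x35 x31 x40 x46 x39 x45 x29 x41 x44 x47 x38 x43 x34 x36 x42 x33 x24 : K} (hx24 : x24 ≠ 0)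
    (h : (X 27 (x27) * (X 37 (x37) * (X 32 (x32) * (X 35 (x35) * (X 31 (x31) * (X 40 (x40) * (X 46 (x46) * (X 39 (x39) * (X 45 (x45) * (X 29 (x29) * (X 41 (x41) * (X 44 (x44) * (X 47 (x47) * (X 38 (x38) * (X 43 (x43) * (X 34 (x34) * (X 36 (x36) * (X 42 (x42) * (X 33 (x33) * (X 24 (x24))))))))))))))))))))) * (X 27 (x27) * (X 37 (x37) * (X 32 (x32) * (X 35 (x35) * (X 31 (x31) * (X 40 (x40) * (X 46 (x46) * (X 39 (x39) * (X 45 (x45) * (X 29 (x29) * (X 41 (x41) * (X 44 (x44) * (X 47 (x47) * (X 38 (x38) * (X 43 (x43) * (X 34 (x34) * (X 36 (x36) * (X 42 (x42) * (X 33 (x33) * (X 24 (x24))))))))))))))))))))) = 1) :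
    Rch (X 27 (x27) * (X 37 (x37) * (X 32 (x32) * (X 35 (x35) * (X 31 (x31) * (X 40 (x40) * (X 46 (x46) * (X 39 (x39) * (X 45 (x45) * (X 29 (x29) * (X 41 (x41) * (X 44 (x44) * (X 47 (x47) * (X 38 (x38) * (X 43 (x43) * (X 34 (x34) * (X 36 (x36) * (X 42 (x42) * (X 33 (x33) * (X 24 (x24))))))))))))))))))))) := by
  rcases eq_or_ne x27 0 with rfl | hx27
  · simp only [X_zero, one_mul, mul_one] at h ⊢
    exact n266 hx24 h
  · exact n285 hx27 hx24 h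

lemma n287 {x27 x30 x37 x32 x35 x31 x40 x46 x39 x45 x29 x41 x44 x47 x38 x43 x34 x36 x42 x33 x24 : K} (hx24 : x24 ≠ 0)
    (h : (X 27 (x27) * (X 30 (x30) * (X 37 (x37) * (X 32 (x32) * (X 35 (x35) * (X 31 (x31) * (X 40 (x40) * (X 46 (x46) * (X 39 (x39) * (X 45 (x45) * (X 29 (x29) * (X 41 (x41) * (X 44 (x44) * (X 47 (x47) * (X 38 (x38) * (X 43 (x43) * (X 34 (x34) * (X 36 (x36) * (X 42 (x42) * (X 33 (x33) * (X 24 (x24)))))))))))))))))))))) * (X 27 (x27) * (X 30 (x30) * (X 37 (x37) * (X 32 (x32) * (X 35 (x35) * (X 31 (x31) * (X 40 (x40) * (X 46 (x46) * (X 39 (x39) * (X 45 (x45) * (X 29 (x29) * (X 41 (x41) * (X 44 (x44) * (X 47 (x47) * (X 38 (x38) * (X 43 (x43) * (X 34 (x34) * (X 36 (x36) * (X 42 (x42) * (X 33 (x33) * (X 24 (x24)))))))))))))))))))))) = 1) :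
    Rch (X 27 (x27) * (X 30 (x30) * (X 37 (x37) * (X 32 (x32) * (X 35 (x35) * (X 31 (x31) * (X 40 (x40) * (X 46 (x46) * (X 39 (x39) * (X 45 (x45) * (X 29 (x29) * (X 41 (x41) * (X 44 (x44) * (X 47 (x47) * (X 38 (x38) * (X 43 (x43) * (X 34 (x34) * (X 36 (x36) * (X 42 (x42) * (X 33 (x33) * (X 24 (x24)))))))))))))))))))))) := by
  have e : (X 27 (x27) * (X 30 (x30) * (X 37 (x37) * (X 32 (x32) * (X 35 (x35) * (X 31 (x31) * (X 40 (x40) * (X 46 (x46) * (X 39 (x39) * (X 45 (x45) * (X 29 (x29) * (X 41 (x41) * (X 44 (x44) * (X 47 (x47) * (X 38 (x38) * (X 43 (x43) * (X 34 (x34) * (X 36 (x36) * (X 42 (x42) * (X 33 (x33) * (X 24 (x24)))))))))))))))))))))) * (X 27 (x27) * (X 30 (x30) * (X 37 (x37) * (X 32 (x32) * (X 35 (x35) * (X 31 (x31) * (X 40 (x40) * (X 46 (x46) * (X 39 (x39) * (X 45 (x45) * (X 29 (x29) * (X 41 (x41) * (X 44 (x44) * (X 47 (x47) * (X 38 (x38) * (X 43 (x43) * (X 34 (x34)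 * (X 36 (x36) * (X 42 (x42) * (X 33 (x33) * (X 24 (x24)))))))))))))))))))))) = Z (0, 0) (0, 0) (x27 * x35 + x30 * x33, 0) (0, x24 * x30) (x24 * x30 * x35 + x27 * x32 * x33 + x27 * x39 + x29 * x30 * x33 + x29 * x37 + x30 * x36 + x31 * x35 + x32 * x34, x24 * x30 * x35 ^ 2 + x30 * x32 * x33 ^ 2 + x30 * x43 + x31 * x35 ^ 2 + x32 * x41) (x29 * x35 + x32 * x33, x24 * x30 * x41 + x24 * x30 ^ 2 * x33 ^ 2 + x24 * x37 ^ 2 + x27 ^ 2 * x32 * x33 ^ 2 + x27 ^ 2 * x43 + x30 * x31 * x33 ^ 2 + x30 * x42 + x31 * x41 + x32 * x34 ^ 2) (0, x30 * x33 ^ 2) (x24 * x30 * x33 * x35 + x24 * x35 * x37 + x27 * x32 * x33 ^ 2 + x27 * x33 * x39 + x27 * x35 * x36 + x27 * x43 + x29 * x30 * x33 ^ 2 + x29 * x41 + x30 * x33 * x36 + x32 * x33 * x34 + x33 * x40 + x34 * x39 + x35 * x38 + x36 * x37, x24 * x30 * x32 * x33 ^ 2 + x24 * x30 * x43 + x24 * x31 * x35 ^ 2 + x24 * x46 + x29 ^ 2 * x30 * x33 ^ 2 + x29 ^ 2 * x41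 + x30 * x36 ^ 2 + x31 * x32 * x33 ^ 2 + x31 * x43 + x32 * x42) (x24 * x30 * x33 + x24 * x37 + x27 * x29 * x33 + x27 * x36 + x29 * x34 + x31 * x33, x24 * x35 ^ 2 + x32 * x33 ^ 2) (x27 * x33, 0) (x24 * x35 + x29 * x33, x24 * x30 * x33 ^ 2 + x24 * x41 + x31 * x33 ^ 2) (0, 0) := by
    unfold Z
    normX
  have e' := Z_inj (e.symm.trans (h.trans one_Z))
  obtain ⟨-, -, -, e3, -, -, -, -, -, -, -, -⟩ := e'
  have z30 : x30 = 0 := zero_of (congrArg Prod.snd e3) fun hx30 =>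
    (mul_ne_zero hx24 hx30)
  subst z30
  simp only [X_zero, one_mul, mul_one] at h ⊢
  exact n286 hx24 h

end CfsgLib.Chev.F4Inv
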