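/-
Reduction of the involutions in the unipotent subgroup of type F4: cases, part 6.
-/
import Cfsg.Agent.Lib.Chev.F4Invol.Red5

set_option autoImplicit false
set_option maxRecDepth 100000
set_option maxHeartbeats 4000000
set_option linter.unusedSimpArgs false
set_option linter.unusedVariables false
set_option linter.unusedSectionVars false

namespace CfsgLib.Chev.F4Inv

open Cfsg.Lie Matrix CfsgLib.Chev CfsgLib.Chev.F42Invol

variable {K : Type*} [Field K] [CharP K 2] [Fintype K]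

local notation "g₄" => stdF4.good

lemma n288 {x27 x30 x37 x32 x35 x31 x40 x46 x39 x45 x29 x41 x44 x47 x38 x43 x34 x36 x42 x33 x24 : K}
    (h : (X 27 (x27) * (X 30 (x30) * (X 37 (x37) * (X 32 (x32) * (X 35 (x35) * (X 31 (x31) * (X 40 (x40) * (X 46 (x46) * (X 39 (x39) * (X 45 (x45) * (X 29 (x29) * (X 41 (x41) * (X 44 (x44) * (X 47 (x47) * (X 38 (x38) * (X 43 (x43) * (X 34 (x34) * (X 36 (x36) * (X 42 (x42) * (X 33 (x33) * (X 24 (x24)))))))))))))))))))))) * (X 27 (x27) * (X 30 (x30) * (X 37 (x37) * (X 32 (x32) * (X 35 (x35) * (X 31 (x31) * (X 40 (x40) * (X 46 (x46) * (X 39 (x39) * (X 45 (x45) * (X 29 (x29) * (X 41 (x41) * (X 44 (x44) * (X 47 (x47) * (X 38 (x38) * (X 43 (x43) * (X 34 (x34) * (X 36 (x36) * (X 42 (x42) * (X 33 (x33) * (X 24 (x24)))))))))))))))))))))) = 1) :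
    Rch (X 27 (x27) * (X 30 (x30) * (X 37 (x37) * (X 32 (x32) * (X 35 (x35) * (X 31 (x31) * (X 40 (x40) * (X 46 (x46) * (X 39 (x39) * (X 45 (x45) * (X 29 (x29) * (X 41 (x41) * (X 44 (x44) * (X 47 (x47) * (X 38 (x38) * (X 43 (x43) * (X 34 (x34) * (X 36 (x36) * (X 42 (x42) * (X 33 (x33) * (X 24 (x24)))))))))))))))))))))) := by
  rcases eq_or_ne x24 0 with rfl | hx24
  · simp only [X_zero, one_mul, mul_one] at h ⊢
    exact n244 h
  · exact n287 hx24 h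

lemma n289 {x37 x32 x35 x31 x40 x46 x39 x45 x29 x41 x44 x47 x38 x43 x34 x26 x36 x42 x33 x24 : K} (hx24 : x24 ≠ 0)
    (h : (X 37 (x37) * (X 32 (x32) * (X 35 (x35) * (X 31 (x31) * (X 40 (x40) * (X 46 (x46) * (X 39 (x39) * (X 45 (x45) * (X 29 (x29) * (X 41 (x41) * (X 44 (x44) * (X 47 (x47) * (X 38 (x38) * (X 43 (x43) * (X 34 (x34) * (X 26 (x26) * (X 36 (x36) * (X 42 (x42) * (X 33 (x33) * (X 24 (x24))))))))))))))))))))) * (X 37 (x37) * (X 32 (x32) * (X 35 (x35) * (X 31 (x31) * (X 40 (x40) * (X 46 (x46) * (X 39 (x39) * (X 45 (x45) * (X 29 (x29) * (X 41 (x41) * (X 44 (x44) * (X 47 (x47) * (X 38 (x38) * (X 43 (x43) * (X 34 (x34) * (X 26 (x26) * (X 36 (x36) * (X 42 (x42) * (X 33 (x33) * (X 24 (x24))))))))))))))))))))) = 1) :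
    Rch (X 37 (x37) * (X 32 (x32) * (X 35 (x35) * (X 31 (x31) * (X 40 (x40) * (X 46 (x46) * (X 39 (x39) * (X 45 (x45) * (X 29 (x29) * (X 41 (x41) * (X 44 (x44) * (X 47 (x47) * (X 38 (x38) * (X 43 (x43) * (X 34 (x34) * (X 26 (x26) * (X 36 (x36) * (X 42 (x42) * (X 33 (x33) * (X 24 (x24))))))))))))))))))))) := by
  obtain ⟨d, hd⟩ : ∃ d : K, (x24) * d = x26 :=
    exists_lin hx24 _
  have hw : (d * x24 + x26) = 0 := by linear_combination hd + (x26) * CharTwo.two_eq_zero (R := K)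
  have e : X 25 d * (X 37 (x37) * (X 32 (x32) * (X 35 (x35) * (X 31 (x31) * (X 40 (x40) * (X 46 (x46) * (X 39 (x39) * (X 45 (x45) * (X 29 (x29) * (X 41 (x41) * (X 44 (x44) * (X 47 (x47) * (X 38 (x38) * (X 43 (x43) * (X 34 (x34) * (X 26 (x26) * (X 36 (x36) * (X 42 (x42) * (X 33 (x33) * (X 24 (x24))))))))))))))))))))) * (X 25 d)⁻¹ = (X 37 (x37) * (X 32 (d * x31 + x32) * (X 35 (d * x34 + x35) * (X 31 (x31) * (X 40 (d * x31 * x34 + x40) * (X 46 (d * x45 + d ^ 2 * x31 * x34 ^ 2 + x46) * (X 39 (d * x29 * x34 + d * x38 + x39) * (X 45 (x45) * (X 29 (x29) * (X 41 (d * x34 ^ 2 + x41) * (X 44 (d * x34 * x38 + x44) * (X 47 (d * x38 ^ 2 + x47) * (X 38 (x38) * (X 43 (d * x42 + x43) * (X 34 (x34) * (X 26 (d * x24 + x26) * (X 36 (x36) * (X 42 (x42) * (X 33 (x33) * (X 24 (x24))))))))))))))))))))) := by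
    rw [inv_eq]
    normX
  rw [hw, X_zero] at e
  simp only [one_mul, mul_one] at e
  exact Rch.step (xG_mem_group g₄ 25 d) e h fun h' => n266 hx24 h'

lemma n290 {x37 x32 x35 x31 x40 x46 x39 x45 x29 x41 x44 x47 x38 x43 x34 x26 x36 x42 x33 x24 : K} (hx26 : x26 ≠ 0)
    (h : (X 37 (x37) * (X 32 (x32) * (X 35 (x35) * (X 31 (x31) * (X 40 (x40) * (X 46 (x46) * (X 39 (x39) * (X 45 (x45) * (X 29 (x29) * (X 41 (x41) * (X 44 (x44) * (X 47 (x47) * (X 38 (x38) * (X 43 (x43) * (X 34 (x34) * (X 26 (x26) * (X 36 (x36) * (X 42 (x42) * (X 33 (x33) * (X 24 (x24))))))))))))))))))))) * (X 37 (x37) * (X 32 (x32) * (X 35 (x35) * (X 31 (x31) * (X 40 (x40) * (X 46 (x46) * (X 39 (x39) * (X 45 (x45) * (X 29 (x29) * (X 41 (x41) * (X 44 (x44) * (X 47 (x47) * (X 38 (x38) * (X 43 (x43) * (X 34 (x34) * (X 26 (x26) * (X 36 (x36) * (X 42 (x42) * (X 33 (x33) * (X 24 (x24))))))))))))))))))))) = 1) :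
    Rch (X 37 (x37) * (X 32 (x32) * (X 35 (x35) * (X 31 (x31) * (X 40 (x40) * (X 46 (x46) * (X 39 (x39) * (X 45 (x45) * (X 29 (x29) * (X 41 (x41) * (X 44 (x44) * (X 47 (x47) * (X 38 (x38) * (X 43 (x43) * (X 34 (x34) * (X 26 (x26) * (X 36 (x36) * (X 42 (x42) * (X 33 (x33) * (X 24 (x24))))))))))))))))))))) := by
  have e : nS K g₄ 2 * (X 37 (x37) * (X 32 (x32) * (X 35 (x35) * (X 31 (x31) * (X 40 (x40) * (X 46 (x46) * (X 39 (x39) * (X 45 (x45) * (X 29 (x29) * (X 41 (x41) * (X 44 (x44) * (X 47 (x47) * (X 38 (x38) * (X 43 (x43) * (X 34 (x34) * (X 26 (x26) * (X 36 (x36) * (X 42 (x42) * (X 33 (x33) * (X 24 (x24))))))))))))))))))))) * (nS K g₄ 2)⁻¹ = (X 37 (x37) * (X 32 (x31) * (X 35 (x34) * (X 31 (x32) * (X 40 (x31 * x35 + x32 * x34 + x40) * (X 46 (x32 * x34 ^ 2 + x45) * (X 39 (x29 * x34 + x38) * (X 45 (x31 * x35 ^ 2 + x46) * (X 29 (x29) * (X 41 (x41) * (X 44 (x29 * x34 * x35 +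 x34 * x39 + x35 * x38 + x44) * (X 47 (x47) * (X 38 (x29 * x35 + x39) * (X 43 (x42) * (X 34 (x35) * (X 26 (x24) * (X 36 (x36) * (X 42 (x43) * (X 33 (x33) * (X 24 (x26))))))))))))))))))))) := by
    rw [← MulAut.conj_apply]
    simp only [map_mul, conj_s (i := 2) (r := 37) (r' := 37) (by decide +kernel), conj_s (i := 2) (r := 32) (r' := 31) (by decide +kernel), conj_s (i := 2) (r := 35) (r' := 34) (by decide +kernel), conj_s (i := 2) (r := 31) (r' := 32) (by decide +kernel), conj_s (i := 2) (r := 40) (r' := 40) (by decide +kernel), conj_s (i := 2) (r := 46) (r' := 45) (by decide +kernel), conj_s (i := 2) (r := 39) (r' := 38) (by decide +kernel), conj_s (i := 2) (r := 45) (r' := 46) (by decide +kernel), conj_s (i := 2) (r := 29) (r' := 29) (by decide +kernel), conj_s (i := 2) (r := 41) (r' := 41) (by decide +kernel), conj_s (i := 2) (r := 44) (r' := 44) (by decide +kernel),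 conj_s (i := 2) (r := 47) (r' := 47) (by decide +kernel), conj_s (i := 2) (r := 38) (r' := 39) (by decide +kernel), conj_s (i := 2) (r := 43) (r' := 42) (by decide +kernel), conj_s (i := 2) (r := 34) (r' := 35) (by decide +kernel), conj_s (i := 2) (r := 26) (r' := 24) (by decide +kernel), conj_s (i := 2) (r := 36) (r' := 36) (by decide +kernel), conj_s (i := 2) (r := 42) (r' := 43) (by decide +kernel), conj_s (i := 2) (r := 33) (r' := 33) (by decide +kernel), conj_s (i := 2) (r := 24) (r' := 26) (by decide +kernel)]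
    all_goals normX
  exact Rch.step (nS_mem_group (by decide)) e h fun h' => n289 hx26 h'

lemma n291 {x27 x30 x37 x32 x35 x31 x40 x46 x39 x45 x29 x41 x44 x47 x38 x43 x34 x26 x36 x42 x33 x24 : K} (hx26 : x26 ≠ 0)
    (h : (X 27 (x27) * (X 30 (x30) * (X 37 (x37) * (X 32 (x32) * (X 35 (x35) * (X 31 (x31) * (X 40 (x40) * (X 46 (x46) * (X 39 (x39) * (X 45 (x45) * (X 29 (x29) * (X 41 (x41) * (X 44 (x44) * (X 47 (x47) * (X 38 (x38) * (X 43 (x43) * (X 34 (x34) * (X 26 (x26) * (X 36 (x36) * (X 42 (x42) * (X 33 (x33) * (X 24 (x24))))))))))))))))))))))) * (X 27 (x27) * (X 30 (x30) * (X 37 (x37) * (X 32 (x32) * (X 35 (x35) * (X 31 (x31) * (X 40 (x40) * (X 46 (x46) * (X 39 (x39) * (X 45 (x45) * (X 29 (x29) * (X 41 (x41) * (X 44 (x44) * (X 47 (x47) * (X 38 (x38) * (X 43 (x43) * (X 34 (x34) * (X 26 (x26) * (X 36 (x36) * (X 42 (x42) * (X 33 (x33) * (X 24 (x24))))))))))))))))))))))) = 1)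 :
    Rch (X 27 (x27) * (X 30 (x30) * (X 37 (x37) * (X 32 (x32) * (X 35 (x35) * (X 31 (x31) * (X 40 (x40) * (X 46 (x46) * (X 39 (x39) * (X 45 (x45) * (X 29 (x29) * (X 41 (x41) * (X 44 (x44) * (X 47 (x47) * (X 38 (x38) * (X 43 (x43) * (X 34 (x34) * (X 26 (x26) * (X 36 (x36) * (X 42 (x42) * (X 33 (x33) * (X 24 (x24))))))))))))))))))))))) := by
  have e : (X 27 (x27) * (X 30 (x30) * (X 37 (x37) * (X 32 (x32) * (X 35 (x35) * (X 31 (x31) * (X 40 (x40) * (X 46 (x46) * (X 39 (x39) * (X 45 (x45) * (X 29 (x29) * (X 41 (x41) * (X 44 (x44) * (X 47 (x47) * (X 38 (x38) * (X 43 (x43) * (X 34 (x34) * (X 26 (x26) * (X 36 (x36) * (X 42 (x42) * (X 33 (x33) * (X 24 (x24))))))))))))))))))))))) * (X 27 (x27) * (X 30 (x30) * (X 37 (x37) * (X 32 (x32) * (X 35 (x35) * (X 31 (x31) * (X 40 (x40) * (X 46 (x46) * (X 39 (x39) * (X 45 (x45) * (X 29 (x29) * (X 41 (x41) * (X 44 (x44) * (X 47 (x47) * (X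 38 (x38) * (X 43 (x43) * (X 34 (x34) * (X 26 (x26) * (X 36 (x36) * (X 42 (x42) * (X 33 (x33) * (X 24 (x24))))))))))))))))))))))) = Z (0, 0) (0, 0) (x27 * x35 + x30 * x33, x26 * x30) (0, x24 * x30 + x26 * x27 ^ 2) (x24 * x30 * x35 + x26 * x27 * x30 * x33 + x26 * x27 * x37 + x26 * x27 ^ 2 * x35 + x26 * x30 * x34 + x27 * x32 * x33 + x27 * x39 + x29 * x30 * x33 + x29 * x37 + x30 * x36 + x31 * x35 + x32 * x34, x24 * x30 * x35 ^ 2 + x26 * x27 ^ 2 * x35 ^ 2 + x26 * x30 * x41 + x26 * x30 ^ 2 * x33 ^ 2 + x26 * x37 ^ 2 + x30 * x32 * x33 ^ 2 + x30 * x43 + x31 * x35 ^ 2 + x32 * x41) (x26 * x27 * x35 + x26 * x30 * x33 + x26 * x37 + x29 * x35 + x32 * x33, x24 * x30 * x41 + x24 * x30 ^ 2 * x33 ^ 2 + x24 * x37 ^ 2 + x26 * x27 ^ 2 * x41 + x26 * x30 * x34 ^ 2 + x27 ^ 2 * x32 * x33 ^ 2 + x27 ^ 2 * x43 + x30 * x31 * x33 ^ 2 + x30 * x42 + x31 * x41 + x32 * x34 ^ 2) (x26 * x27, x30 * x33 ^ 2)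 (x24 * x30 * x33 * x35 + x24 * x35 * x37 + x26 * x27 * x34 * x35 + x26 * x27 * x41 + x26 * x30 * x33 * x34 + x26 * x34 * x37 + x27 * x32 * x33 ^ 2 + x27 * x33 * x39 + x27 * x35 * x36 + x27 * x43 + x29 * x30 * x33 ^ 2 + x29 * x41 + x30 * x33 * x36 + x32 * x33 * x34 + x33 * x40 + x34 * x39 + x35 * x38 + x36 * x37, x24 * x26 * x30 ^ 2 * x33 ^ 2 + x24 * x26 * x37 ^ 2 + x24 * x30 * x32 * x33 ^ 2 + x24 * x30 * x43 + x24 * x31 * x35 ^ 2 + x24 * x46 + x26 * x27 ^ 2 * x32 * x33 ^ 2 + x26 * x27 ^ 2 * x43 + x26 * x30 * x31 * x33 ^ 2 + x26 * x30 * x42 + x26 * x45 + x26 ^ 2 * x27 ^ 2 * x41 + x29 ^ 2 * x30 * x33 ^ 2 + x29 ^ 2 * x41 + x30 * x36 ^ 2 + x31 * x32 * x33 ^ 2 + x31 * x43 + x32 * x42) (x24 * x30 * x33 + x24 * x37 + x26 * x27 * x34 + x27 * x29 * x33 + x27 * x36 + x29 * x34 + x31 * x33, x24 * x35 ^ 2 + x26 * x30 * x33 ^ 2 + x26 * x41 + x32 * x33 ^ 2) (x27 * x33, 0) (x24 * x35 +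 x26 * x27 * x33 + x26 * x34 + x29 * x33, x24 * x30 * x33 ^ 2 + x24 * x41 + x26 * x27 ^ 2 * x33 ^ 2 + x26 * x34 ^ 2 + x31 * x33 ^ 2) (0, 0) := by
    unfold Z
    normX
  have e' := Z_inj (e.symm.trans (h.trans one_Z))
  obtain ⟨-, -, e2, -, -, -, e6, -, -, -, -, -⟩ := e'
  have z30 : x30 = 0 := zero_of (congrArg Prod.snd e2) fun hx30 =>
    (mul_ne_zero hx26 hx30)
  have z27 : x27 = 0 := zero_of (congrArg Prod.fst e6) fun hx27 =>
    (mul_ne_zero hx26 hx27)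
  subst z30 z27
  simp only [X_zero, one_mul, mul_one] at h ⊢
  exact n290 hx26 h

lemma n292 {x27 x30 x37 x32 x35 x31 x40 x46 x39 x45 x29 x41 x44 x47 x38 x43 x34 x26 x36 x42 x33 x24 : K}
    (h : (X 27 (x27) * (X 30 (x30) * (X 37 (x37) * (X 32 (x32) * (X 35 (x35) * (X 31 (x31) * (X 40 (x40) * (X 46 (x46) * (X 39 (x39) * (X 45 (x45) * (X 29 (x29) * (X 41 (x41) * (X 44 (x44) * (X 47 (x47) * (X 38 (x38) * (X 43 (x43) * (X 34 (x34) * (X 26 (x26) * (X 36 (x36) * (X 42 (x42) * (X 33 (x33) * (X 24 (x24))))))))))))))))))))))) * (X 27 (x27) * (X 30 (x30) * (X 37 (x37) * (X 32 (x32) * (X 35 (x35) * (X 31 (x31) * (X 40 (x40) * (X 46 (x46) * (X 39 (x39) * (X 45 (x45) * (X 29 (x29) * (X 41 (x41) * (X 44 (x44) * (X 47 (x47) * (X 38 (x38) * (X 43 (x43) * (X 34 (x34) * (X 26 (x26) * (X 36 (x36) * (X 42 (x42) * (X 33 (x33) * (X 24 (x24))))))))))))))))))))))) = 1) :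
    Rch (X 27 (x27) * (X 30 (x30) * (X 37 (x37) * (X 32 (x32) * (X 35 (x35) * (X 31 (x31) * (X 40 (x40) * (X 46 (x46) * (X 39 (x39) * (X 45 (x45) * (X 29 (x29) * (X 41 (x41) * (X 44 (x44) * (X 47 (x47) * (X 38 (x38) * (X 43 (x43) * (X 34 (x34) * (X 26 (x26) * (X 36 (x36) * (X 42 (x42) * (X 33 (x33) * (X 24 (x24))))))))))))))))))))))) := by
  rcases eq_or_ne x26 0 with rfl | hx26
  · simp only [X_zero, one_mul, mul_one] at h ⊢
    exact n288 h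
  · exact n291 hx26 h

lemma n293_2 {x46 x39 x45 x47 x43 x42 : K} (hx39 : x39 ≠ 0)
    (h : (X 46 (x46) * (X 39 (x39) * (X 45 (x45) * (X 47 (x47) * (X 43 (x43) * (X 42 (x42))))))) * (X 46 (x46) * (X 39 (x39) * (X 45 (x45) * (X 47 (x47) * (X 43 (x43) * (X 42 (x42))))))) = 1) :
    Rch (X 46 (x46) * (X 39 (x39) * (X 45 (x45) * (X 47 (x47) * (X 43 (x43) * (X 42 (x42))))))) := by
  have e : nS K g₄ 1 * (X 46 (x46) * (X 39 (x39) * (X 45 (x45) * (X 47 (x47) * (X 43 (x43) * (X 42 (x42))))))) * (nS K g₄ 1)⁻¹ = (X 40 (x39) * (X 46 (x46) * (X 45 (x43) * (X 47 (x47) * (X 43 (x45) * (X 42 (x42))))))) := by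
    rw [← MulAut.conj_apply]
    simp only [map_mul, conj_s (i := 1) (r := 46) (r' := 46) (by decide +kernel), conj_s (i := 1) (r := 39) (r' := 40) (by decide +kernel), conj_s (i := 1) (r := 45) (r' := 43) (by decide +kernel), conj_s (i := 1) (r := 47) (r' := 47) (by decide +kernel), conj_s (i := 1) (r := 43) (r' := 45) (by decide +kernel), conj_s (i := 1) (r := 42) (r' := 42) (by decide +kernel)]
    all_goals normX
  exact Rch.step (nS_mem_group (by decide)) e h fun h' => n45 hx39 h'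

lemma n293_1 {x46 x45 x47 x38 x43 x42 : K} (hx38 : x38 ≠ 0)
    (h : (X 46 (x46) * (X 45 (x45) * (X 47 (x47) * (X 38 (x38) * (X 43 (x43) * (X 42 (x42))))))) * (X 46 (x46) * (X 45 (x45) * (X 47 (x47) * (X 38 (x38) * (X 43 (x43) * (X 42 (x42))))))) = 1) :
    Rch (X 46 (x46) * (X 45 (x45) * (X 47 (x47) * (X 38 (x38) * (X 43 (x43) * (X 42 (x42))))))) := by
  have e : nS K g₄ 2 * (X 46 (x46) * (X 45 (x45) * (X 47 (x47) * (X 38 (x38) * (X 43 (x43) * (X 42 (x42))))))) * (nS K g₄ 2)⁻¹ = (X 46 (x45) * (X 39 (x38) * (X 45 (x46) * (X 47 (x47) * (X 43 (x42) * (X 42 (x43))))))) := by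
    rw [← MulAut.conj_apply]
    simp only [map_mul, conj_s (i := 2) (r := 46) (r' := 45) (by decide +kernel), conj_s (i := 2) (r := 45) (r' := 46) (by decide +kernel), conj_s (i := 2) (r := 47) (r' := 47) (by decide +kernel), conj_s (i := 2) (r := 38) (r' := 39) (by decide +kernel), conj_s (i := 2) (r := 43) (r' := 42) (by decide +kernel), conj_s (i := 2) (r := 42) (r' := 43) (by decide +kernel)]
    all_goals normX
  exact Rch.step (nS_mem_group (by decide)) e h fun h' => n293_2 hx38 h'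

lemma n293 {x46 x45 x47 x43 x36 x42 : K} (hx36 : x36 ≠ 0)
    (h : (X 46 (x46) * (X 45 (x45) * (X 47 (x47) * (X 43 (x43) * (X 36 (x36) * (X 42 (x42))))))) * (X 46 (x46) * (X 45 (x45) * (X 47 (x47) * (X 43 (x43) * (X 36 (x36) * (X 42 (x42))))))) = 1) :
    Rch (X 46 (x46) * (X 45 (x45) * (X 47 (x47) * (X 43 (x43) * (X 36 (x36) * (X 42 (x42))))))) := by
  have e : nS K g₄ 1 * (X 46 (x46) * (X 45 (x45) * (X 47 (x47) * (X 43 (x43) * (X 36 (x36) * (X 42 (x42))))))) * (nS K g₄ 1)⁻¹ = (X 46 (x46) * (X 45 (x43) * (X 47 (x47) * (X 38 (x36) * (X 43 (x45) * (X 42 (x42))))))) := by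
    rw [← MulAut.conj_apply]
    simp only [map_mul, conj_s (i := 1) (r := 46) (r' := 46) (by decide +kernel), conj_s (i := 1) (r := 45) (r' := 43) (by decide +kernel), conj_s (i := 1) (r := 47) (r' := 47) (by decide +kernel), conj_s (i := 1) (r := 43) (r' := 45) (by decide +kernel), conj_s (i := 1) (r := 36) (r' := 38) (by decide +kernel), conj_s (i := 1) (r := 42) (r' := 42) (by decide +kernel)]
    all_goals normX
  exact Rch.step (nS_mem_group (by decide)) e h fun h' => n293_1 hx36 h'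

lemma n294 {x32 x46 x45 x47 x43 x36 : K} (hx32 : x32 ≠ 0) (hx36 : x36 ≠ 0)
    (h : (X 32 (x32) * (X 46 (x46) * (X 45 (x45) * (X 47 (x47) * (X 43 (x43) * (X 36 (x36))))))) * (X 32 (x32) * (X 46 (x46) * (X 45 (x45) * (X 47 (x47) * (X 43 (x43) * (X 36 (x36))))))) = 1) :
    Rch (X 32 (x32) * (X 46 (x46) * (X 45 (x45) * (X 47 (x47) * (X 43 (x43) * (X 36 (x36))))))) := by
  have e : nS K g₄ 1 * (X 32 (x32) * (X 46 (x46) * (X 45 (x45) * (X 47 (x47) * (X 43 (x43) * (X 36 (x36))))))) * (nS K g₄ 1)⁻¹ = (X 32 (x32) * (X 46 (x46) * (X 45 (x43) * (X 47 (x47) * (X 38 (x36) * (X 43 (x45))))))) := by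
    rw [← MulAut.conj_apply]
    simp only [map_mul, conj_s (i := 1) (r := 32) (r' := 32) (by decide +kernel), conj_s (i := 1) (r := 46) (r' := 46) (by decide +kernel), conj_s (i := 1) (r := 45) (r' := 43) (by decide +kernel), conj_s (i := 1) (r := 47) (r' := 47) (by decide +kernel), conj_s (i := 1) (r := 43) (r' := 45) (by decide +kernel), conj_s (i := 1) (r := 36) (r' := 38) (by decide +kernel)]
    all_goals normX
  exact Rch.step (nS_mem_group (by decide)) e h fun h' => n268 hx32 hx36 h'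

lemma n295 {x32 x46 x45 x47 x43 x36 x42 : K} (hx32 : x32 ≠ 0) (hx36 : x36 ≠ 0)
    (h : (X 32 (x32) * (X 46 (x46) * (X 45 (x45) * (X 47 (x47) * (X 43 (x43) * (X 36 (x36) * (X 42 (x42)))))))) * (X 32 (x32) * (X 46 (x46) * (X 45 (x45) * (X 47 (x47) * (X 43 (x43) * (X 36 (x36) * (X 42 (x42)))))))) = 1) :
    Rch (X 32 (x32) * (X 46 (x46) * (X 45 (x45) * (X 47 (x47) * (X 43 (x43) * (X 36 (x36) * (X 42 (x42)))))))) := by
  have e : (X 32 (x32) * (X 46 (x46) * (X 45 (x45) * (X 47 (x47) * (X 43 (x43) * (X 36 (x36) * (X 42 (x42)))))))) * (X 32 (x32) * (X 46 (x46) * (X 45 (x45) * (X 47 (x47) * (X 43 (x43) * (X 36 (x36) * (X 42 (x42)))))))) = Z (0, 0) (0, 0) (0, 0) (0, 0) (0, 0) (0, 0) (0, 0) (0, x32 * x42) (0, 0) (0, 0) (0, 0) (0, 0) := by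
    unfold Z
    normX
  have e' := Z_inj (e.symm.trans (h.trans one_Z))
  obtain ⟨-, -, -, -, -, -, -, e7, -, -, -, -⟩ := e'
  have z42 : x42 = 0 := zero_of (congrArg Prod.snd e7) fun hx42 =>
    (mul_ne_zero hx32 hx42)
  subst z42
  simp only [X_zero, one_mul, mul_one] at h ⊢
  exact n294 hx32 hx36 h

lemma n296 {x32 x46 x45 x47 x43 x36 x42 : K} (hx36 : x36 ≠ 0)
    (h : (X 32 (x32) * (X 46 (x46) * (X 45 (x45) * (X 47 (x47) * (X 43 (x43) * (X 36 (x36) * (X 42 (x42)))))))) * (X 32 (x32) * (X 46 (x46) * (X 45 (x45) * (X 47 (x47) * (X 43 (x43) * (X 36 (x36) * (X 42 (x42)))))))) = 1) :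
    Rch (X 32 (x32) * (X 46 (x46) * (X 45 (x45) * (X 47 (x47) * (X 43 (x43) * (X 36 (x36) * (X 42 (x42)))))))) := by
  rcases eq_or_ne x32 0 with rfl | hx32
  · simp only [X_zero, one_mul, mul_one] at h ⊢
    exact n293 hx36 h
  · exact n295 hx32 hx36 h

lemma n297_1 {x32 x46 x45 x47 x43 x36 : K} (hx32 : x32 ≠ 0) (hx36 : x36 ≠ 0)
    (h : (X 32 (x32) * (X 46 (x46) * (X 45 (x45) * (X 47 (x47) * (X 43 (x43) * (X 36 (x36))))))) * (X 32 (x32) * (X 46 (x46) * (X 45 (x45) * (X 47 (x47) * (X 43 (x43) * (X 36 (x36))))))) = 1) :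
    Rch (X 32 (x32) * (X 46 (x46) * (X 45 (x45) * (X 47 (x47) * (X 43 (x43) * (X 36 (x36))))))) := by
  have e : nS K g₄ 1 * (X 32 (x32) * (X 46 (x46) * (X 45 (x45) * (X 47 (x47) * (X 43 (x43) * (X 36 (x36))))))) * (nS K g₄ 1)⁻¹ = (X 32 (x32) * (X 46 (x46) * (X 45 (x43) * (X 47 (x47) * (X 38 (x36) * (X 43 (x45))))))) := by
    rw [← MulAut.conj_apply]
    simp only [map_mul, conj_s (i := 1) (r := 32) (r' := 32) (by decide +kernel), conj_s (i := 1) (r := 46) (r' := 46) (by decide +kernel), conj_s (i := 1) (r := 45) (r' := 43) (by decide +kernel), conj_s (i := 1) (r := 47) (r' := 47) (by decide +kernel), conj_s (i := 1) (r := 43) (r' := 45) (by decide +kernel), conj_s (i := 1) (r := 36) (r' := 38) (by decide +kernel)]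
    all_goals normX
  exact Rch.step (nS_mem_group (by decide)) e h fun h' => n268 hx32 hx36 h'

lemma n297 {x31 x46 x45 x47 x36 x42 : K} (hx31 : x31 ≠ 0) (hx36 : x36 ≠ 0)
    (h : (X 31 (x31) * (X 46 (x46) * (X 45 (x45) * (X 47 (x47) * (X 36 (x36) * (X 42 (x42))))))) * (X 31 (x31) * (X 46 (x46) * (X 45 (x45) * (X 47 (x47) * (X 36 (x36) * (X 42 (x42))))))) = 1) :
    Rch (X 31 (x31) * (X 46 (x46) * (X 45 (x45) * (X 47 (x47) * (X 36 (x36) * (X 42 (x42))))))) := by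
  have e : nS K g₄ 2 * (X 31 (x31) * (X 46 (x46) * (X 45 (x45) * (X 47 (x47) * (X 36 (x36) * (X 42 (x42))))))) * (nS K g₄ 2)⁻¹ = (X 32 (x31) * (X 46 (x45) * (X 45 (x46) * (X 47 (x47) * (X 43 (x42) * (X 36 (x36))))))) := by
    rw [← MulAut.conj_apply]
    simp only [map_mul, conj_s (i := 2) (r := 31) (r' := 32) (by decide +kernel), conj_s (i := 2) (r := 46) (r' := 45) (by decide +kernel), conj_s (i := 2) (r := 45) (r' := 46) (by decide +kernel), conj_s (i := 2) (r := 47) (r' := 47) (by decide +kernel), conj_s (i := 2) (r := 36) (r' := 36) (by decide +kernel), conj_s (i := 2) (r := 42) (r' := 43) (by decide +kernel)]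
    all_goals normX
  exact Rch.step (nS_mem_group (by decide)) e h fun h' => n297_1 hx31 hx36 h'

lemma n298 {x31 x46 x45 x47 x43 x36 x42 : K} (hx31 : x31 ≠ 0) (hx36 : x36 ≠ 0)
    (h : (X 31 (x31) * (X 46 (x46) * (X 45 (x45) * (X 47 (x47) * (X 43 (x43) * (X 36 (x36) * (X 42 (x42)))))))) * (X 31 (x31) * (X 46 (x46) * (X 45 (x45) * (X 47 (x47) * (X 43 (x43) * (X 36 (x36) * (X 42 (x42)))))))) = 1) :
    Rch (X 31 (x31) * (X 46 (x46) * (X 45 (x45) * (X 47 (x47) * (X 43 (x43) * (X 36 (x36) * (X 42 (x42)))))))) := by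
  have e : (X 31 (x31) * (X 46 (x46) * (X 45 (x45) * (X 47 (x47) * (X 43 (x43) * (X 36 (x36) * (X 42 (x42)))))))) * (X 31 (x31) * (X 46 (x46) * (X 45 (x45) * (X 47 (x47) * (X 43 (x43) * (X 36 (x36) * (X 42 (x42)))))))) = Z (0, 0) (0, 0) (0, 0) (0, 0) (0, 0) (0, 0) (0, 0) (0, x31 * x43) (0, 0) (0, 0) (0, 0) (0, 0) := by
    unfold Z
    normX
  have e' := Z_inj (e.symm.trans (h.trans one_Z))
  obtain ⟨-, -, -, -, -, -, -, e7, -, -, -, -⟩ := e'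
  have z43 : x43 = 0 := zero_of (congrArg Prod.snd e7) fun hx43 =>
    (mul_ne_zero hx31 hx43)
  subst z43
  simp only [X_zero, one_mul, mul_one] at h ⊢
  exact n297 hx31 hx36 h

lemma n299 {x32 x31 x46 x45 x47 x43 x36 x42 : K} (hx31 : x31 ≠ 0) (hx36 : x36 ≠ 0)
    (h : (X 32 (x32) * (X 31 (x31) * (X 46 (x46) * (X 45 (x45) * (X 47 (x47) * (X 43 (x43) * (X 36 (x36) * (X 42 (x42))))))))) * (X 32 (x32) * (X 31 (x31) * (X 46 (x46) * (X 45 (x45) * (X 47 (x47) * (X 43 (x43) * (X 36 (x36) * (X 42 (x42))))))))) = 1) :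
    Rch (X 32 (x32) * (X 31 (x31) * (X 46 (x46) * (X 45 (x45) * (X 47 (x47) * (X 43 (x43) * (X 36 (x36) * (X 42 (x42))))))))) := by
  obtain ⟨d, hd⟩ : ∃ d : K, (x31) * d = x32 :=
    exists_lin hx31 _
  have hw : (d * x31 + x32) = 0 := by linear_combination hd + (x32) * CharTwo.two_eq_zero (R := K)
  have e : X 25 d * (X 32 (x32) * (X 31 (x31) * (X 46 (x46) * (X 45 (x45) * (X 47 (x47) * (X 43 (x43) * (X 36 (x36) * (X 42 (x42))))))))) * (X 25 d)⁻¹ = (X 32 (d * x31 + x32) * (X 31 (x31) * (X 46 (d * x45 + x46) * (X 45 (x45) * (X 47 (x47) * (X 43 (d * x42 + x43) * (X 36 (x36) * (X 42 (x42))))))))) := by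
    rw [inv_eq]
    normX
  rw [hw, X_zero] at e
  simp only [one_mul, mul_one] at e
  exact Rch.step (xG_mem_group g₄ 25 d) e h fun h' => n298 hx31 hx36 h'

lemma n300 {x32 x31 x46 x45 x47 x43 x36 x42 : K} (hx36 : x36 ≠ 0)
    (h : (X 32 (x32) * (X 31 (x31) * (X 46 (x46) * (X 45 (x45) * (X 47 (x47) * (X 43 (x43) * (X 36 (x36) * (X 42 (x42))))))))) * (X 32 (x32) * (X 31 (x31) * (X 46 (x46) * (X 45 (x45) * (X 47 (x47) * (X 43 (x43) * (X 36 (x36) * (X 42 (x42))))))))) = 1) :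
    Rch (X 32 (x32) * (X 31 (x31) * (X 46 (x46) * (X 45 (x45) * (X 47 (x47) * (X 43 (x43) * (X 36 (x36) * (X 42 (x42))))))))) := by
  rcases eq_or_ne x31 0 with rfl | hx31
  · simp only [X_zero, one_mul, mul_one] at h ⊢
    exact n296 hx36 h
  · exact n299 hx31 hx36 h

lemma n301 {x32 x31 x46 x45 x44 x47 x43 x36 x42 : K} (hx36 : x36 ≠ 0)
    (h : (X 32 (x32) * (X 31 (x31) * (X 46 (x46) * (X 45 (x45) * (X 44 (x44) * (X 47 (x47) * (X 43 (x43) * (X 36 (x36) * (X 42 (x42)))))))))) * (X 32 (x32) * (X 31 (x31) * (X 46 (x46) * (X 45 (x45) * (X 44 (x44) * (X 47 (x47) * (X 43 (x43) * (X 36 (x36) * (X 42 (x42)))))))))) = 1) :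
    Rch (X 32 (x32) * (X 31 (x31) * (X 46 (x46) * (X 45 (x45) * (X 44 (x44) * (X 47 (x47) * (X 43 (x43) * (X 36 (x36) * (X 42 (x42)))))))))) := by
  obtain ⟨d, hd⟩ : ∃ d : K, (x36) * d = x44 :=
    exists_lin hx36 _
  have hw : (d * x36 + x44) = 0 := by linear_combination hd + (x44) * CharTwo.two_eq_zero (R := K)
  have e : X 37 d * (X 32 (x32) * (X 31 (x31) * (X 46 (x46) * (X 45 (x45) * (X 44 (x44) * (X 47 (x47) * (X 43 (x43) * (X 36 (x36) * (X 42 (x42)))))))))) * (X 37 d)⁻¹ = (X 32 (x32) * (X 31 (x31) * (X 46 (x46) * (X 45 (x45) * (X 44 (d * x36 + x44) * (X 47 (x47) * (X 43 (x43) * (X 36 (x36) * (X 42 (x42)))))))))) := by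
    rw [inv_eq]
    normX
  rw [hw, X_zero] at e
  simp only [one_mul, mul_one] at e
  exact Rch.step (xG_mem_group g₄ 37 d) e h fun h' => n300 hx36 h'

lemma n302 {x32 x31 x40 x46 x45 x44 x47 x43 x36 x42 : K} (hx36 : x36 ≠ 0)
    (h : (X 32 (x32) * (X 31 (x31) * (X 40 (x40) * (X 46 (x46) * (X 45 (x45) * (X 44 (x44) * (X 47 (x47) * (X 43 (x43) * (X 36 (x36) * (X 42 (x42))))))))))) * (X 32 (x32) * (X 31 (x31) * (X 40 (x40) * (X 46 (x46) * (X 45 (x45) * (X 44 (x44) * (X 47 (x47) * (X 43 (x43) * (X 36 (x36) * (X 42 (x42))))))))))) = 1) :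
    Rch (X 32 (x32) * (X 31 (x31) * (X 40 (x40) * (X 46 (x46) * (X 45 (x45) * (X 44 (x44) * (X 47 (x47) * (X 43 (x43) * (X 36 (x36) * (X 42 (x42))))))))))) := by
  obtain ⟨d, hd⟩ : ∃ d : K, (x36) * d = x40 :=
    exists_lin hx36 _
  have hw : (d * x36 + x40) = 0 := by linear_combination hd + (x40) * CharTwo.two_eq_zero (R := K)
  have e : X 30 d * (X 32 (x32) * (X 31 (x31) * (X 40 (x40) * (X 46 (x46) * (X 45 (x45) * (X 44 (x44) * (X 47 (x47) * (X 43 (x43) * (X 36 (x36) * (X 42 (x42))))))))))) * (X 30 d)⁻¹ = (X 32 (x32) * (X 31 (x31) * (X 40 (d * x36 + x40) * (X 46 (d * x43 + x46) * (X 45 (d * x42 + x45) * (X 44 (x44) * (X 47 (d * x36 ^ 2 + x47) * (X 43 (x43) * (X 36 (x36) * (X 42 (x42))))))))))) := by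
    rw [inv_eq]
    normX
  rw [hw, X_zero] at e
  simp only [one_mul, mul_one] at e
  exact Rch.step (xG_mem_group g₄ 30 d) e h fun h' => n301 hx36 h'

lemma n303 {x32 x31 x40 x46 x39 x45 x44 x47 x43 x36 x42 : K} (hx36 : x36 ≠ 0)
    (h : (X 32 (x32) * (X 31 (x31) * (X 40 (x40) * (X 46 (x46) * (X 39 (x39) * (X 45 (x45) * (X 44 (x44) * (X 47 (x47) * (X 43 (x43) * (X 36 (x36) * (X 42 (x42)))))))))))) * (X 32 (x32) * (X 31 (x31) * (X 40 (x40) * (X 46 (x46) * (X 39 (x39) * (X 45 (x45) * (X 44 (x44) * (X 47 (x47) * (X 43 (x43) * (X 36 (x36) * (X 42 (x42)))))))))))) = 1) :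
    Rch (X 32 (x32) * (X 31 (x31) * (X 40 (x40) * (X 46 (x46) * (X 39 (x39) * (X 45 (x45) * (X 44 (x44) * (X 47 (x47) * (X 43 (x43) * (X 36 (x36) * (X 42 (x42)))))))))))) := by
  obtain ⟨d, hd⟩ : ∃ d : K, (x36) * d = x39 :=
    exists_lin hx36 _
  have hw : (d * x36 + x39) = 0 := by linear_combination hd + (x39) * CharTwo.two_eq_zero (R := K)
  have e : X 28 d * (X 32 (x32) * (X 31 (x31) * (X 40 (x40) * (X 46 (x46) * (X 39 (x39) * (X 45 (x45) * (X 44 (x44) * (X 47 (x47) * (X 43 (x43) * (X 36 (x36) * (X 42 (x42)))))))))))) * (X 28 d)⁻¹ = (X 32 (x32) * (X 31 (x31) * (X 40 (x40) * (X 46 (d ^ 2 * x42 + x46) * (X 39 (d * x36 + x39) * (X 45 (x45) * (X 44 (d * x42 + x44) * (X 47 (x47) * (X 43 (x43) * (X 36 (x36) * (X 42 (x42)))))))))))) := by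
    rw [inv_eq]
    normX
  rw [hw, X_zero] at e
  simp only [one_mul, mul_one] at e
  exact Rch.step (xG_mem_group g₄ 28 d) e h fun h' => n302 hx36 h'

lemma n304 {x32 x31 x40 x46 x39 x45 x44 x47 x38 x43 x36 x42 : K} (hx36 : x36 ≠ 0)
    (h : (X 32 (x32) * (X 31 (x31) * (X 40 (x40) * (X 46 (x46) * (X 39 (x39) * (X 45 (x45) * (X 44 (x44) * (X 47 (x47) * (X 38 (x38) * (X 43 (x43) * (X 36 (x36) * (X 42 (x42))))))))))))) * (X 32 (x32) * (X 31 (x31) * (X 40 (x40) * (X 46 (x46) * (X 39 (x39) * (X 45 (x45) * (X 44 (x44) * (X 47 (x47) * (X 38 (x38) * (X 43 (x43) * (X 36 (x36) * (X 42 (x42))))))))))))) = 1) :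
    Rch (X 32 (x32) * (X 31 (x31) * (X 40 (x40) * (X 46 (x46) * (X 39 (x39) * (X 45 (x45) * (X 44 (x44) * (X 47 (x47) * (X 38 (x38) * (X 43 (x43) * (X 36 (x36) * (X 42 (x42))))))))))))) := by
  obtain ⟨d, hd⟩ : ∃ d : K, (x36) * d = x38 :=
    exists_lin hx36 _
  have hw : (d * x36 + x38) = 0 := by linear_combination hd + (x38) * CharTwo.two_eq_zero (R := K)
  have e : X 27 d * (X 32 (x32) * (X 31 (x31) * (X 40 (x40) * (X 46 (x46) * (X 39 (x39) * (X 45 (x45) * (X 44 (x44) * (X 47 (x47) * (X 38 (x38) * (X 43 (x43) * (X 36 (x36) * (X 42 (x42))))))))))))) * (X 27 d)⁻¹ = (X 32 (x32) * (X 31 (x31) * (X 40 (d * x39 + x40) * (X 46 (x46) * (X 39 (x39) * (X 45 (d ^ 2 * x43 + x45) * (X 44 (d * x43 + x44) * (X 47 (x47) * (X 38 (d * x36 + x38) * (X 43 (x43) * (X 36 (x36) * (X 42 (x42))))))))))))) := by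
    rw [inv_eq]
    normX
  rw [hw, X_zero] at e
  simp only [one_mul, mul_one] at e
  exact Rch.step (xG_mem_group g₄ 27 d) e h fun h' => n303 hx36 h'

lemma n305 {x32 x31 x40 x46 x39 x45 x29 x44 x47 x38 x43 x42 : K} (hx29 : x29 ≠ 0)
    (h : (X 32 (x32) * (X 31 (x31) * (X 40 (x40) * (X 46 (x46) * (X 39 (x39) * (X 45 (x45) * (X 29 (x29) * (X 44 (x44) * (X 47 (x47) * (X 38 (x38) * (X 43 (x43) * (X 42 (x42))))))))))))) * (X 32 (x32) * (X 31 (x31) * (X 40 (x40) * (X 46 (x46) * (X 39 (x39) * (X 45 (x45) * (X 29 (x29) * (X 44 (x44) * (X 47 (x47) * (X 38 (x38) * (X 43 (x43) * (X 42 (x42))))))))))))) = 1) :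
    Rch (X 32 (x32) * (X 31 (x31) * (X 40 (x40) * (X 46 (x46) * (X 39 (x39) * (X 45 (x45) * (X 29 (x29) * (X 44 (x44) * (X 47 (x47) * (X 38 (x38) * (X 43 (x43) * (X 42 (x42))))))))))))) := by
  have e : nS K g₄ 0 * (X 32 (x32) * (X 31 (x31) * (X 40 (x40) * (X 46 (x46) * (X 39 (x39) * (X 45 (x45) * (X 29 (x29) * (X 44 (x44) * (X 47 (x47) * (X 38 (x38) * (X 43 (x43) * (X 42 (x42))))))))))))) * (nS K g₄ 0)⁻¹ = (X 32 (x43) * (X 31 (x42) * (X 40 (x44) * (X 46 (x46) * (X 39 (x39) * (X 45 (x45) * (X 44 (x40) * (X 47 (x31 * x43 + x32 * x42 + x47) * (X 38 (x38) * (X 43 (x32) * (X 36 (x29) * (X 42 (x31))))))))))))) := by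
    rw [← MulAut.conj_apply]
    simp only [map_mul, conj_s (i := 0) (r := 32) (r' := 43) (by decide +kernel), conj_s (i := 0) (r := 31) (r' := 42) (by decide +kernel), conj_s (i := 0) (r := 40) (r' := 44) (by decide +kernel), conj_s (i := 0) (r := 46) (r' := 46) (by decide +kernel), conj_s (i := 0) (r := 39) (r' := 39) (by decide +kernel), conj_s (i := 0) (r := 45) (r' := 45) (by decide +kernel), conj_s (i := 0) (r := 29) (r' := 36) (by decide +kernel), conj_s (i := 0) (r := 44) (r' := 40) (by decide +kernel), conj_s (i := 0) (r := 47) (r' := 47) (by decide +kernel), conj_s (i := 0) (r := 38) (r' := 38) (by decide +kernel), conj_s (i := 0) (r := 43) (r' := 32) (by decide +kernel), conj_s (i := 0) (r := 42) (r' := 31) (by decide +kernel)]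
    all_goals normX
  exact Rch.step (nS_mem_group (by decide)) e h fun h' => n304 hx29 h'

lemma n306 {x40 x46 x45 x44 x47 x43 : K} (hx40 : x40 ≠ 0) (hx43 : x43 ≠ 0)
    (h : (X 40 (x40) * (X 46 (x46) * (X 45 (x45) * (X 44 (x44) * (X 47 (x47) * (X 43 (x43))))))) * (X 40 (x40) * (X 46 (x46) * (X 45 (x45) * (X 44 (x44) * (X 47 (x47) * (X 43 (x43))))))) = 1) :
    Rch (X 40 (x40) * (X 46 (x46) * (X 45 (x45) * (X 44 (x44) * (X 47 (x47) * (X 43 (x43))))))) := by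
  obtain ⟨d, hd⟩ : ∃ d : K, (x43) * d = x44 :=
    exists_lin hx43 _
  have hw : (d * x43 + x44) = 0 := by linear_combination hd + (x44) * CharTwo.two_eq_zero (R := K)
  have e : X 27 d * (X 40 (x40) * (X 46 (x46) * (X 45 (x45) * (X 44 (x44) * (X 47 (x47) * (X 43 (x43))))))) * (X 27 d)⁻¹ = (X 40 (x40) * (X 46 (x46) * (X 45 (d ^ 2 * x43 + x45) * (X 44 (d * x43 + x44) * (X 47 (x47) * (X 43 (x43))))))) := by
    rw [inv_eq]
    normX
  rw [hw, X_zero] at e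
  simp only [one_mul, mul_one] at e
  exact Rch.step (xG_mem_group g₄ 27 d) e h fun h' => n32 hx40 hx43 h'

lemma n307 {x40 x46 x45 x44 x47 x42 : K} (hx40 : x40 ≠ 0) (hx42 : x42 ≠ 0)
    (h : (X 40 (x40) * (X 46 (x46) * (X 45 (x45) * (X 44 (x44) * (X 47 (x47) * (X 42 (x42))))))) * (X 40 (x40) * (X 46 (x46) * (X 45 (x45) * (X 44 (x44) * (X 47 (x47) * (X 42 (x42))))))) = 1) :
    Rch (X 40 (x40) * (X 46 (x46) * (X 45 (x45) * (X 44 (x44) * (X 47 (x47) * (X 42 (x42))))))) := by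
  have e : nS K g₄ 2 * (X 40 (x40) * (X 46 (x46) * (X 45 (x45) * (X 44 (x44) * (X 47 (x47) * (X 42 (x42))))))) * (nS K g₄ 2)⁻¹ = (X 40 (x40) * (X 46 (x45) * (X 45 (x46) * (X 44 (x44) * (X 47 (x47) * (X 43 (x42))))))) := by
    rw [← MulAut.conj_apply]
    simp only [map_mul, conj_s (i := 2) (r := 40) (r' := 40) (by decide +kernel), conj_s (i := 2) (r := 46) (r' := 45) (by decide +kernel), conj_s (i := 2) (r := 45) (r' := 46) (by decide +kernel), conj_s (i := 2) (r := 44) (r' := 44) (by decide +kernel), conj_s (i := 2) (r := 47) (r' := 47) (by decide +kernel), conj_s (i := 2) (r := 42) (r' := 43) (by decide +kernel)]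
    all_goals normX
  exact Rch.step (nS_mem_group (by decide)) e h fun h' => n306 hx40 hx42 h'

lemma n308 {x40 x46 x45 x44 x47 x43 x42 : K} (hx40 : x40 ≠ 0) (hx42 : x42 ≠ 0)
    (h : (X 40 (x40) * (X 46 (x46) * (X 45 (x45) * (X 44 (x44) * (X 47 (x47) * (X 43 (x43) * (X 42 (x42)))))))) * (X 40 (x40) * (X 46 (x46) * (X 45 (x45) * (X 44 (x44) * (X 47 (x47) * (X 43 (x43) * (X 42 (x42)))))))) = 1) :
    Rch (X 40 (x40) * (X 46 (x46) * (X 45 (x45) * (X 44 (x44) * (X 47 (x47) * (X 43 (x43) * (X 42 (x42)))))))) := by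
  obtain ⟨d, hd⟩ : ∃ d : K, (x42) * d = x43 :=
    exists_lin hx42 _
  have hw : (d * x42 + x43) = 0 := by linear_combination hd + (x43) * CharTwo.two_eq_zero (R := K)
  have e : X 25 d * (X 40 (x40) * (X 46 (x46) * (X 45 (x45) * (X 44 (x44) * (X 47 (x47) * (X 43 (x43) * (X 42 (x42)))))))) * (X 25 d)⁻¹ = (X 40 (x40) * (X 46 (d * x45 + x46) * (X 45 (x45) * (X 44 (x44) * (X 47 (x47) * (X 43 (d * x42 + x43) * (X 42 (x42)))))))) := by
    rw [inv_eq]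
    normX
  rw [hw, X_zero] at e
  simp only [one_mul, mul_one] at e
  exact Rch.step (xG_mem_group g₄ 25 d) e h fun h' => n307 hx40 hx42 h'

lemma n309 {x46 x39 x45 x44 x47 x43 x42 : K} (hx39 : x39 ≠ 0) (hx42 : x42 ≠ 0)
    (h : (X 46 (x46) * (X 39 (x39) * (X 45 (x45) * (X 44 (x44) * (X 47 (x47) * (X 43 (x43) * (X 42 (x42)))))))) * (X 46 (x46) * (X 39 (x39) * (X 45 (x45) * (X 44 (x44) * (X 47 (x47) * (X 43 (x43) * (X 42 (x42)))))))) = 1) :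
    Rch (X 46 (x46) * (X 39 (x39) * (X 45 (x45) * (X 44 (x44) * (X 47 (x47) * (X 43 (x43) * (X 42 (x42)))))))) := by
  have e : nS K g₄ 1 * (X 46 (x46) * (X 39 (x39) * (X 45 (x45) * (X 44 (x44) * (X 47 (x47) * (X 43 (x43) * (X 42 (x42)))))))) * (nS K g₄ 1)⁻¹ = (X 40 (x39) * (X 46 (x46) * (X 45 (x43) * (X 44 (x44) * (X 47 (x47) * (X 43 (x45) * (X 42 (x42)))))))) := by
    rw [← MulAut.conj_apply]
    simp only [map_mul, conj_s (i := 1) (r := 46) (r' := 46) (by decide +kernel), conj_s (i := 1) (r := 39) (r' := 40) (by decide +kernel), conj_s (i := 1) (r := 45) (r' := 43) (by decide +kernel), conj_s (i := 1) (r := 44) (r' := 44) (by decide +kernel), conj_s (i := 1) (r := 47) (r' := 47) (by decide +kernel), conj_s (i := 1) (r := 43) (r' := 45) (by decide +kernel), conj_s (i := 1) (r := 42) (r' := 42) (by decide +kernel)]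
    all_goals normX
  exact Rch.step (nS_mem_group (by decide)) e h fun h' => n308 hx39 hx42 h'

lemma n310 {x40 x46 x39 x45 x44 x47 x43 x42 : K} (hx39 : x39 ≠ 0) (hx42 : x42 ≠ 0)
    (h : (X 40 (x40) * (X 46 (x46) * (X 39 (x39) * (X 45 (x45) * (X 44 (x44) * (X 47 (x47) * (X 43 (x43) * (X 42 (x42))))))))) * (X 40 (x40) * (X 46 (x46) * (X 39 (x39) * (X 45 (x45) * (X 44 (x44) * (X 47 (x47) * (X 43 (x43) * (X 42 (x42))))))))) = 1) :
    Rch (X 40 (x40) * (X 46 (x46) * (X 39 (x39) * (X 45 (x45) * (X 44 (x44) * (X 47 (x47) * (X 43 (x43) * (X 42 (x42))))))))) := by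
  obtain ⟨d, hd⟩ : ∃ d : K, (x39) * d = x40 :=
    exists_lin hx39 _
  have hw : (d * x39 + x40) = 0 := by linear_combination hd + (x40) * CharTwo.two_eq_zero (R := K)
  have e : X 27 d * (X 40 (x40) * (X 46 (x46) * (X 39 (x39) * (X 45 (x45) * (X 44 (x44) * (X 47 (x47) * (X 43 (x43) * (X 42 (x42))))))))) * (X 27 d)⁻¹ = (X 40 (d * x39 + x40) * (X 46 (x46) * (X 39 (x39) * (X 45 (d ^ 2 * x43 + x45) * (X 44 (d * x43 + x44) * (X 47 (x47) * (X 43 (x43) * (X 42 (x42))))))))) := by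
    rw [inv_eq]
    normX
  rw [hw, X_zero] at e
  simp only [one_mul, mul_one] at e
  exact Rch.step (xG_mem_group g₄ 27 d) e h fun h' => n309 hx39 hx42 h'

lemma n311 {x40 x46 x39 x45 x41 x44 x47 x43 : K} (hx39 : x39 ≠ 0) (hx41 : x41 ≠ 0)
    (h : (X 40 (x40) * (X 46 (x46) * (X 39 (x39) * (X 45 (x45) * (X 41 (x41) * (X 44 (x44) * (X 47 (x47) * (X 43 (x43))))))))) * (X 40 (x40) * (X 46 (x46) * (X 39 (x39) * (X 45 (x45) * (X 41 (x41) * (X 44 (x44) * (X 47 (x47) * (X 43 (x43))))))))) = 1) :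
    Rch (X 40 (x40) * (X 46 (x46) * (X 39 (x39) * (X 45 (x45) * (X 41 (x41) * (X 44 (x44) * (X 47 (x47) * (X 43 (x43))))))))) := by
  have e : nS K g₄ 3 * (X 40 (x40) * (X 46 (x46) * (X 39 (x39) * (X 45 (x45) * (X 41 (x41) * (X 44 (x44) * (X 47 (x47) * (X 43 (x43))))))))) * (nS K g₄ 3)⁻¹ = (X 40 (x40) * (X 46 (x47) * (X 39 (x39) * (X 45 (x45) * (X 44 (x44) * (X 47 (x46) * (X 43 (x43) * (X 42 (x41))))))))) := by
    rw [← MulAut.conj_apply]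
    simp only [map_mul, conj_s (i := 3) (r := 40) (r' := 40) (by decide +kernel), conj_s (i := 3) (r := 46) (r' := 47) (by decide +kernel), conj_s (i := 3) (r := 39) (r' := 39) (by decide +kernel), conj_s (i := 3) (r := 45) (r' := 45) (by decide +kernel), conj_s (i := 3) (r := 41) (r' := 42) (by decide +kernel), conj_s (i := 3) (r := 44) (r' := 44) (by decide +kernel), conj_s (i := 3) (r := 47) (r' := 46) (by decide +kernel), conj_s (i := 3) (r := 43) (r' := 43) (by decide +kernel)]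
    all_goals normX
  exact Rch.step (nS_mem_group (by decide)) e h fun h' => n310 hx39 hx41 h'

lemma n312 {x40 x46 x39 x45 x41 x44 x47 x43 x42 : K} (hx39 : x39 ≠ 0) (hx41 : x41 ≠ 0)
    (h : (X 40 (x40) * (X 46 (x46) * (X 39 (x39) * (X 45 (x45) * (X 41 (x41) * (X 44 (x44) * (X 47 (x47) * (X 43 (x43) * (X 42 (x42)))))))))) * (X 40 (x40) * (X 46 (x46) * (X 39 (x39) * (X 45 (x45) * (X 41 (x41) * (X 44 (x44) * (X 47 (x47) * (X 43 (x43) * (X 42 (x42)))))))))) = 1) :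
    Rch (X 40 (x40) * (X 46 (x46) * (X 39 (x39) * (X 45 (x45) * (X 41 (x41) * (X 44 (x44) * (X 47 (x47) * (X 43 (x43) * (X 42 (x42)))))))))) := by
  obtain ⟨d, hd⟩ : ∃ d : K, (x41) * d = x42 :=
    exists_lin hx41 _
  have hw : (d * x41 + x42) = 0 := by linear_combination hd + (x42) * CharTwo.two_eq_zero (R := K)
  have e : X 24 d * (X 40 (x40) * (X 46 (x46) * (X 39 (x39) * (X 45 (x45) * (X 41 (x41) * (X 44 (x44) * (X 47 (x47) * (X 43 (x43) * (X 42 (x42)))))))))) * (X 24 d)⁻¹ = (X 40 (x40) * (X 46 (x46) * (X 39 (x39) * (X 45 (x45) * (X 41 (x41) * (X 44 (x44) * (X 47 (d * x46 + x47) * (X 43 (x43) * (X 42 (d * x41 + x42)))))))))) := by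
    rw [inv_eq]
    normX
  rw [hw, X_zero] at e
  simp only [one_mul, mul_one] at e
  exact Rch.step (xG_mem_group g₄ 24 d) e h fun h' => n311 hx39 hx41 h'

lemma n313 {x40 x46 x45 x41 x44 x47 x38 x43 x42 : K} (hx41 : x41 ≠ 0) (hx38 : x38 ≠ 0)
    (h : (X 40 (x40) * (X 46 (x46) * (X 45 (x45) * (X 41 (x41) * (X 44 (x44) * (X 47 (x47) * (X 38 (x38) * (X 43 (x43) * (X 42 (x42)))))))))) * (X 40 (x40) * (X 46 (x46) * (X 45 (x45) * (X 41 (x41) * (X 44 (x44) * (X 47 (x47) * (X 38 (x38) * (X 43 (x43) * (X 42 (x42)))))))))) = 1) :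
    Rch (X 40 (x40) * (X 46 (x46) * (X 45 (x45) * (X 41 (x41) * (X 44 (x44) * (X 47 (x47) * (X 38 (x38) * (X 43 (x43) * (X 42 (x42)))))))))) := by
  have e : nS K g₄ 2 * (X 40 (x40) * (X 46 (x46) * (X 45 (x45) * (X 41 (x41) * (X 44 (x44) * (X 47 (x47) * (X 38 (x38) * (X 43 (x43) * (X 42 (x42)))))))))) * (nS K g₄ 2)⁻¹ = (X 40 (x40) * (X 46 (x45) * (X 39 (x38) * (X 45 (x46) * (X 41 (x41) * (X 44 (x44) * (X 47 (x47) * (X 43 (x42) * (X 42 (x43)))))))))) := by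
    rw [← MulAut.conj_apply]
    simp only [map_mul, conj_s (i := 2) (r := 40) (r' := 40) (by decide +kernel), conj_s (i := 2) (r := 46) (r' := 45) (by decide +kernel), conj_s (i := 2) (r := 45) (r' := 46) (by decide +kernel), conj_s (i := 2) (r := 41) (r' := 41) (by decide +kernel), conj_s (i := 2) (r := 44) (r' := 44) (by decide +kernel), conj_s (i := 2) (r := 47) (r' := 47) (by decide +kernel), conj_s (i := 2) (r := 38) (r' := 39) (by decide +kernel), conj_s (i := 2) (r := 43) (r' := 42) (by decide +kernel), conj_s (i := 2) (r := 42) (r' := 43) (by decide +kernel)]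
    all_goals normX
  exact Rch.step (nS_mem_group (by decide)) e h fun h' => n312 hx38 hx41 h'

lemma n314 {x40 x46 x39 x45 x41 x44 x47 x38 x43 x42 : K} (hx41 : x41 ≠ 0) (hx38 : x38 ≠ 0)
    (h : (X 40 (x40) * (X 46 (x46) * (X 39 (x39) * (X 45 (x45) * (X 41 (x41) * (X 44 (x44) * (X 47 (x47) * (X 38 (x38) * (X 43 (x43) * (X 42 (x42))))))))))) * (X 40 (x40) * (X 46 (x46) * (X 39 (x39) * (X 45 (x45) * (X 41 (x41) * (X 44 (x44) * (X 47 (x47) * (X 38 (x38) * (X 43 (x43) * (X 42 (x42))))))))))) = 1) :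
    Rch (X 40 (x40) * (X 46 (x46) * (X 39 (x39) * (X 45 (x45) * (X 41 (x41) * (X 44 (x44) * (X 47 (x47) * (X 38 (x38) * (X 43 (x43) * (X 42 (x42))))))))))) := by
  obtain ⟨d, hd⟩ : ∃ d : K, (x38) * d = x39 :=
    exists_lin hx38 _
  have hw : (d * x38 + x39) = 0 := by linear_combination hd + (x39) * CharTwo.two_eq_zero (R := K)
  have e : X 25 d * (X 40 (x40) * (X 46 (x46) * (X 39 (x39) * (X 45 (x45) * (X 41 (x41) * (X 44 (x44) * (X 47 (x47) * (X 38 (x38) * (X 43 (x43) * (X 42 (x42))))))))))) * (X 25 d)⁻¹ = (X 40 (x40) * (X 46 (d * x45 + x46) * (X 39 (d * x38 + x39) * (X 45 (x45) * (X 41 (x41) * (X 44 (x44) * (X 47 (d * x38 ^ 2 + x47) * (X 38 (x38) * (X 43 (d * x42 + x43) * (X 42 (x42))))))))))) := by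
    rw [inv_eq]
    normX
  rw [hw, X_zero] at e
  simp only [one_mul, mul_one] at e
  exact Rch.step (xG_mem_group g₄ 25 d) e h fun h' => n313 hx41 hx38 h'

lemma n315 {x40 x46 x39 x45 x41 x44 x47 x43 x36 x42 : K} (hx41 : x41 ≠ 0) (hx36 : x36 ≠ 0)
    (h : (X 40 (x40) * (X 46 (x46) * (X 39 (x39) * (X 45 (x45) * (X 41 (x41) * (X 44 (x44) * (X 47 (x47) * (X 43 (x43) * (X 36 (x36) * (X 42 (x42))))))))))) * (X 40 (x40) * (X 46 (x46) * (X 39 (x39) * (X 45 (x45) * (X 41 (x41) * (X 44 (x44) * (X 47 (x47) * (X 43 (x43) * (X 36 (x36) * (X 42 (x42))))))))))) = 1) :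
    Rch (X 40 (x40) * (X 46 (x46) * (X 39 (x39) * (X 45 (x45) * (X 41 (x41) * (X 44 (x44) * (X 47 (x47) * (X 43 (x43) * (X 36 (x36) * (X 42 (x42))))))))))) := by
  have e : nS K g₄ 1 * (X 40 (x40) * (X 46 (x46) * (X 39 (x39) * (X 45 (x45) * (X 41 (x41) * (X 44 (x44) * (X 47 (x47) * (X 43 (x43) * (X 36 (x36) * (X 42 (x42))))))))))) * (nS K g₄ 1)⁻¹ = (X 40 (x39) * (X 46 (x46) * (X 39 (x40) * (X 45 (x43) * (X 41 (x41) * (X 44 (x44) * (X 47 (x47) * (X 38 (x36) * (X 43 (x45) * (X 42 (x42))))))))))) := by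
    rw [← MulAut.conj_apply]
    simp only [map_mul, conj_s (i := 1) (r := 40) (r' := 39) (by decide +kernel), conj_s (i := 1) (r := 46) (r' := 46) (by decide +kernel), conj_s (i := 1) (r := 39) (r' := 40) (by decide +kernel), conj_s (i := 1) (r := 45) (r' := 43) (by decide +kernel), conj_s (i := 1) (r := 41) (r' := 41) (by decide +kernel), conj_s (i := 1) (r := 44) (r' := 44) (by decide +kernel), conj_s (i := 1) (r := 47) (r' := 47) (by decide +kernel), conj_s (i := 1) (r := 43) (r' := 45) (by decide +kernel), conj_s (i := 1) (r := 36) (r' := 38) (by decide +kernel), conj_s (i := 1) (r := 42) (r' := 42) (by decide +kernel)]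
    all_goals normX
  exact Rch.step (nS_mem_group (by decide)) e h fun h' => n314 hx41 hx36 h'

lemma n316 {x40 x46 x39 x45 x41 x44 x47 x38 x43 x36 x42 : K} (hx41 : x41 ≠ 0) (hx36 : x36 ≠ 0)
    (h : (X 40 (x40) * (X 46 (x46) * (X 39 (x39) * (X 45 (x45) * (X 41 (x41) * (X 44 (x44) * (X 47 (x47) * (X 38 (x38) * (X 43 (x43) * (X 36 (x36) * (X 42 (x42)))))))))))) * (X 40 (x40) * (X 46 (x46) * (X 39 (x39) * (X 45 (x45) * (X 41 (x41) * (X 44 (x44) * (X 47 (x47) * (X 38 (x38) * (X 43 (x43) * (X 36 (x36) * (X 42 (x42)))))))))))) = 1) :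
    Rch (X 40 (x40) * (X 46 (x46) * (X 39 (x39) * (X 45 (x45) * (X 41 (x41) * (X 44 (x44) * (X 47 (x47) * (X 38 (x38) * (X 43 (x43) * (X 36 (x36) * (X 42 (x42)))))))))))) := by
  obtain ⟨d, hd⟩ : ∃ d : K, (x36) * d = x38 :=
    exists_lin hx36 _
  have hw : (d * x36 + x38) = 0 := by linear_combination hd + (x38) * CharTwo.two_eq_zero (R := K)
  have e : X 27 d * (X 40 (x40) * (X 46 (x46) * (X 39 (x39) * (X 45 (x45) * (X 41 (x41) * (X 44 (x44) * (X 47 (x47) * (X 38 (x38) * (X 43 (x43) * (X 36 (x36) * (X 42 (x42)))))))))))) * (X 27 d)⁻¹ = (X 40 (d * x39 + x40) * (X 46 (x46) * (X 39 (x39) * (X 45 (d ^ 2 * x43 + x45) * (X 41 (x41) * (X 44 (d * x43 + x44) * (X 47 (x47) * (X 38 (d * x36 + x38) * (X 43 (x43) * (X 36 (x36) * (X 42 (x42)))))))))))) := by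
    rw [inv_eq]
    normX
  rw [hw, X_zero] at e
  simp only [one_mul, mul_one] at e
  exact Rch.step (xG_mem_group g₄ 27 d) e h fun h' => n315 hx41 hx36 h'

lemma n317 {x30 x32 x31 x40 x46 x39 x45 x29 x44 x47 x38 : K} (hx30 : x30 ≠ 0) (hx29 : x29 ≠ 0)
    (h : (X 30 (x30) * (X 32 (x32) * (X 31 (x31) * (X 40 (x40) * (X 46 (x46) * (X 39 (x39) * (X 45 (x45) * (X 29 (x29) * (X 44 (x44) * (X 47 (x47) * (X 38 (x38)))))))))))) * (X 30 (x30) * (X 32 (x32) * (X 31 (x31) * (X 40 (x40) * (X 46 (x46) * (X 39 (x39) * (X 45 (x45) * (X 29 (x29) * (X 44 (x44) * (X 47 (x47) * (X 38 (x38)))))))))))) = 1) :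
    Rch (X 30 (x30) * (X 32 (x32) * (X 31 (x31) * (X 40 (x40) * (X 46 (x46) * (X 39 (x39) * (X 45 (x45) * (X 29 (x29) * (X 44 (x44) * (X 47 (x47) * (X 38 (x38)))))))))))) := by
  have e : nS K g₄ 0 * (X 30 (x30) * (X 32 (x32) * (X 31 (x31) * (X 40 (x40) * (X 46 (x46) * (X 39 (x39) * (X 45 (x45) * (X 29 (x29) * (X 44 (x44) * (X 47 (x47) * (X 38 (x38)))))))))))) * (nS K g₄ 0)⁻¹ = (X 40 (x44) * (X 46 (x46) * (X 39 (x39) * (X 45 (x45) * (X 41 (x30) * (X 44 (x40) * (X 47 (x47) * (X 38 (x38) * (X 43 (x32) * (X 36 (x29) * (X 42 (x31)))))))))))) := by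
    rw [← MulAut.conj_apply]
    simp only [map_mul, conj_s (i := 0) (r := 30) (r' := 41) (by decide +kernel), conj_s (i := 0) (r := 32) (r' := 43) (by decide +kernel), conj_s (i := 0) (r := 31) (r' := 42) (by decide +kernel), conj_s (i := 0) (r := 40) (r' := 44) (by decide +kernel), conj_s (i := 0) (r := 46) (r' := 46) (by decide +kernel), conj_s (i := 0) (r := 39) (r' := 39) (by decide +kernel), conj_s (i := 0) (r := 45) (r' := 45) (by decide +kernel), conj_s (i := 0) (r := 29) (r' := 36) (by decide +kernel), conj_s (i := 0) (r := 44) (r' := 40) (by decide +kernel), conj_s (i := 0) (r := 47) (r' := 47) (by decide +kernel), conj_s (i := 0) (r := 38) (r' := 38) (by decide +kernel)]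
    all_goals normX
  exact Rch.step (nS_mem_group (by decide)) e h fun h' => n316 hx30 hx29 h'

lemma n318 {x30 x32 x31 x40 x46 x39 x45 x29 x44 x47 x38 x43 x42 : K} (hx30 : x30 ≠ 0) (hx29 : x29 ≠ 0)
    (h : (X 30 (x30) * (X 32 (x32) * (X 31 (x31) * (X 40 (x40) * (X 46 (x46) * (X 39 (x39) * (X 45 (x45) * (X 29 (x29) * (X 44 (x44) * (X 47 (x47) * (X 38 (x38) * (X 43 (x43) * (X 42 (x42)))))))))))))) * (X 30 (x30) * (X 32 (x32) * (X 31 (x31) * (X 40 (x40) * (X 46 (x46) * (X 39 (x39) * (X 45 (x45) * (X 29 (x29) * (X 44 (x44) * (X 47 (x47) * (X 38 (x38) * (X 43 (x43) * (X 42 (x42)))))))))))))) = 1) :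
    Rch (X 30 (x30) * (X 32 (x32) * (X 31 (x31) * (X 40 (x40) * (X 46 (x46) * (X 39 (x39) * (X 45 (x45) * (X 29 (x29) * (X 44 (x44) * (X 47 (x47) * (X 38 (x38) * (X 43 (x43) * (X 42 (x42)))))))))))))) := by
  have e : (X 30 (x30) * (X 32 (x32) * (X 31 (x31) * (X 40 (x40) * (X 46 (x46) * (X 39 (x39) * (X 45 (x45) * (X 29 (x29) * (X 44 (x44) * (X 47 (x47) * (X 38 (x38) * (X 43 (x43) * (X 42 (x42)))))))))))))) * (X 30 (x30) * (X 32 (x32) * (X 31 (x31) * (X 40 (x40) * (X 46 (x46) * (X 39 (x39) * (X 45 (x45) * (X 29 (x29) * (X 44 (x44) * (X 47 (x47) * (X 38 (x38) * (X 43 (x43) * (X 42 (x42)))))))))))))) = Z (0, 0) (0, 0) (0, 0) (0, 0) (0, x30 * x43) (0, x30 * x42) (0, 0) (0, x31 * x43 + x32 * x42) (0, 0) (0, 0) (0, 0) (0, 0) := by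
    unfold Z
    normX
  have e' := Z_inj (e.symm.trans (h.trans one_Z))
  obtain ⟨-, -, -, -, e4, e5, -, -, -, -, -, -⟩ := e'
  have z43 : x43 = 0 := zero_of (congrArg Prod.snd e4) fun hx43 =>
    (mul_ne_zero hx30 hx43)
  have z42 : x42 = 0 := zero_of (congrArg Prod.snd e5) fun hx42 =>
    (mul_ne_zero hx30 hx42)
  subst z43 z42
  simp only [X_zero, one_mul, mul_one] at h ⊢
  exact n317 hx30 hx29 h

lemma n319 {x30 x32 x31 x40 x46 x39 x45 x29 x44 x47 x38 x43 x42 : K} (hx29 : x29 ≠ 0)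
    (h : (X 30 (x30) * (X 32 (x32) * (X 31 (x31) * (X 40 (x40) * (X 46 (x46) * (X 39 (x39) * (X 45 (x45) * (X 29 (x29) * (X 44 (x44) * (X 47 (x47) * (X 38 (x38) * (X 43 (x43) * (X 42 (x42)))))))))))))) * (X 30 (x30) * (X 32 (x32) * (X 31 (x31) * (X 40 (x40) * (X 46 (x46) * (X 39 (x39) * (X 45 (x45) * (X 29 (x29) * (X 44 (x44) * (X 47 (x47) * (X 38 (x38) * (X 43 (x43) * (X 42 (x42)))))))))))))) = 1) :
    Rch (X 30 (x30) * (X 32 (x32) * (X 31 (x31) * (X 40 (x40) * (X 46 (x46) * (X 39 (x39) * (X 45 (x45) * (X 29 (x29) * (X 44 (x44) * (X 47 (x47) * (X 38 (x38) * (X 43 (x43) * (X 42 (x42)))))))))))))) := by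
  rcases eq_or_ne x30 0 with rfl | hx30
  · simp only [X_zero, one_mul, mul_one] at h ⊢
    exact n305 hx29 h
  · exact n318 hx30 hx29 h

lemma n320 {x30 x37 x32 x31 x40 x46 x39 x45 x29 x41 x44 x47 x38 x43 x42 : K} (hx29 : x29 ≠ 0)
    (h : (X 30 (x30) * (X 37 (x37) * (X 32 (x32) * (X 31 (x31) * (X 40 (x40) * (X 46 (x46) * (X 39 (x39) * (X 45 (x45) * (X 29 (x29) * (X 41 (x41) * (X 44 (x44) * (X 47 (x47) * (X 38 (x38) * (X 43 (x43) * (X 42 (x42)))))))))))))))) * (X 30 (x30) * (X 37 (x37) * (X 32 (x32) * (X 31 (x31) * (X 40 (x40) * (X 46 (x46) * (X 39 (x39) * (X 45 (x45) * (X 29 (x29) * (X 41 (x41) * (X 44 (x44) * (X 47 (x47) * (X 38 (x38) * (X 43 (x43) * (X 42 (x42)))))))))))))))) = 1) :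
    Rch (X 30 (x30) * (X 37 (x37) * (X 32 (x32) * (X 31 (x31) * (X 40 (x40) * (X 46 (x46) * (X 39 (x39) * (X 45 (x45) * (X 29 (x29) * (X 41 (x41) * (X 44 (x44) * (X 47 (x47) * (X 38 (x38) * (X 43 (x43) * (X 42 (x42)))))))))))))))) := by
  have e : (X 30 (x30) * (X 37 (x37) * (X 32 (x32) * (X 31 (x31) * (X 40 (x40) * (X 46 (x46) * (X 39 (x39) * (X 45 (x45) * (X 29 (x29) * (X 41 (x41) * (X 44 (x44) * (X 47 (x47) * (X 38 (x38) * (X 43 (x43) * (X 42 (x42)))))))))))))))) * (X 30 (x30) * (X 37 (x37) * (X 32 (x32) * (X 31 (x31) * (X 40 (x40) * (X 46 (x46) * (X 39 (x39) * (X 45 (x45) * (X 29 (x29) * (X 41 (x41) * (X 44 (x44) * (X 47 (x47) * (X 38 (x38) * (X 43 (x43) * (X 42 (x42)))))))))))))))) = Z (0, 0) (0, 0) (0, 0) (0, 0) (x29 * x37, x30 * x43 + x32 * x41) (0, x30 * x42 + x31 * x41) (0, 0) (x29 * x41, x29 ^ 2 * x41 + x31 * x43 + x32 * x42) (0, 0) (0, 0) (0, 0) (0, 0) := by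
    unfold Z
    normX
  have e' := Z_inj (e.symm.trans (h.trans one_Z))
  obtain ⟨-, -, -, -, e4, -, -, e7, -, -, -, -⟩ := e'
  have z37 : x37 = 0 := zero_of (congrArg Prod.fst e4) fun hx37 =>
    (mul_ne_zero hx29 hx37)
  have z41 : x41 = 0 := zero_of (congrArg Prod.fst e7) fun hx41 =>
    (mul_ne_zero hx29 hx41)
  subst z37 z41
  simp only [X_zero, one_mul, mul_one] at h ⊢
  exact n319 hx29 h

lemma n321 {x30 x37 x32 x31 x40 x46 x39 x45 x29 x41 x44 x47 x38 x43 x36 x42 : K} (hx29 : x29 ≠ 0)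
    (h : (X 30 (x30) * (X 37 (x37) * (X 32 (x32) * (X 31 (x31) * (X 40 (x40) * (X 46 (x46) * (X 39 (x39) * (X 45 (x45) * (X 29 (x29) * (X 41 (x41) * (X 44 (x44) * (X 47 (x47) * (X 38 (x38) * (X 43 (x43) * (X 36 (x36) * (X 42 (x42))))))))))))))))) * (X 30 (x30) * (X 37 (x37) * (X 32 (x32) * (X 31 (x31) * (X 40 (x40) * (X 46 (x46) * (X 39 (x39) * (X 45 (x45) * (X 29 (x29) * (X 41 (x41) * (X 44 (x44) * (X 47 (x47) * (X 38 (x38) * (X 43 (x43) * (X 36 (x36) * (X 42 (x42))))))))))))))))) = 1) :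
    Rch (X 30 (x30) * (X 37 (x37) * (X 32 (x32) * (X 31 (x31) * (X 40 (x40) * (X 46 (x46) * (X 39 (x39) * (X 45 (x45) * (X 29 (x29) * (X 41 (x41) * (X 44 (x44) * (X 47 (x47) * (X 38 (x38) * (X 43 (x43) * (X 36 (x36) * (X 42 (x42))))))))))))))))) := by
  obtain ⟨d, hd⟩ : ∃ d : K, (x29) * d = x36 :=
    exists_lin hx29 _
  have hw : (d * x29 + x36) = 0 := by linear_combination hd + (x36) * CharTwo.two_eq_zero (R := K)
  have e : X 33 d * (X 30 (x30) * (X 37 (x37) * (X 32 (x32) * (X 31 (x31) * (X 40 (x40) * (X 46 (x46) * (X 39 (x39) * (X 45 (x45) * (X 29 (x29) * (X 41 (x41) * (X 44 (x44) * (X 47 (x47) * (X 38 (x38) * (X 43 (x43) * (X 36 (x36) * (X 42 (x42))))))))))))))))) * (X 33 d)⁻¹ = (X 30 (x30) * (X 37 (d * x30 + x37) * (X 32 (x32) * (X 31 (x31) * (X 40 (x40) * (X 46 (d ^ 2 * x30 * x32 + x46) * (X 39 (d * x32 + x39) * (X 45 (d ^ 2 * x30 * x31 + x45) * (X 29 (x29) * (X 41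 (d ^ 2 * x30 + x41) * (X 44 (d * x40 + d ^ 2 * x29 * x30 + x44) * (X 47 (d ^ 2 * x29 ^ 2 * x30 + d ^ 2 * x31 * x32 + x47) * (X 38 (d * x31 + x38) * (X 43 (d ^ 2 * x32 + x43) * (X 36 (d * x29 + x36) * (X 42 (d ^ 2 * x31 + x42))))))))))))))))) := by
    rw [inv_eq]
    normX
  rw [hw, X_zero] at e
  simp only [one_mul, mul_one] at e
  exact Rch.step (xG_mem_group g₄ 33 d) e h fun h' => n320 hx29 h'

lemma n322 {x28 x30 x37 x32 x35 x31 x40 x46 x39 x45 x41 x44 x47 x38 x43 x42 : K} (hx28 : x28 ≠ 0)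
    (h : (X 28 (x28) * (X 30 (x30) * (X 37 (x37) * (X 32 (x32) * (X 35 (x35) * (X 31 (x31) * (X 40 (x40) * (X 46 (x46) * (X 39 (x39) * (X 45 (x45) * (X 41 (x41) * (X 44 (x44) * (X 47 (x47) * (X 38 (x38) * (X 43 (x43) * (X 42 (x42))))))))))))))))) * (X 28 (x28) * (X 30 (x30) * (X 37 (x37) * (X 32 (x32) * (X 35 (x35) * (X 31 (x31) * (X 40 (x40) * (X 46 (x46) * (X 39 (x39) * (X 45 (x45) * (X 41 (x41) * (X 44 (x44) * (X 47 (x47) * (X 38 (x38) * (X 43 (x43) * (X 42 (x42))))))))))))))))) = 1) :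
    Rch (X 28 (x28) * (X 30 (x30) * (X 37 (x37) * (X 32 (x32) * (X 35 (x35) * (X 31 (x31) * (X 40 (x40) * (X 46 (x46) * (X 39 (x39) * (X 45 (x45) * (X 41 (x41) * (X 44 (x44) * (X 47 (x47) * (X 38 (x38) * (X 43 (x43) * (X 42 (x42))))))))))))))))) := by
  have e : nS K g₄ 3 * (X 28 (x28) * (X 30 (x30) * (X 37 (x37) * (X 32 (x32) * (X 35 (x35) * (X 31 (x31) * (X 40 (x40) * (X 46 (x46) * (X 39 (x39) * (X 45 (x45) * (X 41 (x41) * (X 44 (x44) * (X 47 (x47) * (X 38 (x38) * (X 43 (x43) * (X 42 (x42))))))))))))))))) * (nS K g₄ 3)⁻¹ = (X 30 (x31) * (X 37 (x38) * (X 32 (x32) * (X 31 (x30) * (X 40 (x28 * x38 + x31 * x35 + x40) * (X 46 (x47) * (X 39 (x39) * (X 45 (x45) * (X 29 (x28) * (X 41 (x42) * (X 44 (x35 * x38 + x44) * (X 47 (x31 * x35 ^ 2 + x46) * (X 38 (x37) * (X 43 (x43) * (X 36 (x35) * (X 42 (x41))))))))))))))))) := by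
    rw [← MulAut.conj_apply]
    simp only [map_mul, conj_s (i := 3) (r := 28) (r' := 29) (by decide +kernel), conj_s (i := 3) (r := 30) (r' := 31) (by decide +kernel), conj_s (i := 3) (r := 37) (r' := 38) (by decide +kernel), conj_s (i := 3) (r := 32) (r' := 32) (by decide +kernel), conj_s (i := 3) (r := 35) (r' := 36) (by decide +kernel), conj_s (i := 3) (r := 31) (r' := 30) (by decide +kernel), conj_s (i := 3) (r := 40) (r' := 40) (by decide +kernel), conj_s (i := 3) (r := 46) (r' := 47) (by decide +kernel), conj_s (i := 3) (r := 39) (r' := 39) (by decide +kernel), conj_s (i := 3) (r := 45) (r' := 45) (by decide +kernel), conj_s (i := 3) (r := 41) (r' := 42) (by decide +kernel), conj_s (i := 3) (r := 44) (r' := 44) (by decide +kernel), conj_s (i := 3) (r := 47) (r' := 46) (by decide +kernel), conj_s (i := 3) (r := 38) (r' := 37) (by decide +kernel), conj_s (i := 3) (r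 := 43) (r' := 43) (by decide +kernel), conj_s (i := 3) (r := 42) (r' := 41) (by decide +kernel)]
    all_goals normX
  exact Rch.step (nS_mem_group (by decide)) e h fun h' => n321 hx28 h'

lemma n323 {x28 x30 x37 x32 x35 x31 x40 x46 x39 x45 x41 x44 x47 x38 x43 x36 x42 : K} (hx28 : x28 ≠ 0)
    (h : (X 28 (x28) * (X 30 (x30) * (X 37 (x37) * (X 32 (x32) * (X 35 (x35) * (X 31 (x31) * (X 40 (x40) * (X 46 (x46) * (X 39 (x39) * (X 45 (x45) * (X 41 (x41) * (X 44 (x44) * (X 47 (x47) * (X 38 (x38) * (X 43 (x43) * (X 36 (x36) * (X 42 (x42)))))))))))))))))) * (X 28 (x28) * (X 30 (x30) * (X 37 (x37) * (X 32 (x32) * (X 35 (x35) * (X 31 (x31) * (X 40 (x40) * (X 46 (x46) * (X 39 (x39) * (X 45 (x45) * (X 41 (x41) * (X 44 (x44) * (X 47 (x47) * (X 38 (x38) * (X 43 (x43) * (X 36 (x36) * (X 42 (x42)))))))))))))))))) = 1) :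
    Rch (X 28 (x28) * (X 30 (x30) * (X 37 (x37) * (X 32 (x32) * (X 35 (x35) * (X 31 (x31) * (X 40 (x40) * (X 46 (x46) * (X 39 (x39) * (X 45 (x45) * (X 41 (x41) * (X 44 (x44) * (X 47 (x47) * (X 38 (x38) * (X 43 (x43) * (X 36 (x36) * (X 42 (x42)))))))))))))))))) := by
  have e : (X 28 (x28) * (X 30 (x30) * (X 37 (x37) * (X 32 (x32) * (X 35 (x35) * (X 31 (x31) * (X 40 (x40) * (X 46 (x46) * (X 39 (x39) * (X 45 (x45) * (X 41 (x41) * (X 44 (x44) * (X 47 (x47) * (X 38 (x38) * (X 43 (x43) * (X 36 (x36) * (X 42 (x42)))))))))))))))))) * (X 28 (x28) * (X 30 (x30) * (X 37 (x37) * (X 32 (x32) * (X 35 (x35) * (X 31 (x31) * (X 40 (x40) * (X 46 (x46) * (X 39 (x39) * (X 45 (x45) * (X 41 (x41) * (X 44 (x44) * (X 47 (x47) * (X 38 (x38) * (X 43 (x43) * (X 36 (x36) * (X 42 (x42)))))))))))))))))) = Z (0, 0) (0, 0) (0, 0) (0, 0) (x28 * x38 + x30 * x36 + x31 * x35, x28 ^ 2 * x42 + x30 * x43 + x31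 * x35 ^ 2 + x32 * x41) (x28 * x36, x30 * x42 + x31 * x41) (0, 0) (x28 * x42 + x35 * x38 + x36 * x37, x30 * x36 ^ 2 + x31 * x43 + x32 * x42) (0, 0) (0, 0) (0, 0) (0, 0) := by
    unfold Z
    normX
  have e' := Z_inj (e.symm.trans (h.trans one_Z))
  obtain ⟨-, -, -, -, -, e5, -, -, -, -, -, -⟩ := e'
  have z36 : x36 = 0 := zero_of (congrArg Prod.fst e5) fun hx36 =>
    (mul_ne_zero hx28 hx36)
  subst z36
  simp only [X_zero, one_mul, mul_one] at h ⊢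
  exact n322 hx28 h

lemma n324 {x28 x30 x37 x32 x35 x31 x40 x46 x39 x45 x29 x41 x44 x47 x38 x43 x36 x42 : K} (hx28 : x28 ≠ 0)
    (h : (X 28 (x28) * (X 30 (x30) * (X 37 (x37) * (X 32 (x32) * (X 35 (x35) * (X 31 (x31) * (X 40 (x40) * (X 46 (x46) * (X 39 (x39) * (X 45 (x45) * (X 29 (x29) * (X 41 (x41) * (X 44 (x44) * (X 47 (x47) * (X 38 (x38) * (X 43 (x43) * (X 36 (x36) * (X 42 (x42))))))))))))))))))) * (X 28 (x28) * (X 30 (x30) * (X 37 (x37) * (X 32 (x32) * (X 35 (x35) * (X 31 (x31) * (X 40 (x40) * (X 46 (x46) * (X 39 (x39) * (X 45 (x45) * (X 29 (x29) * (X 41 (x41) * (X 44 (x44) * (X 47 (x47) * (X 38 (x38) * (X 43 (x43) * (X 36 (x36) * (X 42 (x42))))))))))))))))))) = 1) :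
    Rch (X 28 (x28) * (X 30 (x30) * (X 37 (x37) * (X 32 (x32) * (X 35 (x35) * (X 31 (x31) * (X 40 (x40) * (X 46 (x46) * (X 39 (x39) * (X 45 (x45) * (X 29 (x29) * (X 41 (x41) * (X 44 (x44) * (X 47 (x47) * (X 38 (x38) * (X 43 (x43) * (X 36 (x36) * (X 42 (x42))))))))))))))))))) := by
  obtain ⟨d, hd⟩ : ∃ d : K, (x28) * d = x29 :=
    exists_lin hx28 _
  have hw : (d * x28 + x29) = 0 := by linear_combination hd + (x29) * CharTwo.two_eq_zero (R := K)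
  have e : X 24 d * (X 28 (x28) * (X 30 (x30) * (X 37 (x37) * (X 32 (x32) * (X 35 (x35) * (X 31 (x31) * (X 40 (x40) * (X 46 (x46) * (X 39 (x39) * (X 45 (x45) * (X 29 (x29) * (X 41 (x41) * (X 44 (x44) * (X 47 (x47) * (X 38 (x38) * (X 43 (x43) * (X 36 (x36) * (X 42 (x42))))))))))))))))))) * (X 24 d)⁻¹ = (X 28 (x28) * (X 30 (x30) * (X 37 (x37) * (X 32 (d * x28 ^ 2 + x32) * (X 35 (x35) * (X 31 (d * x30 + x31) * (X 40 (d * x28 * x37 + d * x30 * x35 + x40) * (X 46 (d * x30 * x35 ^ 2 + x46) * (X 39 (d * x28 * x35 + x39) * (X 45 (d * x37 ^ 2 + x45) * (X 29 (d * x28 + x29) * (X 41 (x41) * (X 44 (d * x35 * x37 + x44) * (X 47 (d * x31 * x35 ^ 2 + d * x46 + x47) * (X 38 (d * x37 + x38) * (X 43 (d * x35 ^ 2 + x43) * (X 36 (d * x35 + x36) * (X 42 (d * x41 + x42))))))))))))))))))) := by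
    rw [inv_eq]
    normX
  rw [hw, X_zero] at e
  simp only [one_mul, mul_one] at e
  exact Rch.step (xG_mem_group g₄ 24 d) e h fun h' => n323 hx28 h'

lemma n325 {x27 x30 x37 x32 x31 x40 x46 x39 x45 x29 x41 x44 x47 x38 x43 x34 x36 x42 : K} (hx27 : x27 ≠ 0)
    (h : (X 27 (x27) * (X 30 (x30) * (X 37 (x37) * (X 32 (x32) * (X 31 (x31) * (X 40 (x40) * (X 46 (x46) * (X 39 (x39) * (X 45 (x45) * (X 29 (x29) * (X 41 (x41) * (X 44 (x44) * (X 47 (x47) * (X 38 (x38) * (X 43 (x43) * (X 34 (x34) * (X 36 (x36) * (X 42 (x42))))))))))))))))))) * (X 27 (x27) * (X 30 (x30) * (X 37 (x37) * (X 32 (x32) * (X 31 (x31) * (X 40 (x40) * (X 46 (x46) * (X 39 (x39) * (X 45 (x45) * (X 29 (x29) * (X 41 (x41) * (X 44 (x44) * (X 47 (x47) * (X 38 (x38) * (X 43 (x43) * (X 34 (x34) * (X 36 (x36) * (X 42 (x42))))))))))))))))))) = 1) :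
    Rch (X 27 (x27) * (X 30 (x30) * (X 37 (x37) * (X 32 (x32) * (X 31 (x31) * (X 40 (x40) * (X 46 (x46) * (X 39 (x39) * (X 45 (x45) * (X 29 (x29) * (X 41 (x41) * (X 44 (x44) * (X 47 (x47) * (X 38 (x38) * (X 43 (x43) * (X 34 (x34) * (X 36 (x36) * (X 42 (x42))))))))))))))))))) := by
  have e : nS K g₄ 2 * (X 27 (x27) * (X 30 (x30) * (X 37 (x37) * (X 32 (x32) * (X 31 (x31) * (X 40 (x40) * (X 46 (x46) * (X 39 (x39) * (X 45 (x45) * (X 29 (x29) * (X 41 (x41) * (X 44 (x44) * (X 47 (x47) * (X 38 (x38) * (X 43 (x43) * (X 34 (x34) * (X 36 (x36) * (X 42 (x42))))))))))))))))))) * (nS K g₄ 2)⁻¹ = (X 28 (x27) * (X 30 (x30) * (X 37 (x37) * (X 32 (x31) * (X 35 (x34) * (X 31 (x32) * (X 40 (x32 * x34 + x40) * (X 46 (x32 * x34 ^ 2 + x45) * (X 39 (x29 * x34 + x38) * (X 45 (x46) * (X 29 (x29) * (X 41 (x41) * (X 44 (x34 * x39 + x44) * (X 47 (x47) * (X 38 (x39) * (X 43 (x42) * (X 36 (x36) * (X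 42 (x43))))))))))))))))))) := by
    rw [← MulAut.conj_apply]
    simp only [map_mul, conj_s (i := 2) (r := 27) (r' := 28) (by decide +kernel), conj_s (i := 2) (r := 30) (r' := 30) (by decide +kernel), conj_s (i := 2) (r := 37) (r' := 37) (by decide +kernel), conj_s (i := 2) (r := 32) (r' := 31) (by decide +kernel), conj_s (i := 2) (r := 31) (r' := 32) (by decide +kernel), conj_s (i := 2) (r := 40) (r' := 40) (by decide +kernel), conj_s (i := 2) (r := 46) (r' := 45) (by decide +kernel), conj_s (i := 2) (r := 39) (r' := 38) (by decide +kernel), conj_s (i := 2) (r := 45) (r' := 46) (by decide +kernel), conj_s (i := 2) (r := 29) (r' := 29) (by decide +kernel), conj_s (i := 2) (r := 41) (r' := 41) (by decide +kernel), conj_s (i := 2) (r := 44) (r' := 44) (by decide +kernel), conj_s (i := 2) (r := 47) (r' := 47) (by decide +kernel), conj_s (i := 2) (r := 38) (r' := 39) (by decide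 +kernel), conj_s (i := 2) (r := 43) (r' := 42) (by decide +kernel), conj_s (i := 2) (r := 34) (r' := 35) (by decide +kernel), conj_s (i := 2) (r := 36) (r' := 36) (by decide +kernel), conj_s (i := 2) (r := 42) (r' := 43) (by decide +kernel)]
    all_goals normX
  exact Rch.step (nS_mem_group (by decide)) e h fun h' => n324 hx27 h'

lemma n326 {x27 x30 x37 x32 x31 x40 x46 x39 x45 x29 x41 x44 x47 x38 x43 x34 x36 x42 x24 : K} (hx27 : x27 ≠ 0) (hx24 : x24 ≠ 0)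
    (h : (X 27 (x27) * (X 30 (x30) * (X 37 (x37) * (X 32 (x32) * (X 31 (x31) * (X 40 (x40) * (X 46 (x46) * (X 39 (x39) * (X 45 (x45) * (X 29 (x29) * (X 41 (x41) * (X 44 (x44) * (X 47 (x47) * (X 38 (x38) * (X 43 (x43) * (X 34 (x34) * (X 36 (x36) * (X 42 (x42) * (X 24 (x24)))))))))))))))))))) * (X 27 (x27) * (X 30 (x30) * (X 37 (x37) * (X 32 (x32) * (X 31 (x31) * (X 40 (x40) * (X 46 (x46) * (X 39 (x39) * (X 45 (x45) * (X 29 (x29) * (X 41 (x41) * (X 44 (x44) * (X 47 (x47) * (X 38 (x38) * (X 43 (x43) * (X 34 (x34) * (X 36 (x36) * (X 42 (x42) * (X 24 (x24)))))))))))))))))))) = 1) :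
    Rch (X 27 (x27) * (X 30 (x30) * (X 37 (x37) * (X 32 (x32) * (X 31 (x31) * (X 40 (x40) * (X 46 (x46) * (X 39 (x39) * (X 45 (x45) * (X 29 (x29) * (X 41 (x41) * (X 44 (x44) * (X 47 (x47) * (X 38 (x38) * (X 43 (x43) * (X 34 (x34) * (X 36 (x36) * (X 42 (x42) * (X 24 (x24)))))))))))))))))))) := by
  have e : (X 27 (x27) * (X 30 (x30) * (X 37 (x37) * (X 32 (x32) * (X 31 (x31) * (X 40 (x40) * (X 46 (x46) * (X 39 (x39) * (X 45 (x45) * (X 29 (x29) * (X 41 (x41) * (X 44 (x44) * (X 47 (x47) * (X 38 (x38) * (X 43 (x43) * (X 34 (x34) * (X 36 (x36) * (X 42 (x42) * (X 24 (x24)))))))))))))))))))) * (X 27 (x27) * (X 30 (x30) * (X 37 (x37) * (X 32 (x32) * (X 31 (x31) * (X 40 (x40) * (X 46 (x46) * (X 39 (x39) * (X 45 (x45) * (X 29 (x29) * (X 41 (x41) * (X 44 (x44) * (X 47 (x47) * (X 38 (x38) * (X 43 (x43) * (X 34 (x34) * (X 36 (x36) * (X 42 (x42) * (X 24 (x24)))))))))))))))))))) = Z (0,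 0) (0, 0) (0, 0) (0, x24 * x30) (x27 * x39 + x29 * x37 + x30 * x36 + x32 * x34, x30 * x43 + x32 * x41) (0, x24 * x30 * x41 + x24 * x37 ^ 2 + x27 ^ 2 * x43 + x30 * x42 + x31 * x41 + x32 * x34 ^ 2) (0, 0) (x27 * x43 + x29 * x41 + x34 * x39 + x36 * x37, x24 * x30 * x43 + x24 * x46 + x29 ^ 2 * x41 + x30 * x36 ^ 2 + x31 * x43 + x32 * x42) (x24 * x37 + x27 * x36 + x29 * x34, 0) (0, 0) (0, x24 * x41) (0, 0) := by
    unfold Z
    normX
  have e' := Z_inj (e.symm.trans (h.trans one_Z))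
  obtain ⟨-, -, -, e3, -, -, -, -, -, -, e10, -⟩ := e'
  have z30 : x30 = 0 := zero_of (congrArg Prod.snd e3) fun hx30 =>
    (mul_ne_zero hx24 hx30)
  have z41 : x41 = 0 := zero_of (congrArg Prod.snd e10) fun hx41 =>
    (mul_ne_zero hx24 hx41)
  subst z30 z41
  simp only [X_zero, one_mul, mul_one] at h ⊢
  exact n283 hx27 hx24 h

lemma n327 {x27 x30 x37 x32 x31 x40 x46 x39 x45 x29 x41 x44 x47 x38 x43 x34 x36 x42 x24 : K} (hx27 : x27 ≠ 0)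
    (h : (X 27 (x27) * (X 30 (x30) * (X 37 (x37) * (X 32 (x32) * (X 31 (x31) * (X 40 (x40) * (X 46 (x46) * (X 39 (x39) * (X 45 (x45) * (X 29 (x29) * (X 41 (x41) * (X 44 (x44) * (X 47 (x47) * (X 38 (x38) * (X 43 (x43) * (X 34 (x34) * (X 36 (x36) * (X 42 (x42) * (X 24 (x24)))))))))))))))))))) * (X 27 (x27) * (X 30 (x30) * (X 37 (x37) * (X 32 (x32) * (X 31 (x31) * (X 40 (x40) * (X 46 (x46) * (X 39 (x39) * (X 45 (x45) * (X 29 (x29) * (X 41 (x41) * (X 44 (x44) * (X 47 (x47) * (X 38 (x38) * (X 43 (x43) * (X 34 (x34) * (X 36 (x36) * (X 42 (x42) * (X 24 (x24)))))))))))))))))))) = 1) :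
    Rch (X 27 (x27) * (X 30 (x30) * (X 37 (x37) * (X 32 (x32) * (X 31 (x31) * (X 40 (x40) * (X 46 (x46) * (X 39 (x39) * (X 45 (x45) * (X 29 (x29) * (X 41 (x41) * (X 44 (x44) * (X 47 (x47) * (X 38 (x38) * (X 43 (x43) * (X 34 (x34) * (X 36 (x36) * (X 42 (x42) * (X 24 (x24)))))))))))))))))))) := by
  rcases eq_or_ne x24 0 with rfl | hx24
  · simp only [X_zero, one_mul, mul_one] at h ⊢
    exact n325 hx27 h
  · exact n326 hx27 hx24 h

lemma n328 {x27 x30 x37 x32 x35 x31 x40 x46 x39 x45 x29 x41 x44 x47 x38 x43 x34 x26 x36 x42 x24 : K} (hx27 : x27 ≠ 0)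
    (h : (X 27 (x27) * (X 30 (x30) * (X 37 (x37) * (X 32 (x32) * (X 35 (x35) * (X 31 (x31) * (X 40 (x40) * (X 46 (x46) * (X 39 (x39) * (X 45 (x45) * (X 29 (x29) * (X 41 (x41) * (X 44 (x44) * (X 47 (x47) * (X 38 (x38) * (X 43 (x43) * (X 34 (x34) * (X 26 (x26) * (X 36 (x36) * (X 42 (x42) * (X 24 (x24)))))))))))))))))))))) * (X 27 (x27) * (X 30 (x30) * (X 37 (x37) * (X 32 (x32) * (X 35 (x35) * (X 31 (x31) * (X 40 (x40) * (X 46 (x46) * (X 39 (x39) * (X 45 (x45) * (X 29 (x29) * (X 41 (x41) * (X 44 (x44) * (X 47 (x47) * (X 38 (x38) * (X 43 (x43) * (X 34 (x34) * (X 26 (x26) * (X 36 (x36) * (X 42 (x42) * (X 24 (x24)))))))))))))))))))))) = 1) :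
    Rch (X 27 (x27) * (X 30 (x30) * (X 37 (x37) * (X 32 (x32) * (X 35 (x35) * (X 31 (x31) * (X 40 (x40) * (X 46 (x46) * (X 39 (x39) * (X 45 (x45) * (X 29 (x29) * (X 41 (x41) * (X 44 (x44) * (X 47 (x47) * (X 38 (x38) * (X 43 (x43) * (X 34 (x34) * (X 26 (x26) * (X 36 (x36) * (X 42 (x42) * (X 24 (x24)))))))))))))))))))))) := by
  have e : (X 27 (x27) * (X 30 (x30) * (X 37 (x37) * (X 32 (x32) * (X 35 (x35) * (X 31 (x31) * (X 40 (x40) * (X 46 (x46) * (X 39 (x39) * (X 45 (x45) * (X 29 (x29) * (X 41 (x41) * (X 44 (x44) * (X 47 (x47) * (X 38 (x38) * (X 43 (x43) * (X 34 (x34) * (X 26 (x26) * (X 36 (x36) * (X 42 (x42) * (X 24 (x24)))))))))))))))))))))) * (X 27 (x27) * (X 30 (x30) * (X 37 (x37) * (X 32 (x32) * (X 35 (x35) * (X 31 (x31) * (X 40 (x40) * (X 46 (x46) * (X 39 (x39) * (X 45 (x45) * (X 29 (x29) * (X 41 (x41) * (X 44 (x44) * (X 47 (x47) * (X 38 (x38) * (X 43 (x43) * (X 34 (x34)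 * (X 26 (x26) * (X 36 (x36) * (X 42 (x42) * (X 24 (x24)))))))))))))))))))))) = Z (0, 0) (0, 0) (x27 * x35, x26 * x30) (0, x24 * x30 + x26 * x27 ^ 2) (x24 * x30 * x35 + x26 * x27 * x37 + x26 * x27 ^ 2 * x35 + x26 * x30 * x34 + x27 * x39 + x29 * x37 + x30 * x36 + x31 * x35 + x32 * x34, x24 * x30 * x35 ^ 2 + x26 * x27 ^ 2 * x35 ^ 2 + x26 * x30 * x41 + x26 * x37 ^ 2 + x30 * x43 + x31 * x35 ^ 2 + x32 * x41) (x26 * x27 * x35 + x26 * x37 + x29 * x35, x24 * x30 * x41 + x24 * x37 ^ 2 + x26 * x27 ^ 2 * x41 + x26 * x30 * x34 ^ 2 + x27 ^ 2 * x43 + x30 * x42 + x31 * x41 + x32 * x34 ^ 2) (x26 * x27, 0) (x24 * x35 * x37 + x26 * x27 * x34 * x35 + x26 * x27 * x41 + x26 * x34 * x37 + x27 * x35 * x36 + x27 * x43 + x29 * x41 + x34 * x39 + x35 * x38 + x36 * x37, x24 * x26 * x37 ^ 2 + x24 * x30 * x43 + x24 * x31 * x35 ^ 2 + x24 * x46 + x26 * x27 ^ 2 * x43 + x26 * x30 * x42 + x26 * x45 + x26 ^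 2 * x27 ^ 2 * x41 + x29 ^ 2 * x41 + x30 * x36 ^ 2 + x31 * x43 + x32 * x42) (x24 * x37 + x26 * x27 * x34 + x27 * x36 + x29 * x34, x24 * x35 ^ 2 + x26 * x41) (0, 0) (x24 * x35 + x26 * x34, x24 * x41 + x26 * x34 ^ 2) (0, 0) := by
    unfold Z
    normX
  have e' := Z_inj (e.symm.trans (h.trans one_Z))
  obtain ⟨-, -, e2, -, -, -, e6, -, -, -, -, -⟩ := e'
  have z35 : x35 = 0 := zero_of (congrArg Prod.fst e2) fun hx35 =>
    (mul_ne_zero hx27 hx35)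
  have z26 : x26 = 0 := zero_of (congrArg Prod.fst e6) fun hx26 =>
    (mul_ne_zero hx26 hx27)
  subst z35 z26
  simp only [X_zero, one_mul, mul_one] at h ⊢
  exact n327 hx27 h

lemma n329 {x27 x28 x30 x37 x32 x35 x31 x40 x46 x39 x45 x29 x41 x44 x47 x38 x43 x34 x26 x36 x42 x24 : K} (hx27 : x27 ≠ 0)
    (h : (X 27 (x27) * (X 28 (x28) * (X 30 (x30) * (X 37 (x37) * (X 32 (x32) * (X 35 (x35) * (X 31 (x31) * (X 40 (x40) * (X 46 (x46) * (X 39 (x39) * (X 45 (x45) * (X 29 (x29) * (X 41 (x41) * (X 44 (x44) * (X 47 (x47) * (X 38 (x38) * (X 43 (x43) * (X 34 (x34) * (X 26 (x26) * (X 36 (x36) * (X 42 (x42) * (X 24 (x24))))))))))))))))))))))) * (X 27 (x27) * (X 28 (x28) * (X 30 (x30) * (X 37 (x37) * (X 32 (x32) * (X 35 (x35) * (X 31 (x31) * (X 40 (x40) * (X 46 (x46) * (X 39 (x39) * (X 45 (x45) * (X 29 (x29) * (X 41 (x41) * (X 44 (x44) * (X 47 (x47) * (X 38 (x38) * (X 43 (x43) * (X 34 (x34)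 * (X 26 (x26) * (X 36 (x36) * (X 42 (x42) * (X 24 (x24))))))))))))))))))))))) = 1) :
    Rch (X 27 (x27) * (X 28 (x28) * (X 30 (x30) * (X 37 (x37) * (X 32 (x32) * (X 35 (x35) * (X 31 (x31) * (X 40 (x40) * (X 46 (x46) * (X 39 (x39) * (X 45 (x45) * (X 29 (x29) * (X 41 (x41) * (X 44 (x44) * (X 47 (x47) * (X 38 (x38) * (X 43 (x43) * (X 34 (x34) * (X 26 (x26) * (X 36 (x36) * (X 42 (x42) * (X 24 (x24))))))))))))))))))))))) := by
  obtain ⟨d, hd⟩ : ∃ d : K, (x27) * d = x28 :=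
    exists_lin hx27 _
  have hw : (d * x27 + x28) = 0 := by linear_combination hd + (x28) * CharTwo.two_eq_zero (R := K)
  have e : X 25 d * (X 27 (x27) * (X 28 (x28) * (X 30 (x30) * (X 37 (x37) * (X 32 (x32) * (X 35 (x35) * (X 31 (x31) * (X 40 (x40) * (X 46 (x46) * (X 39 (x39) * (X 45 (x45) * (X 29 (x29) * (X 41 (x41) * (X 44 (x44) * (X 47 (x47) * (X 38 (x38) * (X 43 (x43) * (X 34 (x34) * (X 26 (x26) * (X 36 (x36) * (X 42 (x42) * (X 24 (x24))))))))))))))))))))))) * (X 25 d)⁻¹ = (X 27 (x27) * (X 28 (d * x27 + x28) * (X 30 (d * x27 ^ 2 + x30) * (X 37 (x37) * (X 32 (d * x31 + x32) * (X 35 (d * x34 + x35) * (X 31 (x31) * (X 40 (d * x31 * x34 + x40) * (X 46 (d * x45 + d ^ 2 * x31 * x34 ^ 2 + x46) * (X 39 (d * x29 * x34 + d * x38 + x39) * (X 45 (x45) * (X 29 (x29) * (X 41 (d * x34 ^ 2 + x41) * (X 44 (d * x34 * x38 + x44) * (X 47 (d * x38 ^ 2 + x47) * (X 38 (x38) * (X 43 (d * x42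 + x43) * (X 34 (x34) * (X 26 (d * x24 + x26) * (X 36 (x36) * (X 42 (x42) * (X 24 (x24))))))))))))))))))))))) := by
    rw [inv_eq]
    normX
  rw [hw, X_zero] at e
  simp only [one_mul, mul_one] at e
  exact Rch.step (xG_mem_group g₄ 25 d) e h fun h' => n328 hx27 h'

lemma n330 {x27 x28 x30 x37 x32 x35 x31 x40 x46 x39 x45 x29 x41 x44 x47 x38 x43 x34 x26 x36 x42 x24 : K} (hx28 : x28 ≠ 0)
    (h : (X 27 (x27) * (X 28 (x28) * (X 30 (x30) * (X 37 (x37) * (X 32 (x32) * (X 35 (x35) * (X 31 (x31) * (X 40 (x40) * (X 46 (x46) * (X 39 (x39) * (X 45 (x45) * (X 29 (x29) * (X 41 (x41) * (X 44 (x44) * (X 47 (x47) * (X 38 (x38) * (X 43 (x43) * (X 34 (x34) * (X 26 (x26) * (X 36 (x36) * (X 42 (x42) * (X 24 (x24))))))))))))))))))))))) * (X 27 (x27) * (X 28 (x28) * (X 30 (x30) * (X 37 (x37) * (X 32 (x32) * (X 35 (x35) * (X 31 (x31) * (X 40 (x40) * (X 46 (x46) * (X 39 (x39) * (X 45 (x45) * (X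 29 (x29) * (X 41 (x41) * (X 44 (x44) * (X 47 (x47) * (X 38 (x38) * (X 43 (x43) * (X 34 (x34) * (X 26 (x26) * (X 36 (x36) * (X 42 (x42) * (X 24 (x24))))))))))))))))))))))) = 1) :
    Rch (X 27 (x27) * (X 28 (x28) * (X 30 (x30) * (X 37 (x37) * (X 32 (x32) * (X 35 (x35) * (X 31 (x31) * (X 40 (x40) * (X 46 (x46) * (X 39 (x39) * (X 45 (x45) * (X 29 (x29) * (X 41 (x41) * (X 44 (x44) * (X 47 (x47) * (X 38 (x38) * (X 43 (x43) * (X 34 (x34) * (X 26 (x26) * (X 36 (x36) * (X 42 (x42) * (X 24 (x24))))))))))))))))))))))) := by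
  have e : nS K g₄ 2 * (X 27 (x27) * (X 28 (x28) * (X 30 (x30) * (X 37 (x37) * (X 32 (x32) * (X 35 (x35) * (X 31 (x31) * (X 40 (x40) * (X 46 (x46) * (X 39 (x39) * (X 45 (x45) * (X 29 (x29) * (X 41 (x41) * (X 44 (x44) * (X 47 (x47) * (X 38 (x38) * (X 43 (x43) * (X 34 (x34) * (X 26 (x26) * (X 36 (x36) * (X 42 (x42) * (X 24 (x24))))))))))))))))))))))) * (nS K g₄ 2)⁻¹ = (X 27 (x28) * (X 28 (x27) * (X 30 (x30) * (X 37 (x37) * (X 32 (x31) * (X 35 (x34) * (X 31 (x32) * (X 40 (x31 * x35 + x32 * x34 + x40) * (X 46 (x32 * x34 ^ 2 + x45) * (X 39 (x29 * x34 + x38) * (X 45 (x31 * x35 ^ 2 + x46) * (X 29 (x29) * (X 41 (x41) * (X 44 (x29 * x34 * x35 + x34 * x39 + x35 * x38 + x44) * (X 47 (x47) * (X 38 (x29 * x35 + x39) * (X 43 (x42) * (X 34 (x35) * (X 26 (x24) * (X 36 (x36) * (X 42 (x43) * (X 24 (x26))))))))))))))))))))))) := by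
    rw [← MulAut.conj_apply]
    simp only [map_mul, conj_s (i := 2) (r := 27) (r' := 28) (by decide +kernel), conj_s (i := 2) (r := 28) (r' := 27) (by decide +kernel), conj_s (i := 2) (r := 30) (r' := 30) (by decide +kernel), conj_s (i := 2) (r := 37) (r' := 37) (by decide +kernel), conj_s (i := 2) (r := 32) (r' := 31) (by decide +kernel), conj_s (i := 2) (r := 35) (r' := 34) (by decide +kernel), conj_s (i := 2) (r := 31) (r' := 32) (by decide +kernel), conj_s (i := 2) (r := 40) (r' := 40) (by decide +kernel), conj_s (i := 2) (r := 46) (r' := 45) (by decide +kernel), conj_s (i := 2) (r := 39) (r' := 38) (by decide +kernel), conj_s (i := 2) (r := 45) (r' := 46) (by decide +kernel), conj_s (i := 2) (r := 29) (r' := 29) (by decide +kernel), conj_s (i := 2) (r := 41) (r' := 41) (by decide +kernel), conj_s (i := 2) (r := 44) (r' := 44) (by decide +kernel), conj_s (i := 2) (r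 := 47) (r' := 47) (by decide +kernel), conj_s (i := 2) (r := 38) (r' := 39) (by decide +kernel), conj_s (i := 2) (r := 43) (r' := 42) (by decide +kernel), conj_s (i := 2) (r := 34) (r' := 35) (by decide +kernel), conj_s (i := 2) (r := 26) (r' := 24) (by decide +kernel), conj_s (i := 2) (r := 36) (r' := 36) (by decide +kernel), conj_s (i := 2) (r := 42) (r' := 43) (by decide +kernel), conj_s (i := 2) (r := 24) (r' := 26) (by decide +kernel)]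
    all_goals normX
  exact Rch.step (nS_mem_group (by decide)) e h fun h' => n329 hx28 h'

lemma n331 {x27 x28 x30 x37 x32 x35 x31 x40 x46 x39 x45 x29 x41 x44 x47 x38 x43 x34 x26 x36 x42 x33 x24 : K} (hx28 : x28 ≠ 0)
    (h : (X 27 (x27) * (X 28 (x28) * (X 30 (x30) * (X 37 (x37) * (X 32 (x32) * (X 35 (x35) * (X 31 (x31) * (X 40 (x40) * (X 46 (x46) * (X 39 (x39) * (X 45 (x45) * (X 29 (x29) * (X 41 (x41) * (X 44 (x44) * (X 47 (x47) * (X 38 (x38) * (X 43 (x43) * (X 34 (x34) * (X 26 (x26) * (X 36 (x36) * (X 42 (x42) * (X 33 (x33) * (X 24 (x24)))))))))))))))))))))))) * (X 27 (x27) * (X 28 (x28) * (X 30 (x30) * (X 37 (x37) * (X 32 (x32) * (X 35 (x35) * (X 31 (x31) * (X 40 (x40) * (X 46 (x46) * (X 39 (x39) * (X 45 (x45) * (X 29 (x29) * (X 41 (x41) * (X 44 (x44) * (X 47 (x47) * (X 38 (x38) * (X 43 (x43) * (X 34 (x34) * (X 26 (x26) * (X 36 (x36) * (X 42 (x42) * (X 33 (x33) * (X 24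 (x24)))))))))))))))))))))))) = 1) :
    Rch (X 27 (x27) * (X 28 (x28) * (X 30 (x30) * (X 37 (x37) * (X 32 (x32) * (X 35 (x35) * (X 31 (x31) * (X 40 (x40) * (X 46 (x46) * (X 39 (x39) * (X 45 (x45) * (X 29 (x29) * (X 41 (x41) * (X 44 (x44) * (X 47 (x47) * (X 38 (x38) * (X 43 (x43) * (X 34 (x34) * (X 26 (x26) * (X 36 (x36) * (X 42 (x42) * (X 33 (x33) * (X 24 (x24)))))))))))))))))))))))) := by
  have e : (X 27 (x27) * (X 28 (x28) * (X 30 (x30) * (X 37 (x37) * (X 32 (x32) * (X 35 (x35) * (X 31 (x31) * (X 40 (x40) * (X 46 (x46) * (X 39 (x39) * (X 45 (x45) * (X 29 (x29) * (X 41 (x41) * (X 44 (x44) * (X 47 (x47) * (X 38 (x38) * (X 43 (x43) * (X 34 (x34) * (X 26 (x26) * (X 36 (x36) * (X 42 (x42) * (X 33 (x33) * (X 24 (x24)))))))))))))))))))))))) * (X 27 (x27) * (X 28 (x28) * (X 30 (x30) * (X 37 (x37) * (X 32 (x32) * (X 35 (x35) * (X 31 (x31) * (X 40 (x40) * (X 46 (x46) * (X 39 (x39)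 * (X 45 (x45) * (X 29 (x29) * (X 41 (x41) * (X 44 (x44) * (X 47 (x47) * (X 38 (x38) * (X 43 (x43) * (X 34 (x34) * (X 26 (x26) * (X 36 (x36) * (X 42 (x42) * (X 33 (x33) * (X 24 (x24)))))))))))))))))))))))) = Z (0, 0) (0, 0) (x27 * x28 * x33 + x27 * x35 + x28 * x34 + x30 * x33, x24 * x28 ^ 2 + x26 * x30) (x28 * x33, x24 * x30 + x26 * x27 ^ 2) (x24 * x27 * x28 ^ 2 * x33 + x24 * x28 * x37 + x24 * x28 ^ 2 * x34 + x24 * x30 * x35 + x26 * x27 * x30 * x33 + x26 * x27 * x37 + x26 * x27 ^ 2 * x35 + x26 * x30 * x34 + x27 * x28 * x29 * x33 + x27 * x28 * x36 + x27 * x32 * x33 + x27 * x39 + x28 * x29 * x34 + x28 * x31 * x33 + x28 * x38 + x29 * x30 * x33 + x29 * x37 + x30 * x36 + x31 * x35 + x32 * x34, x24 * x28 ^ 2 * x30 * x33 ^ 2 + x24 * x28 ^ 2 * x41 + x24 * x30 * x35 ^ 2 + x26 * x27 ^ 2 * x35 ^ 2 + x26 * x30 * x41 + x26 * x30 ^ 2 * x33 ^ 2 + x26 * x37 ^ 2 + x28 ^ 2 * x31 * x33 ^ 2 +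 x28 ^ 2 * x42 + x30 * x32 * x33 ^ 2 + x30 * x43 + x31 * x35 ^ 2 + x32 * x41) (x24 * x28 * x35 + x24 * x28 ^ 2 * x33 + x26 * x27 * x35 + x26 * x30 * x33 + x26 * x37 + x28 * x29 * x33 + x28 * x36 + x29 * x35 + x32 * x33, x24 * x27 ^ 2 * x28 ^ 2 * x33 ^ 2 + x24 * x28 ^ 2 * x34 ^ 2 + x24 * x30 * x41 + x24 * x30 ^ 2 * x33 ^ 2 + x24 * x37 ^ 2 + x26 * x27 ^ 2 * x41 + x26 * x30 * x34 ^ 2 + x27 ^ 2 * x32 * x33 ^ 2 + x27 ^ 2 * x43 + x30 * x31 * x33 ^ 2 + x30 * x42 + x31 * x41 + x32 * x34 ^ 2) (x24 * x28 + x26 * x27, x30 * x33 ^ 2) (x24 * x27 * x28 * x33 * x35 + x24 * x27 * x28 ^ 2 * x33 ^ 2 + x24 * x28 * x30 * x33 ^ 2 + x24 * x28 * x33 * x37 + x24 * x28 * x34 * x35 + x24 * x28 * x41 + x24 * x28 ^ 2 * x33 * x34 + x24 * x30 * x33 * x35 + x24 * x35 * x37 + x26 * x27 * x34 * x35 + x26 * x27 * x41 + x26 * x30 * x33 * x34 + x26 * x34 * x37 + x27 * x32 * x33 ^ 2 + x27 * x33 * x39 + x27 *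 x35 * x36 + x27 * x43 + x28 * x33 * x38 + x28 * x34 * x36 + x28 * x42 + x29 * x30 * x33 ^ 2 + x29 * x41 + x30 * x33 * x36 + x32 * x33 * x34 + x33 * x40 + x34 * x39 + x35 * x38 + x36 * x37, x24 * x26 * x27 ^ 2 * x28 ^ 2 * x33 ^ 2 + x24 * x26 * x30 ^ 2 * x33 ^ 2 + x24 * x26 * x37 ^ 2 + x24 * x28 ^ 2 * x31 * x33 ^ 2 + x24 * x28 ^ 2 * x42 + x24 * x30 * x32 * x33 ^ 2 + x24 * x30 * x43 + x24 * x31 * x35 ^ 2 + x24 * x46 + x24 ^ 2 * x28 ^ 2 * x41 + x26 * x27 ^ 2 * x32 * x33 ^ 2 + x26 * x27 ^ 2 * x43 + x26 * x30 * x31 * x33 ^ 2 + x26 * x30 * x42 + x26 * x45 + x26 ^ 2 * x27 ^ 2 * x41 + x29 ^ 2 * x30 * x33 ^ 2 + x29 ^ 2 * x41 + x30 * x36 ^ 2 + x31 * x32 * x33 ^ 2 + x31 * x43 + x32 * x42) (x24 * x27 * x28 * x33 + x24 * x28 * x34 + x24 * x30 * x33 + x24 * x37 + x26 * x27 * x34 + x27 * x29 * x33 + x27 * x36 + x29 * x34 + x31 * x33, x24 * x28 ^ 2 * x33 ^ 2 + x24 * x35 ^ 2 + x26 * x30 *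 x33 ^ 2 + x26 * x41 + x32 * x33 ^ 2) (x27 * x33, 0) (x24 * x28 * x33 + x24 * x35 + x26 * x27 * x33 + x26 * x34 + x29 * x33, x24 * x30 * x33 ^ 2 + x24 * x41 + x26 * x27 ^ 2 * x33 ^ 2 + x26 * x34 ^ 2 + x31 * x33 ^ 2) (0, 0) := by
    unfold Z
    normX
  have e' := Z_inj (e.symm.trans (h.trans one_Z))
  obtain ⟨-, -, -, e3, -, -, -, -, -, -, -, -⟩ := e'
  have z33 : x33 = 0 := zero_of (congrArg Prod.fst e3) fun hx33 =>
    (mul_ne_zero hx28 hx33)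
  subst z33
  simp only [X_zero, one_mul, mul_one] at h ⊢
  exact n330 hx28 h

lemma n332 {x27 x28 x30 x37 x32 x35 x31 x40 x46 x39 x45 x29 x41 x44 x47 x38 x43 x34 x26 x36 x42 x33 x24 : K}
    (h : (X 27 (x27) * (X 28 (x28) * (X 30 (x30) * (X 37 (x37) * (X 32 (x32) * (X 35 (x35) * (X 31 (x31) * (X 40 (x40) * (X 46 (x46) * (X 39 (x39) * (X 45 (x45) * (X 29 (x29) * (X 41 (x41) * (X 44 (x44) * (X 47 (x47) * (X 38 (x38) * (X 43 (x43) * (X 34 (x34) * (X 26 (x26) * (X 36 (x36) * (X 42 (x42) * (X 33 (x33) * (X 24 (x24)))))))))))))))))))))))) * (X 27 (x27) * (X 28 (x28) * (X 30 (x30) * (X 37 (x37) * (X 32 (x32) * (X 35 (x35) * (X 31 (x31) * (X 40 (x40) * (X 46 (x46) * (X 39 (x39) * (X 45 (x45) * (X 29 (x29) * (X 41 (x41) * (X 44 (x44) * (X 47 (x47) * (X 38 (x38) * (X 43 (x43) * (X 34 (x34) * (X 26 (x26) * (X 36 (x36) * (X 42 (x42) * (X 33 (x33) * (X 24 (x24))))))))))))))))))))))))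 = 1) :
    Rch (X 27 (x27) * (X 28 (x28) * (X 30 (x30) * (X 37 (x37) * (X 32 (x32) * (X 35 (x35) * (X 31 (x31) * (X 40 (x40) * (X 46 (x46) * (X 39 (x39) * (X 45 (x45) * (X 29 (x29) * (X 41 (x41) * (X 44 (x44) * (X 47 (x47) * (X 38 (x38) * (X 43 (x43) * (X 34 (x34) * (X 26 (x26) * (X 36 (x36) * (X 42 (x42) * (X 33 (x33) * (X 24 (x24)))))))))))))))))))))))) := by
  rcases eq_or_ne x28 0 with rfl | hx28
  · simp only [X_zero, one_mul, mul_one] at h ⊢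
    exact n292 h
  · exact n331 hx28 h

lemma n333 {x25 x28 x30 x37 x32 x35 x40 x46 x39 x45 x41 x44 x47 x38 x43 x34 x36 x42 x33 : K} (hx25 : x25 ≠ 0)
    (h : (X 25 (x25) * (X 28 (x28) * (X 30 (x30) * (X 37 (x37) * (X 32 (x32) * (X 35 (x35) * (X 40 (x40) * (X 46 (x46) * (X 39 (x39) * (X 45 (x45) * (X 41 (x41) * (X 44 (x44) * (X 47 (x47) * (X 38 (x38) * (X 43 (x43) * (X 34 (x34) * (X 36 (x36) * (X 42 (x42) * (X 33 (x33)))))))))))))))))))) * (X 25 (x25) * (X 28 (x28) * (X 30 (x30) * (X 37 (x37) * (X 32 (x32) * (X 35 (x35) * (X 40 (x40) * (X 46 (x46) * (X 39 (x39) * (X 45 (x45) * (X 41 (x41) * (X 44 (x44) * (X 47 (x47) * (X 38 (x38) * (X 43 (x43) * (X 34 (x34) * (X 36 (x36) * (X 42 (x42) * (X 33 (x33)))))))))))))))))))) = 1) :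
    Rch (X 25 (x25) * (X 28 (x28) * (X 30 (x30) * (X 37 (x37) * (X 32 (x32) * (X 35 (x35) * (X 40 (x40) * (X 46 (x46) * (X 39 (x39) * (X 45 (x45) * (X 41 (x41) * (X 44 (x44) * (X 47 (x47) * (X 38 (x38) * (X 43 (x43) * (X 34 (x34) * (X 36 (x36) * (X 42 (x42) * (X 33 (x33)))))))))))))))))))) := by
  have e : nS K g₄ 3 * (X 25 (x25) * (X 28 (x28) * (X 30 (x30) * (X 37 (x37) * (X 32 (x32) * (X 35 (x35) * (X 40 (x40) * (X 46 (x46) * (X 39 (x39) * (X 45 (x45) * (X 41 (x41) * (X 44 (x44) * (X 47 (x47) * (X 38 (x38) * (X 43 (x43) * (X 34 (x34) * (X 36 (x36) * (X 42 (x42) * (X 33 (x33)))))))))))))))))))) * (nS K g₄ 3)⁻¹ = (X 37 (x38) * (X 32 (x32) * (X 35 (x36) * (X 31 (x30) * (X 40 (x28 * x38 + x30 * x36 + x40) * (X 46 (x25 * x38 ^ 2 + x30 * x36 ^ 2 + x47) * (X 39 (x25 * x38 + x28 * x36 + x39) * (X 45 (x45) * (X 29 (x28) * (X 41 (x42) * (X 44 (x35 * x38 + x36 * x37 + x44) * (X 47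 (x25 * x45 + x46) * (X 38 (x37) * (X 43 (x25 * x42 + x43) * (X 34 (x34) * (X 26 (x25) * (X 36 (x25 * x34 + x35) * (X 42 (x25 * x34 ^ 2 + x41) * (X 33 (x33)))))))))))))))))))) := by
    rw [← MulAut.conj_apply]
    simp only [map_mul, conj_s (i := 3) (r := 25) (r' := 26) (by decide +kernel), conj_s (i := 3) (r := 28) (r' := 29) (by decide +kernel), conj_s (i := 3) (r := 30) (r' := 31) (by decide +kernel), conj_s (i := 3) (r := 37) (r' := 38) (by decide +kernel), conj_s (i := 3) (r := 32) (r' := 32) (by decide +kernel), conj_s (i := 3) (r := 35) (r' := 36) (by decide +kernel), conj_s (i := 3) (r := 40) (r' := 40) (by decide +kernel), conj_s (i := 3) (r := 46) (r' := 47) (by decide +kernel), conj_s (i := 3) (r := 39) (r' := 39) (by decide +kernel), conj_s (i := 3) (r := 45) (r' := 45) (by decide +kernel), conj_s (i := 3) (r := 41) (r' := 42) (by decide +kernel), conj_s (i :=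 3) (r := 44) (r' := 44) (by decide +kernel), conj_s (i := 3) (r := 47) (r' := 46) (by decide +kernel), conj_s (i := 3) (r := 38) (r' := 37) (by decide +kernel), conj_s (i := 3) (r := 43) (r' := 43) (by decide +kernel), conj_s (i := 3) (r := 34) (r' := 34) (by decide +kernel), conj_s (i := 3) (r := 36) (r' := 35) (by decide +kernel), conj_s (i := 3) (r := 42) (r' := 41) (by decide +kernel), conj_s (i := 3) (r := 33) (r' := 33) (by decide +kernel)]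
    all_goals normX
  exact Rch.step (nS_mem_group (by decide)) e h fun h' => n265 hx25 h'

lemma n334 {x25 x28 x30 x37 x32 x35 x40 x46 x39 x45 x29 x41 x44 x47 x38 x43 x36 : K} (hx25 : x25 ≠ 0) (hx29 : x29 ≠ 0)
    (h : (X 25 (x25) * (X 28 (x28) * (X 30 (x30) * (X 37 (x37) * (X 32 (x32) * (X 35 (x35) * (X 40 (x40) * (X 46 (x46) * (X 39 (x39) * (X 45 (x45) * (X 29 (x29) * (X 41 (x41) * (X 44 (x44) * (X 47 (x47) * (X 38 (x38) * (X 43 (x43) * (X 36 (x36)))))))))))))))))) * (X 25 (x25) * (X 28 (x28) * (X 30 (x30) * (X 37 (x37) * (X 32 (x32) * (X 35 (x35) * (X 40 (x40) * (X 46 (x46) * (X 39 (x39) * (X 45 (x45) * (X 29 (x29) * (X 41 (x41) * (X 44 (x44) * (X 47 (x47) * (X 38 (x38) * (X 43 (x43) * (X 36 (x36)))))))))))))))))) = 1) :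
    Rch (X 25 (x25) * (X 28 (x28) * (X 30 (x30) * (X 37 (x37) * (X 32 (x32) * (X 35 (x35) * (X 40 (x40) * (X 46 (x46) * (X 39 (x39) * (X 45 (x45) * (X 29 (x29) * (X 41 (x41) * (X 44 (x44) * (X 47 (x47) * (X 38 (x38) * (X 43 (x43) * (X 36 (x36)))))))))))))))))) := by
  have e : nS K g₄ 3 * (X 25 (x25) * (X 28 (x28) * (X 30 (x30) * (X 37 (x37) * (X 32 (x32) * (X 35 (x35) * (X 40 (x40) * (X 46 (x46) * (X 39 (x39) * (X 45 (x45) * (X 29 (x29) * (X 41 (x41) * (X 44 (x44) * (X 47 (x47) * (X 38 (x38) * (X 43 (x43) * (X 36 (x36)))))))))))))))))) * (nS K g₄ 3)⁻¹ = (X 28 (x29) * (X 37 (x38) * (X 32 (x32) * (X 35 (x36) * (X 31 (x30) * (X 40 (x28 * x38 + x29 * x37 + x30 * x36 + x40) * (X 46 (x25 * x38 ^ 2 + x30 * x36 ^ 2 + x47) * (X 39 (x25 * x38 + x28 * x36 + x29 * x35 + x39) * (X 45 (x45) * (X 29 (x28) * (X 44 (x35 * x38 + x36 * x37 + x44) * (X 47 (x25 * x45 + x46) * (X 38 (x37) * (X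 43 (x43) * (X 26 (x25) * (X 36 (x35) * (X 42 (x41)))))))))))))))))) := by
    rw [← MulAut.conj_apply]
    simp only [map_mul, conj_s (i := 3) (r := 25) (r' := 26) (by decide +kernel), conj_s (i := 3) (r := 28) (r' := 29) (by decide +kernel), conj_s (i := 3) (r := 30) (r' := 31) (by decide +kernel), conj_s (i := 3) (r := 37) (r' := 38) (by decide +kernel), conj_s (i := 3) (r := 32) (r' := 32) (by decide +kernel), conj_s (i := 3) (r := 35) (r' := 36) (by decide +kernel), conj_s (i := 3) (r := 40) (r' := 40) (by decide +kernel), conj_s (i := 3) (r := 46) (r' := 47) (by decide +kernel), conj_s (i := 3) (r := 39) (r' := 39) (by decide +kernel), conj_s (i := 3) (r := 45) (r' := 45) (by decide +kernel), conj_s (i := 3) (r := 29) (r' := 28) (by decide +kernel), conj_s (i := 3) (r := 41) (r' := 42) (by decide +kernel), conj_s (i := 3) (r := 44) (r' := 44) (by decide +kernel), conj_s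 (i := 3) (r := 47) (r' := 46) (by decide +kernel), conj_s (i := 3) (r := 38) (r' := 37) (by decide +kernel), conj_s (i := 3) (r := 43) (r' := 43) (by decide +kernel), conj_s (i := 3) (r := 36) (r' := 35) (by decide +kernel)]
    all_goals normX
  exact Rch.step (nS_mem_group (by decide)) e h fun h' => n282 hx29 hx25 h'

lemma n335 {x25 x28 x30 x37 x32 x35 x40 x46 x39 x45 x29 x41 x44 x47 x38 x43 x36 x42 : K} (hx25 : x25 ≠ 0) (hx29 : x29 ≠ 0)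
    (h : (X 25 (x25) * (X 28 (x28) * (X 30 (x30) * (X 37 (x37) * (X 32 (x32) * (X 35 (x35) * (X 40 (x40) * (X 46 (x46) * (X 39 (x39) * (X 45 (x45) * (X 29 (x29) * (X 41 (x41) * (X 44 (x44) * (X 47 (x47) * (X 38 (x38) * (X 43 (x43) * (X 36 (x36) * (X 42 (x42))))))))))))))))))) * (X 25 (x25) * (X 28 (x28) * (X 30 (x30) * (X 37 (x37) * (X 32 (x32) * (X 35 (x35) * (X 40 (x40) * (X 46 (x46) * (X 39 (x39) * (X 45 (x45) * (X 29 (x29) * (X 41 (x41) * (X 44 (x44) * (X 47 (x47) * (X 38 (x38) * (X 43 (x43) * (X 36 (x36) * (X 42 (x42))))))))))))))))))) = 1) :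
    Rch (X 25 (x25) * (X 28 (x28) * (X 30 (x30) * (X 37 (x37) * (X 32 (x32) * (X 35 (x35) * (X 40 (x40) * (X 46 (x46) * (X 39 (x39) * (X 45 (x45) * (X 29 (x29) * (X 41 (x41) * (X 44 (x44) * (X 47 (x47) * (X 38 (x38) * (X 43 (x43) * (X 36 (x36) * (X 42 (x42))))))))))))))))))) := by
  have e : (X 25 (x25) * (X 28 (x28) * (X 30 (x30) * (X 37 (x37) * (X 32 (x32) * (X 35 (x35) * (X 40 (x40) * (X 46 (x46) * (X 39 (x39) * (X 45 (x45) * (X 29 (x29) * (X 41 (x41) * (X 44 (x44) * (X 47 (x47) * (X 38 (x38) * (X 43 (x43) * (X 36 (x36) * (X 42 (x42))))))))))))))))))) * (X 25 (x25) * (X 28 (x28) * (X 30 (x30) * (X 37 (x37) * (X 32 (x32) * (X 35 (x35) * (X 40 (x40) * (X 46 (x46) * (X 39 (x39) * (X 45 (x45) * (X 29 (x29) * (X 41 (x41) * (X 44 (x44) * (X 47 (x47) * (X 38 (x38) * (X 43 (x43) * (X 36 (x36) * (X 42 (x42))))))))))))))))))) = Z (0, 0) (0, 0) (0, 0) (0, 0) (x28 * x38 + x29 * x37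 + x30 * x36, x25 * x30 * x42 + x25 * x45 + x28 ^ 2 * x42 + x30 * x43 + x32 * x41) (x25 * x38 + x28 * x36 + x29 * x35, x30 * x42) (0, 0) (x28 * x42 + x29 * x41 + x35 * x38 + x36 * x37, x25 * x38 ^ 2 + x29 ^ 2 * x41 + x30 * x36 ^ 2 + x32 * x42) (0, x25 * x42) (0, 0) (0, 0) (0, 0) := by
    unfold Z
    normX
  have e' := Z_inj (e.symm.trans (h.trans one_Z))
  obtain ⟨-, -, -, -, -, -, -, -, e8, -, -, -⟩ := e'
  have z42 : x42 = 0 := zero_of (congrArg Prod.snd e8) fun hx42 =>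
    (mul_ne_zero hx25 hx42)
  subst z42
  simp only [X_zero, one_mul, mul_one] at h ⊢
  exact n334 hx25 hx29 h

lemma n336 {x25 x28 x30 x37 x32 x35 x40 x46 x39 x45 x29 x41 x44 x47 x38 x43 x34 x36 x42 x33 : K} (hx25 : x25 ≠ 0) (hx29 : x29 ≠ 0)
    (h : (X 25 (x25) * (X 28 (x28) * (X 30 (x30) * (X 37 (x37) * (X 32 (x32) * (X 35 (x35) * (X 40 (x40) * (X 46 (x46) * (X 39 (x39) * (X 45 (x45) * (X 29 (x29) * (X 41 (x41) * (X 44 (x44) * (X 47 (x47) * (X 38 (x38) * (X 43 (x43) * (X 34 (x34) * (X 36 (x36) * (X 42 (x42) * (X 33 (x33))))))))))))))))))))) * (X 25 (x25) * (X 28 (x28) * (X 30 (x30) * (X 37 (x37) * (X 32 (x32) * (X 35 (x35) * (X 40 (x40) * (X 46 (x46) * (X 39 (x39) * (X 45 (x45) * (X 29 (x29) * (X 41 (x41) * (X 44 (x44) * (X 47 (x47) * (X 38 (x38) * (X 43 (x43) * (X 34 (x34) * (X 36 (x36) * (X 42 (x42) * (X 33 (x33))))))))))))))))))))) = 1) :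
    Rch (X 25 (x25) * (X 28 (x28) * (X 30 (x30) * (X 37 (x37) * (X 32 (x32) * (X 35 (x35) * (X 40 (x40) * (X 46 (x46) * (X 39 (x39) * (X 45 (x45) * (X 29 (x29) * (X 41 (x41) * (X 44 (x44) * (X 47 (x47) * (X 38 (x38) * (X 43 (x43) * (X 34 (x34) * (X 36 (x36) * (X 42 (x42) * (X 33 (x33))))))))))))))))))))) := by
  have e : (X 25 (x25) * (X 28 (x28) * (X 30 (x30) * (X 37 (x37) * (X 32 (x32) * (X 35 (x35) * (X 40 (x40) * (X 46 (x46) * (X 39 (x39) * (X 45 (x45) * (X 29 (x29) * (X 41 (x41) * (X 44 (x44) * (X 47 (x47) * (X 38 (x38) * (X 43 (x43) * (X 34 (x34) * (X 36 (x36) * (X 42 (x42) * (X 33 (x33))))))))))))))))))))) * (X 25 (x25) * (X 28 (x28) * (X 30 (x30) * (X 37 (x37) * (X 32 (x32) * (X 35 (x35) * (X 40 (x40) * (X 46 (x46) * (X 39 (x39) * (X 45 (x45) * (X 29 (x29) * (X 41 (x41) * (X 44 (x44) * (X 47 (x47) * (X 38 (x38) * (X 43 (x43) * (X 34 (x34) * (X 36 (x36) * (X 42 (x42)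 * (X 33 (x33))))))))))))))))))))) = Z (0, 0) (0, 0) (x28 * x34 + x30 * x33, 0) (x25 * x34 + x28 * x33, 0) (x28 * x29 * x34 + x28 * x38 + x29 * x30 * x33 + x29 * x37 + x30 * x36 + x32 * x34, x25 * x30 * x42 + x25 * x32 * x34 ^ 2 + x25 * x45 + x28 ^ 2 * x42 + x30 * x32 * x33 ^ 2 + x30 * x43 + x32 * x41) (x25 * x29 * x34 + x25 * x38 + x28 * x29 * x33 + x28 * x36 + x29 * x35 + x32 * x33, x30 * x42 + x32 * x34 ^ 2) (0, x25 * x34 ^ 2 + x30 * x33 ^ 2) (x25 * x29 * x34 ^ 2 + x25 * x34 * x38 + x28 * x33 * x38 + x28 * x34 * x36 + x28 * x42 + x29 * x30 * x33 ^ 2 + x29 * x41 + x30 * x33 * x36 + x32 * x33 * x34 + x33 * x40 + x34 * x39 + x35 * x38 + x36 * x37, x25 * x29 ^ 2 * x34 ^ 2 + x25 * x38 ^ 2 + x29 ^ 2 * x30 * x33 ^ 2 + x29 ^ 2 * x41 + x30 * x36 ^ 2 + x32 * x42) (x29 * x34, x25 * x42 + x32 * x33 ^ 2) (0, 0) (x29 * x33, 0) (0, 0) := by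
    unfold Z
    normX
  have e' := Z_inj (e.symm.trans (h.trans one_Z))
  obtain ⟨-, -, -, -, -, -, -, -, e8, -, e10, -⟩ := e'
  have z34 : x34 = 0 := zero_of (congrArg Prod.fst e8) fun hx34 =>
    (mul_ne_zero hx29 hx34)
  have z33 : x33 = 0 := zero_of (congrArg Prod.fst e10) fun hx33 =>
    (mul_ne_zero hx29 hx33)
  subst z34 z33
  simp only [X_zero, one_mul, mul_one] at h ⊢
  exact n335 hx25 hx29 h

lemma n337 {x25 x28 x30 x37 x32 x35 x40 x46 x39 x45 x29 x41 x44 x47 x38 x43 x34 x36 x42 x33 : K} (hx25 : x25 ≠ 0)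
    (h : (X 25 (x25) * (X 28 (x28) * (X 30 (x30) * (X 37 (x37) * (X 32 (x32) * (X 35 (x35) * (X 40 (x40) * (X 46 (x46) * (X 39 (x39) * (X 45 (x45) * (X 29 (x29) * (X 41 (x41) * (X 44 (x44) * (X 47 (x47) * (X 38 (x38) * (X 43 (x43) * (X 34 (x34) * (X 36 (x36) * (X 42 (x42) * (X 33 (x33))))))))))))))))))))) * (X 25 (x25) * (X 28 (x28) * (X 30 (x30) * (X 37 (x37) * (X 32 (x32) * (X 35 (x35) * (X 40 (x40) * (X 46 (x46) * (X 39 (x39) * (X 45 (x45) * (X 29 (x29) * (X 41 (x41) * (X 44 (x44) * (X 47 (x47) * (X 38 (x38) * (X 43 (x43) * (X 34 (x34) * (X 36 (x36) * (X 42 (x42) * (X 33 (x33))))))))))))))))))))) = 1) :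
    Rch (X 25 (x25) * (X 28 (x28) * (X 30 (x30) * (X 37 (x37) * (X 32 (x32) * (X 35 (x35) * (X 40 (x40) * (X 46 (x46) * (X 39 (x39) * (X 45 (x45) * (X 29 (x29) * (X 41 (x41) * (X 44 (x44) * (X 47 (x47) * (X 38 (x38) * (X 43 (x43) * (X 34 (x34) * (X 36 (x36) * (X 42 (x42) * (X 33 (x33))))))))))))))))))))) := by
  rcases eq_or_ne x29 0 with rfl | hx29
  · simp only [X_zero, one_mul, mul_one] at h ⊢
    exact n333 hx25 h
  · exact n336 hx25 hx29 h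

lemma n338 {x25 x28 x30 x37 x32 x35 x31 x40 x46 x39 x45 x29 x41 x44 x47 x38 x43 x34 x36 x42 x33 : K} (hx25 : x25 ≠ 0)
    (h : (X 25 (x25) * (X 28 (x28) * (X 30 (x30) * (X 37 (x37) * (X 32 (x32) * (X 35 (x35) * (X 31 (x31) * (X 40 (x40) * (X 46 (x46) * (X 39 (x39) * (X 45 (x45) * (X 29 (x29) * (X 41 (x41) * (X 44 (x44) * (X 47 (x47) * (X 38 (x38) * (X 43 (x43) * (X 34 (x34) * (X 36 (x36) * (X 42 (x42) * (X 33 (x33)))))))))))))))))))))) * (X 25 (x25) * (X 28 (x28) * (X 30 (x30) * (X 37 (x37) * (X 32 (x32) * (X 35 (x35) * (X 31 (x31) * (X 40 (x40) * (X 46 (x46) * (X 39 (x39) * (X 45 (x45) * (X 29 (x29) * (X 41 (x41) * (X 44 (x44) * (X 47 (x47) * (X 38 (x38) * (X 43 (x43) * (X 34 (x34) * (X 36 (x36) * (X 42 (x42) * (X 33 (x33)))))))))))))))))))))) = 1) :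
    Rch (X 25 (x25) * (X 28 (x28) * (X 30 (x30) * (X 37 (x37) * (X 32 (x32) * (X 35 (x35) * (X 31 (x31) * (X 40 (x40) * (X 46 (x46) * (X 39 (x39) * (X 45 (x45) * (X 29 (x29) * (X 41 (x41) * (X 44 (x44) * (X 47 (x47) * (X 38 (x38) * (X 43 (x43) * (X 34 (x34) * (X 36 (x36) * (X 42 (x42) * (X 33 (x33)))))))))))))))))))))) := by
  have e : (X 25 (x25) * (X 28 (x28) * (X 30 (x30) * (X 37 (x37) * (X 32 (x32) * (X 35 (x35) * (X 31 (x31) * (X 40 (x40) * (X 46 (x46) * (X 39 (x39) * (X 45 (x45) * (X 29 (x29) * (X 41 (x41) * (X 44 (x44) * (X 47 (x47) * (X 38 (x38) * (X 43 (x43) * (X 34 (x34) * (X 36 (x36) * (X 42 (x42) * (X 33 (x33)))))))))))))))))))))) * (X 25 (x25) * (X 28 (x28) * (X 30 (x30) * (X 37 (x37) * (X 32 (x32) * (X 35 (x35) * (X 31 (x31) * (X 40 (x40) * (X 46 (x46) * (X 39 (x39) * (X 45 (x45) * (X 29 (x29) * (X 41 (x41) * (X 44 (x44) * (X 47 (x47) * (X 38 (x38) * (X 43 (x43)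 * (X 34 (x34) * (X 36 (x36) * (X 42 (x42) * (X 33 (x33)))))))))))))))))))))) = Z (0, 0) (0, 0) (x28 * x34 + x30 * x33, x25 * x31) (x25 * x34 + x28 * x33, 0) (x25 * x31 * x34 + x28 * x29 * x34 + x28 * x31 * x33 + x28 * x38 + x29 * x30 * x33 + x29 * x37 + x30 * x36 + x31 * x35 + x32 * x34, x25 * x30 * x42 + x25 * x32 * x34 ^ 2 + x25 * x45 + x25 ^ 2 * x31 * x34 ^ 2 + x28 ^ 2 * x31 * x33 ^ 2 + x28 ^ 2 * x42 + x30 * x32 * x33 ^ 2 + x30 * x43 + x31 * x35 ^ 2 + x32 * x41) (x25 * x29 * x34 + x25 * x38 + x28 * x29 * x33 + x28 * x36 + x29 * x35 + x32 * x33, x25 * x31 * x34 ^ 2 + x30 * x31 * x33 ^ 2 + x30 * x42 + x31 * x41 + x32 * x34 ^ 2) (0, x25 * x34 ^ 2 + x30 * x33 ^ 2) (x25 * x29 * x34 ^ 2 + x25 * x34 * x38 + x28 * x33 * x38 + x28 * x34 * x36 + x28 * x42 + x29 * x30 * x33 ^ 2 + x29 * x41 + x30 * x33 * x36 + x32 * x33 * x34 + x33 * x40 + x34 * x39 + x35 * x38 + x36 * x37, x25 *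 x29 ^ 2 * x34 ^ 2 + x25 * x31 * x42 + x25 * x38 ^ 2 + x29 ^ 2 * x30 * x33 ^ 2 + x29 ^ 2 * x41 + x30 * x36 ^ 2 + x31 * x32 * x33 ^ 2 + x31 * x43 + x32 * x42) (x29 * x34 + x31 * x33, x25 * x42 + x32 * x33 ^ 2) (0, 0) (x29 * x33, x31 * x33 ^ 2) (0, 0) := by
    unfold Z
    normX
  have e' := Z_inj (e.symm.trans (h.trans one_Z))
  obtain ⟨-, -, e2, -, -, -, -, -, -, -, -, -⟩ := e'
  have z31 : x31 = 0 := zero_of (congrArg Prod.snd e2) fun hx31 =>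
    (mul_ne_zero hx25 hx31)
  subst z31
  simp only [X_zero, one_mul, mul_one] at h ⊢
  exact n337 hx25 h

lemma n339 {x25 x28 x30 x37 x32 x35 x31 x40 x46 x39 x45 x29 x41 x44 x47 x38 x43 x34 x26 x36 x42 x33 : K} (hx25 : x25 ≠ 0)
    (h : (X 25 (x25) * (X 28 (x28) * (X 30 (x30) * (X 37 (x37) * (X 32 (x32) * (X 35 (x35) * (X 31 (x31) * (X 40 (x40) * (X 46 (x46) * (X 39 (x39) * (X 45 (x45) * (X 29 (x29) * (X 41 (x41) * (X 44 (x44) * (X 47 (x47) * (X 38 (x38) * (X 43 (x43) * (X 34 (x34) * (X 26 (x26) * (X 36 (x36) * (X 42 (x42) * (X 33 (x33))))))))))))))))))))))) * (X 25 (x25) * (X 28 (x28) * (X 30 (x30) * (X 37 (x37) * (X 32 (x32) * (X 35 (x35) * (X 31 (x31) * (X 40 (x40) * (X 46 (x46) * (X 39 (x39) * (X 45 (x45) * (X 29 (x29) * (X 41 (x41) * (X 44 (x44) * (X 47 (x47) * (X 38 (x38) * (X 43 (x43) * (X 34 (x34) * (X 26 (x26) * (X 36 (x36) * (X 42 (x42) * (X 33 (x33)))))))))))))))))))))))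 = 1) :
    Rch (X 25 (x25) * (X 28 (x28) * (X 30 (x30) * (X 37 (x37) * (X 32 (x32) * (X 35 (x35) * (X 31 (x31) * (X 40 (x40) * (X 46 (x46) * (X 39 (x39) * (X 45 (x45) * (X 29 (x29) * (X 41 (x41) * (X 44 (x44) * (X 47 (x47) * (X 38 (x38) * (X 43 (x43) * (X 34 (x34) * (X 26 (x26) * (X 36 (x36) * (X 42 (x42) * (X 33 (x33))))))))))))))))))))))) := by
  obtain ⟨d, hd⟩ : ∃ d : K, (x25) * d = x26 :=
    exists_lin hx25 _
  have hw : (d * x25 + x26) = 0 := by linear_combination hd + (x26) * CharTwo.two_eq_zero (R := K)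
  have e : X 24 d * (X 25 (x25) * (X 28 (x28) * (X 30 (x30) * (X 37 (x37) * (X 32 (x32) * (X 35 (x35) * (X 31 (x31) * (X 40 (x40) * (X 46 (x46) * (X 39 (x39) * (X 45 (x45) * (X 29 (x29) * (X 41 (x41) * (X 44 (x44) * (X 47 (x47) * (X 38 (x38) * (X 43 (x43) * (X 34 (x34) * (X 26 (x26) * (X 36 (x36) * (X 42 (x42) * (X 33 (x33))))))))))))))))))))))) * (X 24 d)⁻¹ = (X 25 (x25) * (X 28 (x28) * (X 30 (x30) * (X 37 (x37) * (X 32 (d * x25 * x30 + d * x28 ^ 2 + x32) * (X 35 (x35) * (X 31 (d * x30 + x31) * (X 40 (d * x28 * x37 + d * x30 * x35 + x40) * (X 46 (d * x25 * x37 ^ 2 + d * x30 * x35 ^ 2 + x46) * (X 39 (d * x25 * x37 + d * x28 * x35 + x39) * (X 45 (d * x37 ^ 2 + x45) * (X 29 (d * x28 + x29) * (X 41 (x41) * (X 44 (d * x35 * x37 + x44) * (X 47 (d * x25 * x45 + d * x31 * x35 ^ 2 + d * x46 + d ^ 2 * x25 * x37 ^ 2 + x47) * (X 38 (d * x37 + x38) * (X 43 (d * x25 * x41 + d * x35 ^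 2 + x43) * (X 34 (x34) * (X 26 (d * x25 + x26) * (X 36 (d * x25 * x34 + d * x35 + x36) * (X 42 (d * x25 * x34 ^ 2 + d * x41 + x42) * (X 33 (x33))))))))))))))))))))))) := by
    rw [inv_eq]
    normX
  rw [hw, X_zero] at e
  simp only [one_mul, mul_one] at e
  exact Rch.step (xG_mem_group g₄ 24 d) e h fun h' => n338 hx25 h'

lemma n340 {x27 x25 x28 x30 x37 x32 x35 x31 x40 x46 x39 x45 x29 x41 x44 x47 x38 x43 x34 x26 x36 x42 x33 x24 : K} (hx25 : x25 ≠ 0)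
    (h : (X 27 (x27) * (X 25 (x25) * (X 28 (x28) * (X 30 (x30) * (X 37 (x37) * (X 32 (x32) * (X 35 (x35) * (X 31 (x31) * (X 40 (x40) * (X 46 (x46) * (X 39 (x39) * (X 45 (x45) * (X 29 (x29) * (X 41 (x41) * (X 44 (x44) * (X 47 (x47) * (X 38 (x38) * (X 43 (x43) * (X 34 (x34) * (X 26 (x26) * (X 36 (x36) * (X 42 (x42) * (X 33 (x33) * (X 24 (x24))))))))))))))))))))))))) * (X 27 (x27) * (X 25 (x25) * (X 28 (x28) * (X 30 (x30) * (X 37 (x37) * (X 32 (x32) * (X 35 (x35) * (X 31 (x31) * (X 40 (x40) * (X 46 (x46) * (X 39 (x39) * (X 45 (x45) * (X 29 (x29) * (X 41 (x41) * (X 44 (x44) * (X 47 (x47) * (X 38 (x38) * (X 43 (x43) * (X 34 (x34) * (X 26 (x26) * (X 36 (x36) * (X 42 (x42) * (X 33 (x33) * (X 24 (x24))))))))))))))))))))))))) = 1) :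
    Rch (X 27 (x27) * (X 25 (x25) * (X 28 (x28) * (X 30 (x30) * (X 37 (x37) * (X 32 (x32) * (X 35 (x35) * (X 31 (x31) * (X 40 (x40) * (X 46 (x46) * (X 39 (x39) * (X 45 (x45) * (X 29 (x29) * (X 41 (x41) * (X 44 (x44) * (X 47 (x47) * (X 38 (x38) * (X 43 (x43) * (X 34 (x34) * (X 26 (x26) * (X 36 (x36) * (X 42 (x42) * (X 33 (x33) * (X 24 (x24))))))))))))))))))))))))) := by
  have e : (X 27 (x27) * (X 25 (x25) * (X 28 (x28) * (X 30 (x30) * (X 37 (x37) * (X 32 (x32) * (X 35 (x35) * (X 31 (x31) * (X 40 (x40) * (X 46 (x46) * (X 39 (x39) * (X 45 (x45) * (X 29 (x29) * (X 41 (x41) * (X 44 (x44) * (X 47 (x47) * (X 38 (x38) * (X 43 (x43) * (X 34 (x34) * (X 26 (x26) * (X 36 (x36) * (X 42 (x42) * (X 33 (x33) * (X 24 (x24))))))))))))))))))))))))) * (X 27 (x27) * (X 25 (x25) * (X 28 (x28) * (X 30 (x30) * (X 37 (x37) * (X 32 (x32) * (X 35 (x35) * (X 31 (x31) * (X 40 (x40) * (X 46 (x46) * (X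 39 (x39) * (X 45 (x45) * (X 29 (x29) * (X 41 (x41) * (X 44 (x44) * (X 47 (x47) * (X 38 (x38) * (X 43 (x43) * (X 34 (x34) * (X 26 (x26) * (X 36 (x36) * (X 42 (x42) * (X 33 (x33) * (X 24 (x24))))))))))))))))))))))))) = Z (0, 0) (x25 * x27, x25 * x27 ^ 2) (x27 * x28 * x33 + x27 * x35 + x28 * x34 + x30 * x33, x24 * x25 * x30 + x24 * x28 ^ 2 + x25 * x26 * x27 ^ 2 + x25 * x31 + x26 * x30) (x25 * x27 * x33 + x25 * x34 + x28 * x33, x24 * x30 + x26 * x27 ^ 2) (x24 * x25 * x27 * x30 * x33 + x24 * x25 * x30 * x34 + x24 * x27 * x28 ^ 2 * x33 + x24 * x28 * x37 + x24 * x28 ^ 2 * x34 + x24 * x30 * x35 + x25 * x26 * x27 ^ 2 * x34 + x25 * x26 * x27 ^ 3 * x33 + x25 * x27 * x31 * x33 + x25 * x31 * x34 + x26 * x27 * x30 * x33 + x26 * x27 * x37 + x26 * x27 ^ 2 * x35 + x26 * x30 * x34 + x27 * x28 * x29 * x33 + x27 * x28 * x36 + x27 * x32 * x33 + x27 * x39 + x28 * x29 * x34 + x28 * x31 * x33 +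 x28 * x38 + x29 * x30 * x33 + x29 * x37 + x30 * x36 + x31 * x35 + x32 * x34, x24 * x25 * x27 ^ 2 * x28 ^ 2 * x33 ^ 2 + x24 * x25 * x28 ^ 2 * x34 ^ 2 + x24 * x25 * x30 * x41 + x24 * x25 * x30 ^ 2 * x33 ^ 2 + x24 * x25 * x37 ^ 2 + x24 * x25 ^ 2 * x27 ^ 2 * x30 * x33 ^ 2 + x24 * x25 ^ 2 * x30 * x34 ^ 2 + x24 * x28 ^ 2 * x30 * x33 ^ 2 + x24 * x28 ^ 2 * x41 + x24 * x30 * x35 ^ 2 + x25 * x26 * x27 ^ 2 * x41 + x25 * x26 * x30 * x34 ^ 2 + x25 * x27 ^ 2 * x32 * x33 ^ 2 + x25 * x27 ^ 2 * x43 + x25 * x30 * x42 + x25 * x32 * x34 ^ 2 + x25 * x45 + x25 ^ 2 * x26 * x27 ^ 2 * x34 ^ 2 + x25 ^ 2 * x26 * x27 ^ 4 * x33 ^ 2 + x25 ^ 2 * x27 ^ 2 * x31 * x33 ^ 2 + x25 ^ 2 * x31 * x34 ^ 2 + x26 * x27 ^ 2 * x35 ^ 2 + x26 * x30 * x41 + x26 * x30 ^ 2 * x33 ^ 2 + x26 * x37 ^ 2 + x28 ^ 2 * x31 * x33 ^ 2 + x28 ^ 2 * x42 + x30 * x32 * x33 ^ 2 + x30 * x43 + x31 * x35 ^ 2 + x32 * x41) (x24 * x25 * x30 * x33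 + x24 * x25 * x37 + x24 * x28 * x35 + x24 * x28 ^ 2 * x33 + x25 * x26 * x27 ^ 2 * x33 + x25 * x27 * x29 * x33 + x25 * x27 * x36 + x25 * x29 * x34 + x25 * x38 + x26 * x27 * x35 + x26 * x30 * x33 + x26 * x37 + x28 * x29 * x33 + x28 * x36 + x29 * x35 + x32 * x33, x24 * x27 ^ 2 * x28 ^ 2 * x33 ^ 2 + x24 * x28 ^ 2 * x34 ^ 2 + x24 * x30 * x41 + x24 * x30 ^ 2 * x33 ^ 2 + x24 * x37 ^ 2 + x25 * x27 ^ 2 * x31 * x33 ^ 2 + x25 * x31 * x34 ^ 2 + x26 * x27 ^ 2 * x41 + x26 * x30 * x34 ^ 2 + x27 ^ 2 * x32 * x33 ^ 2 + x27 ^ 2 * x43 + x30 * x31 * x33 ^ 2 + x30 * x42 + x31 * x41 + x32 * x34 ^ 2) (x24 * x28 + x26 * x27, x25 * x27 ^ 2 * x33 ^ 2 + x25 * x34 ^ 2 + x30 * x33 ^ 2) (x24 * x25 * x27 * x30 * x33 ^ 2 + x24 * x25 * x27 * x33 * x37 + x24 * x25 * x27 ^ 2 * x28 * x33 ^ 2 + x24 * x25 * x28 * x34 ^ 2 + x24 * x25 * x30 * x33 * x34 + x24 * x25 * x34 * x37 + x24 * x27 * x28 * x33 * x35 + x24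 * x27 * x28 ^ 2 * x33 ^ 2 + x24 * x28 * x30 * x33 ^ 2 + x24 * x28 * x33 * x37 + x24 * x28 * x34 * x35 + x24 * x28 * x41 + x24 * x28 ^ 2 * x33 * x34 + x24 * x30 * x33 * x35 + x24 * x35 * x37 + x25 * x26 * x27 * x34 ^ 2 + x25 * x26 * x27 ^ 2 * x33 * x34 + x25 * x27 * x33 * x38 + x25 * x27 * x34 * x36 + x25 * x27 ^ 2 * x29 * x33 ^ 2 + x25 * x27 ^ 2 * x33 * x36 + x25 * x29 * x34 ^ 2 + x25 * x34 * x38 + x26 * x27 * x34 * x35 + x26 * x27 * x41 + x26 * x30 * x33 * x34 + x26 * x34 * x37 + x27 * x32 * x33 ^ 2 + x27 * x33 * x39 + x27 * x35 * x36 + x27 * x43 + x28 * x33 * x38 + x28 * x34 * x36 + x28 * x42 + x29 * x30 * x33 ^ 2 + x29 * x41 + x30 * x33 * x36 + x32 * x33 * x34 + x33 * x40 + x34 * x39 + x35 * x38 + x36 * x37, x24 * x25 * x30 * x31 * x33 ^ 2 + x24 * x25 * x45 + x24 * x26 * x27 ^ 2 * x28 ^ 2 * x33 ^ 2 + x24 * x26 * x30 ^ 2 * x33 ^ 2 + x24 * x26 * x37 ^ 2 + x24 * x28 ^ 2 *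 x31 * x33 ^ 2 + x24 * x28 ^ 2 * x42 + x24 * x30 * x32 * x33 ^ 2 + x24 * x30 * x43 + x24 * x31 * x35 ^ 2 + x24 * x46 + x24 ^ 2 * x25 * x27 ^ 2 * x28 ^ 2 * x33 ^ 2 + x24 ^ 2 * x25 * x28 ^ 2 * x34 ^ 2 + x24 ^ 2 * x25 * x30 ^ 2 * x33 ^ 2 + x24 ^ 2 * x25 * x37 ^ 2 + x24 ^ 2 * x28 ^ 2 * x41 + x25 * x26 * x27 ^ 2 * x31 * x33 ^ 2 + x25 * x26 ^ 2 * x27 ^ 2 * x34 ^ 2 + x25 * x27 ^ 2 * x29 ^ 2 * x33 ^ 2 + x25 * x27 ^ 2 * x36 ^ 2 + x25 * x29 ^ 2 * x34 ^ 2 + x25 * x31 * x42 + x25 * x38 ^ 2 + x26 * x27 ^ 2 * x32 * x33 ^ 2 + x26 * x27 ^ 2 * x43 + x26 * x30 * x31 * x33 ^ 2 + x26 * x30 * x42 + x26 * x45 + x26 ^ 2 * x27 ^ 2 * x41 + x29 ^ 2 * x30 * x33 ^ 2 + x29 ^ 2 * x41 + x30 * x36 ^ 2 + x31 * x32 * x33 ^ 2 + x31 * x43 + x32 * x42) (x24 * x27 * x28 * x33 + x24 * x28 * x34 + x24 * x30 * x33 + x24 * x37 + x26 * x27 * x34 + x27 * x29 * x33 + x27 * x36 + x29 * x34 + x31 * x33, x24 * x25 * x30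 * x33 ^ 2 + x24 * x25 * x41 + x24 * x28 ^ 2 * x33 ^ 2 + x24 * x35 ^ 2 + x25 * x26 * x27 ^ 2 * x33 ^ 2 + x25 * x42 + x26 * x30 * x33 ^ 2 + x26 * x41 + x32 * x33 ^ 2) (x27 * x33, x24 * x25) (x24 * x25 * x34 + x24 * x28 * x33 + x24 * x35 + x26 * x27 * x33 + x26 * x34 + x29 * x33, x24 * x25 * x34 ^ 2 + x24 * x30 * x33 ^ 2 + x24 * x41 + x26 * x27 ^ 2 * x33 ^ 2 + x26 * x34 ^ 2 + x31 * x33 ^ 2) (0, 0) := by
    unfold Z
    normX
  have e' := Z_inj (e.symm.trans (h.trans one_Z))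
  obtain ⟨-, e1, -, -, -, -, -, -, -, e9, -, -⟩ := e'
  have z27 : x27 = 0 := zero_of (congrArg Prod.fst e1) fun hx27 =>
    (mul_ne_zero hx25 hx27)
  have z24 : x24 = 0 := zero_of (congrArg Prod.snd e9) fun hx24 =>
    (mul_ne_zero hx24 hx25)
  subst z27 z24
  simp only [X_zero, one_mul, mul_one] at h ⊢
  exact n339 hx25 h

lemma n341 {x27 x25 x28 x30 x37 x32 x35 x31 x40 x46 x39 x45 x29 x41 x44 x47 x38 x43 x34 x26 x36 x42 x33 x24 : K}
    (h : (X 27 (x27) * (X 25 (x25) * (X 28 (x28) * (X 30 (x30) * (X 37 (x37) * (X 32 (x32) * (X 35 (x35) * (X 31 (x31) * (X 40 (x40) * (X 46 (x46) * (X 39 (x39) * (X 45 (x45) * (X 29 (x29) * (X 41 (x41) * (X 44 (x44) * (X 47 (x47) * (X 38 (x38) * (X 43 (x43) * (X 34 (x34) * (X 26 (x26) * (X 36 (x36) * (X 42 (x42) * (X 33 (x33) * (X 24 (x24))))))))))))))))))))))))) * (X 27 (x27) * (X 25 (x25) * (X 28 (x28) * (X 30 (x30) * (X 37 (x37) * (X 32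 (x32) * (X 35 (x35) * (X 31 (x31) * (X 40 (x40) * (X 46 (x46) * (X 39 (x39) * (X 45 (x45) * (X 29 (x29) * (X 41 (x41) * (X 44 (x44) * (X 47 (x47) * (X 38 (x38) * (X 43 (x43) * (X 34 (x34) * (X 26 (x26) * (X 36 (x36) * (X 42 (x42) * (X 33 (x33) * (X 24 (x24))))))))))))))))))))))))) = 1) :
    Rch (X 27 (x27) * (X 25 (x25) * (X 28 (x28) * (X 30 (x30) * (X 37 (x37) * (X 32 (x32) * (X 35 (x35) * (X 31 (x31) * (X 40 (x40) * (X 46 (x46) * (X 39 (x39) * (X 45 (x45) * (X 29 (x29) * (X 41 (x41) * (X 44 (x44) * (X 47 (x47) * (X 38 (x38) * (X 43 (x43) * (X 34 (x34) * (X 26 (x26) * (X 36 (x36) * (X 42 (x42) * (X 33 (x33) * (X 24 (x24))))))))))))))))))))))))) := by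
  rcases eq_or_ne x25 0 with rfl | hx25
  · simp only [X_zero, one_mul, mul_one] at h ⊢
    exact n332 h
  · exact n340 hx25 h

end CfsgLib.Chev.F4Inv
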