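/-
The four classes of involutions of type F4 in characteristic two.
-/
import Cfsg.Agent.Lib.Chev.F4Invol.Cent
import Cfsg.Agent.Lib.Chev.F4Invol.Red6
import Cfsg.Agent.Lib.Chev.SteinbergChar

set_option autoImplicit false
set_option maxRecDepth 100000
set_option maxHeartbeats 1000000
set_option linter.unusedSimpArgs false

namespace CfsgLib.Chev.F4Inv

open Cfsg.Lie Matrix CfsgLib.Chev CfsgLib.Chev.F42Invol

variable {K : Type*} [Field K] [CharP K 2]

local notation "g₄" => stdF4.good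

/-- coordinates supported on a list -/
def ind (s : List ℕ) : ℕ → K := fun r => if r ∈ s then 1 else 0

omit [CharP K 2] in
lemma ind_eq_one {s : List ℕ} {r : ℕ} (h : r ∈ s) : (ind s r : K) = 1 := if_pos h

omit [CharP K 2] in
lemma mem_of_ind {s : List ℕ} {r : ℕ} (h : (ind s r : K) ≠ 0) : r ∈ s := by
  by_contra hr
  exact h (if_neg hr)

omit [CharP K 2] in
lemma to44 {s : List ℕ} (hs : ∀ r ∈ s, r ∈ L44) : pw g₄ L39 (ind (K := K) s) = pw g₄ L44 (ind s) := by
  have h : ∀ r, r ∉ L44 → (ind s r : K) = 0 := fun r hr => if_neg fun h => hr (hs r h)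
  simp only [pw, L39, L44, List.map_cons, List.map_nil, List.prod_cons, List.prod_nil]
  simp [h 39 (by decide), h 40 (by decide), h 45 (by decide), h 46 (by decide), xG_zero]

lemma central_ind {s : List ℕ} (hs : ∀ r ∈ s, r ∈ L44) {y : GL chevF4.Idx K} (hy : y ∈ chevF4.posUnipotent K) :
    y * pw g₄ L39 (ind s) * y⁻¹ = pw g₄ L39 (ind s) := by
  rw [to44 hs]
  exact central44 hy _

/-- relevant data of a conjugation between central supports -/
lemma conj_data {x : GL chevF4.Idx K} {s : List ℕ} (hs : ∀ r ∈ s, r ∈ L44) {g : GL chevF4.Idx K}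
    (hg : g ∈ chevF4.group K) (e : g * x * g⁻¹ = pw g₄ L39 (ind s)) :
    ∃ n ∈ chevF4.monomialSubgroup K, ∃ τ, Acts g₄ n τ ∧ ∃ u ∈ chevF4.posUnipotent K, ∀ T₁ : ℕ → K,
      u * x * u⁻¹ = pw g₄ L39 T₁ → ∀ k ∈ L39, T₁ k ≠ 0 → τ k ∈ s := by
  obtain ⟨b, hb, n, hn, τ, hτ, u, hu, rfl⟩ := normal_form_exists stdF4 hg
  obtain ⟨v, hv, c, rfl⟩ := (mem_borel_iff g₄).1 hb
  refine ⟨n, hn, τ, hτ, u, UP_toNeg_le g₄ τ hu, fun T₁ h1 k hk hT => ?_⟩
  have key : n * pw g₄ L39 T₁ * n⁻¹ = pw g₄ L39 fun r => (chi chevF4 auxF4 c⁻¹ r : K) * ind s r := by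
    rw [← tor_pw c⁻¹ (L := L39) (by decide), map_inv, ← h1]
    have h2 := central_ind (K := K) hs (inv_mem hv)
    conv_rhs => rw [← h2]
    conv_rhs => rw [← e]
    group
  exact mem_of_ind fun h0 => (supp_core okV hn hτ key hk hT).2 (by rw [h0, mul_zero])

omit [CharP K 2] in
lemma len44 {s : List ℕ} (hs : ∀ r ∈ s, r ∈ L44) {n : GL chevF4.Idx K} (hn : n ∈ chevF4.monomialSubgroup K)
    {τ : ℕ → ℕ} (hτ : Acts g₄ n τ) {k : ℕ} (hk : k < chevF4.nroots) (h : τ k ∈ s) :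
    τ k = if chevF4.isLong k then 47 else 44 := by
  have := isLong_acts hn hτ hk
  have h' := hs _ h
  simp only [L44, List.mem_cons, List.not_mem_nil, or_false] at h'
  rcases h' with e | e <;> rw [e] at this ⊢ <;> rw [← this] <;> decide +kernel

/-- conjugate central representatives have the same support -/
theorem central_supp {s₁ s₂ : List ℕ} (h1 : ∀ r ∈ s₁, r ∈ L44) (h2 : ∀ r ∈ s₂, r ∈ L44) {g : GL chevF4.Idx K}
    (hg : g ∈ chevF4.group K) (e : g * pw g₄ L39 (ind s₁) * g⁻¹ = pw g₄ L39 (ind s₂)) :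
    ∀ r, r ∈ s₁ ↔ r ∈ s₂ := by
  have half : ∀ {s₁ s₂ : List ℕ}, (∀ r ∈ s₁, r ∈ L44) → (∀ r ∈ s₂, r ∈ L44) → ∀ {g : GL chevF4.Idx K},
      g ∈ chevF4.group K → g * pw g₄ L39 (ind s₁) * g⁻¹ = pw g₄ L39 (ind s₂) → ∀ r ∈ s₁, r ∈ s₂ := by
    intro s₁ s₂ h1 h2 g hg e r hr
    obtain ⟨n, hn, τ, hτ, u, hu, h⟩ := conj_data h2 hg e
    have hr44 := h1 r hr
    have hm := h (ind s₁) (central_ind h1 hu) r ((by decide : ∀ r ∈ L44, r ∈ L39) r hr44) (by rw [ind_eq_one hr]; exact one_ne_zero)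
    have hlt : r < chevF4.nroots := (by decide +kernel : ∀ r ∈ L44, r < chevF4.nroots) r hr44
    have he := len44 h2 hn hτ hlt hm
    simp only [L44, List.mem_cons, List.not_mem_nil, or_false] at hr44
    rcases hr44 with rfl | rfl
    · rwa [show τ 44 = 44 from he.trans (by decide +kernel)] at hm
    · rwa [show τ 47 = 47 from he.trans (by decide +kernel)] at hm
  exact fun r => ⟨half h1 h2 hg e r, half h2 h1 (inv_mem hg) (by rw [← e]; group) r⟩

lemma diff4447 : ∃ d ∈ List.range 48, ∀ j < 4, auxF4.a d j = auxF4.a 47 j - auxF4.a 44 j := by decide +kernel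

variable [Fintype K]

/-- the orthogonal pair is conjugate to no central representative -/
theorem mixed_not_central {s : List ℕ} (hs : ∀ r ∈ s, r ∈ L44) {g : GL chevF4.Idx K} (hg : g ∈ chevF4.group K) :
    g * (X 39 (1 : K) * X 45 1) * g⁻¹ ≠ pw g₄ L39 (ind s) := by
  intro e
  obtain ⟨n, hn, τ, hτ, u, hu, h⟩ := conj_data hs hg e
  obtain ⟨T₀, hT₀, e₀⟩ := p3_eq (K := K)
  obtain ⟨T₁, hT₁, e₁⟩ := conj_S39 hu hT₀
  rw [← e₀] at e₁
  change u * (X 39 (1 : K) * X 45 1) * u⁻¹ = _ at e₁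
  have h45 : T₁ 45 = 1 := coord45 hu hT₀ e₀ e₁
  have m1 := h T₁ e₁ 39 (by decide) (by rw [hT₁]; exact one_ne_zero)
  have m2 := h T₁ e₁ 45 (by decide) (by rw [h45]; exact one_ne_zero)
  have t1 : τ 39 = 44 := (len44 hs hn hτ (by decide +kernel) m1).trans (by decide +kernel)
  have t2 : τ 45 = 47 := (len44 hs hn hτ (by decide +kernel) m2).trans (by decide +kernel)
  obtain ⟨d, hd, hde⟩ := diff4447
  rw [List.mem_range] at hd
  obtain ⟨ρ, hρ, hinv⟩ := exists_inverse hn hτ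
  obtain ⟨j, hj, hne⟩ := no_diff (ρ d) (hρ.map.1 d hd)
  refine hne ?_
  have := hρ.map.lin (i := 1) (k := -1) (hτ.map.1 45 (by decide +kernel)) (hτ.map.1 39 (by decide +kernel)) hd
    (fun l hl => by rw [t1, t2, hde l hl]; ring) j hj
  rw [(hinv 45 (by decide +kernel)).1, (hinv 39 (by decide +kernel)).1] at this
  rw [this]
  ring

omit [Fintype K] in
lemma rep_facts : pw g₄ L39 (ind (K := K) [47]) = X 47 1 ∧ pw g₄ L39 (ind (K := K) [44]) = X 44 1 ∧
    pw g₄ L39 (ind (K := K) [44, 47]) = X 44 1 * X 47 1 := by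
  refine ⟨?_, ?_, ?_⟩ <;> rw [to44 (by decide)] <;> simp [pw, L44, ind, xG_zero]

/-- every involution is conjugate to a representative -/
theorem exists_class {y : GL chevF4.Idx K} (hy : y ∈ chevF4.group K) (h2 : orderOf y = 2) :
    ∃ r, IsRep r ∧ ∃ h ∈ chevF4.group K, h * y * h⁻¹ = r := by
  classical
  have : Fact (Nat.Prime 2) := ⟨Nat.prime_two⟩
  haveI : Finite ↥(chevF4.group K) := Finite.of_injective _ Subtype.val_injective
  set U := (chevF4.posUnipotent K).subgroupOf (chevF4.group K)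
  obtain ⟨m, hm, hcard⟩ := card_group_eq (F := K) stdF4 (p := 2)
  have hUcard : Nat.card U = Fintype.card K ^ (chevF4.nroots / 2) := by
    rw [Nat.card_congr (Subgroup.subgroupOfEquivOfLe (posUnipotent_le_group g₄)).toEquiv,
      card_posUnipotent stdF4]
  obtain ⟨n, -, hn⟩ := FiniteField.card K 2
  have hUp : IsPGroup 2 U :=
    IsPGroup.of_card (n := (n : ℕ) * (chevF4.nroots / 2)) (by rw [hUcard, hn, ← pow_mul])
  have hidx : ¬ 2 ∣ U.index := by
    have h1 := U.card_mul_index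
    rw [hUcard, hcard] at h1
    rwa [Nat.eq_of_mul_eq_mul_left (pow_pos Fintype.card_pos _) h1]
  set P : Sylow 2 ↥(chevF4.group K) := hUp.toSylow hidx
  set z : ↥(chevF4.group K) := ⟨y, hy⟩
  have hz : IsPGroup 2 (Subgroup.zpowers z) := IsPGroup.of_card (n := 1) (by
    rw [Nat.card_zpowers, pow_one]
    exact (Subgroup.orderOf_mk y hy).trans h2)
  obtain ⟨S, hS⟩ := hz.exists_le_sylow
  obtain ⟨k, hk⟩ := MulAction.exists_smul_eq ↥(chevF4.group K) S P
  have h3 : k * z * k⁻¹ ∈ U := by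
    have h4 : (P : Subgroup ↥(chevF4.group K)) = U := rfl
    rw [← h4, ← hk, Sylow.coe_subgroup_smul]
    exact ⟨z, hS (Subgroup.mem_zpowers z), rfl⟩
  set w := (k : GL chevF4.Idx K) * y * (k : GL chevF4.Idx K)⁻¹ with hw
  have hyy : y * y = 1 := by rw [← sq, ← h2, pow_orderOf_eq_one]
  have hww : w * w = 1 := by rw [hw, conj_mul, hyy, mul_one, mul_inv_cancel]
  obtain ⟨a0, b0, c1, a2, b2, c3, a4, b4, c5, a6, b6, c7, hZ⟩ :=
    exists_Z (Subgroup.mem_subgroupOf.1 h3 : w ∈ chevF4.posUnipotent K)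
  change w = _ at hZ
  rw [hZ] at hww
  have hR : Rch w := hZ ▸ n341 hww
  rcases hR with h1 | ⟨r, hr, x, hx, he⟩
  · rw [hw, conj_eq_one_iff] at h1
    rw [h1, orderOf_one] at h2
    omega
  · exact ⟨r, hr, x * k, mul_mem hx k.2, by rw [← he, hw]; group⟩

/-- the representatives are involutions of the group -/
theorem rep_invol {r : GL chevF4.Idx K} (hr : IsRep r) : r ∈ chevF4.group K ∧ orderOf r = 2 := by
  have hX : ∀ s t, X s t ∈ chevF4.group K := fun s t => xG_mem_group g₄ (F := K) s t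
  have hm : r ∈ chevF4.group K := by
    rcases hr with rfl | rfl | rfl | rfl
    exacts [hX _ _, hX _ _, mul_mem (hX _ _) (hX _ _), mul_mem (hX _ _) (hX _ _)]
  refine ⟨hm, orderOf_eq_prime_iff.2 ⟨?_, ?_⟩⟩
  · rw [sq]
    rcases hr with rfl | rfl | rfl | rfl <;>
      (sortX; simp [CharTwo.add_self_eq_zero, X_zero])
  · have key : ∀ T : ℕ → K, ∀ k ∈ L39, T k ≠ 0 → pw g₄ L39 T ≠ 1 := fun T k hk hT e => by
      have e0 : pw g₄ L39 T = pw g₄ L39 (fun _ => 0) := by rw [e]; simp [pw, xG_zero]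
      exact hT (pw_filter_inj stdF4 (by decide +kernel) e0 k hk)
    obtain ⟨r47, r44, r2⟩ := rep_facts (K := K)
    rcases hr with rfl | rfl | rfl | rfl
    · rw [← r47]; exact key _ 47 (by decide) (by rw [ind_eq_one (by decide)]; exact one_ne_zero)
    · rw [← r44]; exact key _ 44 (by decide) (by rw [ind_eq_one (by decide)]; exact one_ne_zero)
    · rw [← r2]; exact key _ 44 (by decide) (by rw [ind_eq_one (by decide)]; exact one_ne_zero)
    · obtain ⟨T₀, hT₀, e₀⟩ := p3_eq (K := K)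
      rw [← p3, e₀]
      exact key _ 39 (by decide) (by rw [hT₀]; exact one_ne_zero)

/-- distinct representatives are not conjugate -/
theorem rep_distinct {r r' : GL chevF4.Idx K} (hr : IsRep r) (hr' : IsRep r') {g : GL chevF4.Idx K}
    (hg : g ∈ chevF4.group K) (e : g * r * g⁻¹ = r') : r = r' := by
  obtain ⟨r47, r44, r2⟩ := rep_facts (K := K)
  have cls : ∀ {x : GL chevF4.Idx K}, IsRep x → x = X 39 1 * X 45 1 ∨
      ∃ s : List ℕ, (∀ r ∈ s, r ∈ L44) ∧ (s = [47] ∨ s = [44] ∨ s = [44, 47]) ∧ x = pw g₄ L39 (ind s) := by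
    rintro x (rfl | rfl | rfl | rfl)
    · exact .inr ⟨_, by decide, .inl rfl, r47.symm⟩
    · exact .inr ⟨_, by decide, .inr (.inl rfl), r44.symm⟩
    · exact .inr ⟨_, by decide, .inr (.inr rfl), r2.symm⟩
    · exact .inl rfl
  rcases cls hr with rfl | ⟨s, hs, hs', rfl⟩ <;> rcases cls hr' with rfl | ⟨t, ht, ht', rfl⟩
  · rfl
  · exact absurd e (mixed_not_central ht hg)
  · exact absurd (by rw [← e]; group) (mixed_not_central hs (inv_mem hg))
  · have hm := central_supp hs ht hg e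
    have h44 := hm 44
    have h47 := hm 47
    have key : s = t := by
      rcases hs' with rfl | rfl | rfl <;> rcases ht' with rfl | rfl | rfl <;>
        simp at h44 h47 ⊢
    rw [key]

end CfsgLib.Chev.F4Inv
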